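import Cfsg.Agent.H4.J2Fr
import Cfsg.Agent.H47.J2Local

/-! The model is a Sylow 2-subgroup of the Hall–Janko group. -/

set_option autoImplicit false

namespace Cfsg.Agent.H4.J2S

open Cfsg Cfsg.Spor Cfsg.Agent.H63 Cfsg.Agent.H67 Cfsg.Agent.H43 Cfsg.Agent.H47 Cfsg.Agent.H47.J2P
  Subgroup M Equiv

def dep (x : M) : ℕ := Nat.land (Nat.shiftRight (nat_lit 0x66647753577368627775666466647773666475737753866277738662686277715555664446645753666657757575668455556464664475538882977179718880) (Nat.mul 4 x.v)) 15

theorem dep_lt : ∀ y : M, y = 1 ∨ ∃ g ∈ [mk' 4, mk' 8, th], g * g = 1 ∧ dep (y * g) < dep y := by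
  decide +kernel

theorem hom_of_gen {Γ : Type*} [Group Γ] (f : M → Γ) (h1 : f 1 = 1)
    (h : ∀ x : M, ∀ g ∈ [mk' 4, mk' 8, th], f (x * g) = f x * f g) (x y : M) :
    f (x * y) = f x * f y := by
  induction hd : dep y using Nat.strong_induction_on generalizing y with
  | _ n ih =>
    rcases dep_lt y with rfl | ⟨g, hg, h2, h3⟩
    · rw [mul_one, h1, mul_one]
    · have e : y = y * g * g := by rw [mul_assoc, h2, mul_one]
      rw [e, ← mul_assoc x, h _ g hg, ih _ (hd ▸ h3) _ rfl, h (y * g) g hg, mul_assoc]

def wd (x : M) : ℕ := Nat.land (Nat.shiftRight (nat_lit 0x2050300000409010000030901000003010b00000105010000020502000002050100000105020000000b0400000b07030000000b0300000003050000000b010000070b0200000002090000000b020000000b07000000070b0000020901000000000b00000b030200000b0401000003050100000b030100000205070000000105000001050700000002050000070309000000040900000003090000070409000000050200000705010000070502000000050100000507040000000503000000040b0000000504000000090700000007090000010b0200000000090000090302000009040100000904020000090301000000090300000907040000000904000009070300000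7090100000009020000000901000000010b0000040b01000005040100000504020000050301000000050700000007050000040b03000000000500090b0301000b09030100090b0401000b090401000000090b0000000b0900000b09070000090b070000050b0400000b05040000050b0300000b05030000050b0100000b050100000b05020000050b0200000b07050000070b050000000b05000000050b000b05040100050b0401000b05030100050b030100000b09020000090b020000090b0100000b09010000090b0300000b09030000090b0400000b090400000000020000030301000003030200000000010000000704000000000300000007030000000004000009070500000709050000000905000000050900090504010005090401000905030100050903010000050903000009050300000509040000090504000009050200000509020000050901000009050100000003020000000401000000040200000003010000000007000000030300000703030000000000) (Nat.mul 40 x.v)) 0xffffffffff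

noncomputable def ev (w x : ℕ) : ℕ := evalW (Nat.mul (geo 100 7)) l_S w x

theorem mov_ev (w x : ℕ) : Mov 100 7 (wordP 100 l_S w) x (ev w x) :=
  mov_evalW (rep_geo (by decide) 7) l_S_ok w x

theorem ev_mul : ∀ x : M, ∀ g ∈ [mk' 4, mk' 8, th],
    ev (wd (x * g)) (lab 100 7) = ev (wd x) (ev (wd g) (lab 100 7)) := by decide +kernel

theorem ev_ne : ∀ x : M, ev (wd x) (lab 100 7) = lab 100 7 → x = 1 := by decide +kernel

theorem ev_z : ev (wd z) (lab 100 7) = h_a0.app (Nat.mul (geo 100 7)) (lab 100 7) := by
  decide +kernel

theorem wd_mul (x g : M) (hg : g ∈ [mk' 4, mk' 8, th]) :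
    wordP 100 l_S (wd (x * g)) = wordP 100 l_S (wd x) * wordP 100 l_S (wd g) := by
  have h := (mov_ev (wd g) (lab 100 7)).trans (mov_ev (wd x) _)
  rw [← ev_mul x g hg] at h
  exact Mov.perm_eq (mov_ev _ _) h (sepAt_lab (by decide))

noncomputable def embP : M →* Perm (Fin 100) :=
  MonoidHom.mk' (fun x => wordP 100 l_S (wd x)) (hom_of_gen (fun x => wordP 100 l_S (wd x))
    (by show wordP 100 l_S (wd 1) = 1; rw [show wd 1 = 0 by decide +kernel, wordP_zero]) wd_mul)

theorem embP_inj : Function.Injective embP :=
  (injective_iff_map_eq_one _).2 fun x hx => ev_ne x (by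
    have h := mov_ev (wd x) (lab 100 7)
    rw [show wordP 100 l_S (wd x) = 1 from hx] at h
    exact h.unique (Mov.refl _ _ _))

theorem embP_z : embP z = h_a0.toPerm 100 :=
  Mov.perm_eq (mov_ev _ _) (ev_z ▸ Net.mov_app (rep_geo (by decide) 7) h_a0_ok _)
    (sepAt_lab (by decide))

/-- The embedding of the model in the Hall–Janko group. -/
noncomputable def emb : M →* J2 :=
  eH0.symm.toMonoidHom.comp (embP.codRestrict (grp 100 h_E0) fun _ =>
    lK_le (lS_le_lK (wordP_mem _ _ _)))

theorem emb_z : emb z = xJ 0 := by
  apply eH0.injective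
  apply Subtype.ext
  rw [eH0_xJ_zero, ← embP_z]
  simp [emb]

theorem fr_emb : Fr emb := by
  have hi : Function.Injective emb :=
    eH0.symm.injective.comp fun _ _ c => embP_inj (congrArg Subtype.val c)
  have : Finite J2 := Nat.finite_of_card_ne_zero (by rw [card_J2]; decide)
  have hc : Nat.card emb.range = 128 := by
    rw [MonoidHom.range_eq_map, card_map_of_injective hi, card_top, card_M]
  refine ⟨hi, syl_mk le_top (IsPGroup.of_card (n := 7) hc) ?_⟩
  have h := emb.range.card_mul_index
  rw [hc, card_J2] at h
  rw [relIndex_top_right]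
  omega

theorem card_cent_emb : Nat.card C1[emb z] = 1920 := by
  rw [emb_z]
  obtain ⟨Q, _, hQ, -, ⟨e⟩⟩ := cent_xJ 0
  rw [card_eq_card_quotient_mul_card_subgroup Q, hQ, Nat.card_congr e.toEquiv,
    Nat.card_eq_fintype_card, card_alternatingGroup]
  simp [Nat.factorial]

end Cfsg.Agent.H4.J2S
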