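import Mathlib
import Cfsg.Agent.H17.KnDef2

/-!
# Automorphisms of the unitriangular group that keep the two groups of order 16
-/

set_option autoImplicit false
set_option maxRecDepth 100000
set_option synthInstance.maxSize 2000

namespace Cfsg.Agent.H4.KnAut

open Equiv Subgroup Cfsg.Agent.H17.Kn
open Cfsg.Agent.H11.A16 (x)

universe u

/-- A translation in coordinates. -/
def av (p q r s : ZMod 2) : N2 := xc p 0 4 * xc q 1 4 * xc r 2 4 * xc s 3 4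

theorem exA {a : N2} (h : a ∈ AA) : ∃ p q r s, a = av p q r s := by
  have h' : a = ⟨x (a.σ 0), fun _ => a.f 0⟩ := N2.ext (Equiv.ext h.1) (funext h.2)
  rw [h']; generalize a.σ 0 = m; generalize a.f 0 = c; revert m c; decide +kernel

theorem avm : ∀ p q r s p' q' r' s', av p q r s * (av p' q' r' s')⁻¹ =
    av (p + p') (q + q') (r + r') (s + s') := by decide +kernel

theorem avA : ∀ p q r s, av p q r s ∈ AA := by decide +kernel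

theorem avU : ∀ p q r s, av p q r s ∈ UU ↔ s = 0 := by decide +kernel

theorem avF : ∀ p q r s, av p q r s ∈ FF ↔ r = 0 ∧ s = 0 := by decide +kernel

theorem avP : ∀ p q r s, av p q r s ∈ AP ↔ q = 0 ∧ r = 0 ∧ s = 0 := by decide +kernel

theorem z1 : ∀ s : ZMod 2, s ≠ 0 → s = 1 := by decide

theorem AAP {a : N2} (h : a ∈ AA) (h' : a ∈ AP) : ∃ c, a = zp c := by
  obtain ⟨p, q, r, s, rfl⟩ := exA h
  obtain ⟨rfl, rfl, rfl⟩ := (avP ..).1 h'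
  exact ⟨p, by revert p; decide +kernel⟩

theorem zpc (c : ZMod 2) (u : N2) : zp c * u = u * zp c :=
  N2.ext (by simp [zp]) (funext fun p => by simp [zp, add_comm])

theorem zpa (s t : ZMod 2) : zp (s + t) = zp s * zp t :=
  N2.ext (by simp [zp]) (funext fun p => by simp [zp, add_comm])

theorem cm {X Y : Subgroup N2} {u a : N2}
    (i : ∀ a ∈ Y, ∀ b ∈ Y, a ∉ X → b ∉ X → a * b⁻¹ ∈ X) (hX : ∀ v ∈ X, u * v * u⁻¹ ∈ X)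
    (hX' : ∀ v ∈ X, u⁻¹ * v * u⁻¹⁻¹ ∈ X) (hY : ∀ v ∈ Y, u * v * u⁻¹ ∈ Y) (ha : a ∈ Y) :
    u * a * u⁻¹ * a⁻¹ ∈ X := by
  by_cases h : a ∈ X
  · exact X.mul_mem (hX a h) (X.inv_mem h)
  · refine i _ (hY a ha) a ha (fun k => h ?_) h
    simpa [mul_assoc] using hX' _ k

theorem cj {β : N2 → N2} (h : Au β T0) {d : N2} (hd : d ∈ T0) :
    Au (fun u => d⁻¹ * β u * d) T0 :=
  ⟨fun u hu => mul_mem (mul_mem (inv_mem hd) (h.mem u hu)) hd,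
    fun u hu v hv => by rw [h.mul u hu v hv]; group,
    fun u hu v hv e => h.inj u hu v hv (by simpa using e)⟩

/-- The fixed points. -/
def Fx {β : N2 → N2} (h : Em β T0) : Subgroup N2 where
  carrier := {u | u ∈ T0 ∧ β u = u}
  one_mem' := ⟨one_mem _, h.one⟩
  mul_mem' := fun {a b} ha hb => ⟨mul_mem ha.1 hb.1, by rw [h.mul a ha.1 b hb.1, ha.2, hb.2]⟩
  inv_mem' := fun {a} ha => ⟨inv_mem ha.1, by rw [h.inv ha.1, ha.2]⟩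

theorem cen {β : N2 → N2} (h : Em β T0) {X : Subgroup N2} (hX : X ≤ Fx h) {u : N2} (hu : u ∈ T0)
    (hn : ∀ a ∈ X, u * a * u⁻¹ ∈ X) : ∀ a ∈ X, Commute (u⁻¹ * β u) a := fun a ha => by
  have k : β u * β a * (β u)⁻¹ = β (u * a * u⁻¹) := h.self hu (hX ha).1
  rw [(hX ha).2, (hX (hn a ha)).2] at k
  have : β u * a = u * a * u⁻¹ * β u := by rw [← k]; group
  change u⁻¹ * β u * a = a * (u⁻¹ * β u)
  rw [mul_assoc, this]; group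

theorem xT : ∀ i j : Fin 5, i < j → xe i j ∈ T0 := by decide +kernel

theorem dA : ∀ p1 p2 q2 p3 q3 r3 : ZMod 2, ∃ d, d = ut ![![0, p1, p2, p3, 0], ![0, 0, q2, q3, 0],
    ![0, 0, 0, r3, 0], ![0, 0, 0, 0, 0], ![0, 0, 0, 0, 0]] ∧ d * xe 1 4 * d⁻¹ = av p1 1 0 0 ∧
    d * xe 2 4 * d⁻¹ = av p2 q2 1 0 ∧ d * xe 3 4 * d⁻¹ = av p3 q3 r3 1 := by
  simp only [exists_eq_left]; decide +kernel

theorem dP : ∀ q r s : ZMod 2, av 0 q r s * xe 0 1 * (av 0 q r s)⁻¹ = xe 0 1 * zp q ∧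
    av 0 q r s * xe 0 2 * (av 0 q r s)⁻¹ = xe 0 2 * zp r ∧
    av 0 q r s * xe 0 3 * (av 0 q r s)⁻¹ = xe 0 3 * zp s := by decide +kernel

theorem comm {β : N2 → N2} (h : Em β T0) {s t : N2} (hs : s ∈ T0) (ht : t ∈ T0) :
    β (s * t * s⁻¹ * t⁻¹) = β s * β t * (β s)⁻¹ * (β t)⁻¹ := by
  rw [h.mul _ (mul_mem (mul_mem hs ht) (inv_mem hs)) _ (inv_mem ht), h.inv ht, ← h.self hs ht]

theorem stepA (hB : Base.{u}) {α : N2 → N2} (h : Au α T0) (hA : ∀ u ∈ AA, α u ∈ AA)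
    (hP : ∀ u ∈ AP, α u ∈ AP) : ∃ d ∈ T0, ∀ a ∈ AA, d⁻¹ * α a * d = a := by
  have e : Em α T0 := ⟨h.mul, h.inj⟩
  have n := hB.m2.nrm
  have nA : ∀ u ∈ T0, ∀ v ∈ AA, u * v * u⁻¹ ∈ AA := fun u hu => ((n u).2.2.2.1 hu.1).1
  have nP : ∀ u ∈ T0, ∀ v ∈ AP, u * v * u⁻¹ ∈ AP := fun u hu => ((n u).2.2.2.1 hu.1).2
  have nF : ∀ u ∈ T0, ∀ v ∈ FF, u * v * u⁻¹ ∈ FF := fun u hu => ((n u).2.2.1 hu.2).1
  have nU : ∀ u ∈ T0, ∀ v ∈ UU, u * v * u⁻¹ ∈ UU := fun u hu => ((n u).2.2.2.2.2 hu).2.2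
  have c3 : ∀ u ∈ T0, ∀ a ∈ AA, u * a * u⁻¹ * a⁻¹ ∈ UU := fun u hu a ha => by
    refine cm (Y := AA) (fun a ha b hb a' b' => ?_) (nU u hu) (nU _ (inv_mem hu)) (nA u hu) ha
    obtain ⟨p, q, r, s, rfl⟩ := exA ha
    obtain ⟨p', q', r', s', rfl⟩ := exA hb
    rw [avU] at a' b'
    rw [avm, avU, z1 s a', z1 s' b']; rfl
  have c2 : ∀ u ∈ T0, ∀ a ∈ AA, a ∈ UU → u * a * u⁻¹ * a⁻¹ ∈ FF := fun u hu a ha ha' => by
    refine cm (Y := AA ⊓ UU) (fun a ha b hb a' b' => ?_) (nF u hu) (nF _ (inv_mem hu))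
      (fun v hv => ⟨nA u hu v hv.1, nU u hu v hv.2⟩) ⟨ha, ha'⟩
    obtain ⟨p, q, r, s, rfl⟩ := exA ha.1
    obtain ⟨p', q', r', s', rfl⟩ := exA hb.1
    obtain rfl := (avU ..).1 ha.2
    obtain rfl := (avU ..).1 hb.2
    rw [avF] at a' b'
    rw [avm, avF, z1 r (fun k => a' ⟨k, rfl⟩), z1 r' (fun k => b' ⟨k, rfl⟩)]; exact ⟨rfl, rfl⟩
  have c1 : ∀ u ∈ T0, ∀ a ∈ AA, a ∈ FF → u * a * u⁻¹ * a⁻¹ ∈ AP := fun u hu a ha ha' => by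
    refine cm (Y := AA ⊓ FF) (fun a ha b hb a' b' => ?_) (nP u hu) (nP _ (inv_mem hu))
      (fun v hv => ⟨nA u hu v hv.1, nF u hu v hv.2⟩) ⟨ha, ha'⟩
    obtain ⟨p, q, r, s, rfl⟩ := exA ha.1
    obtain ⟨p', q', r', s', rfl⟩ := exA hb.1
    obtain ⟨rfl, rfl⟩ := (avF ..).1 ha.2
    obtain ⟨rfl, rfl⟩ := (avF ..).1 hb.2
    rw [avP] at a' b'
    rw [avm, avP, z1 q (fun k => a' ⟨k, rfl, rfl⟩), z1 q' (fun k => b' ⟨k, rfl, rfl⟩)]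
    exact ⟨rfl, rfl, rfl⟩
  have f : xe 2 4 = xe 2 3 * xe 3 4 * (xe 2 3)⁻¹ * (xe 3 4)⁻¹ ∧
      xe 1 4 = xe 1 2 * xe 2 4 * (xe 1 2)⁻¹ * (xe 2 4)⁻¹ ∧ (∀ i, xe i 4 ∈ AA) ∧ z2 ∈ AA ∧ z2 ∈ AP ∧
      z2 ≠ 1 ∧ xe 1 4 ≠ 1 ∧ xe 1 4 ≠ z2 ∧ xe 0 4 = z2 ∧ xe 4 4 = 1 ∧
      ∀ c, zp c = 1 ∨ zp c = z2 := by decide +kernel
  obtain ⟨f2, f1, fA, zA, zP, z0, x0, xz, x04, x44, zz⟩ := f
  have zT := AA_le_T0 zA
  have az : α z2 = z2 := by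
    obtain ⟨c, hc⟩ := AAP (hA _ zA) (hP _ zP)
    rcases zz c with k | k
    · exact absurd (h.inj _ zT _ (one_mem _) (by rw [hc, k, e.one])) z0
    · rw [hc, k]
  have e2 : α (xe 2 4) = α (xe 2 3) * α (xe 3 4) * (α (xe 2 3))⁻¹ * (α (xe 3 4))⁻¹ := by
    rw [← comm e (xT 2 3 (by decide)) (xT 3 4 (by decide)), ← f2]
  have e1 : α (xe 1 4) = α (xe 1 2) * α (xe 2 4) * (α (xe 1 2))⁻¹ * (α (xe 2 4))⁻¹ := by
    rw [← comm e (xT 1 2 (by decide)) (xT 2 4 (by decide)), ← f1]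
  have t12 := h.mem _ (xT 1 2 (by decide))
  have t23 := h.mem _ (xT 2 3 (by decide))
  have u2 : α (xe 2 4) ∈ UU := e2 ▸ c3 _ t23 _ (hA _ (fA 3))
  have u1 : α (xe 1 4) ∈ FF := e1 ▸ c2 _ t12 _ (hA _ (fA 2)) u2
  have v1 : α (xe 1 4) ∉ AP := fun k => by
    obtain ⟨c, hc⟩ := AAP (hA _ (fA 1)) k
    rcases zz c with k | k
    · exact x0 (h.inj _ (xT 1 4 (by decide)) _ (one_mem _) (by rw [hc, k, e.one]))
    · exact xz (h.inj _ (xT 1 4 (by decide)) _ zT (by rw [hc, k, az]))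
  have v2 : α (xe 2 4) ∉ FF := fun k => v1 (e1 ▸ c1 _ t12 _ (hA _ (fA 2)) k)
  have v3 : α (xe 3 4) ∉ UU := fun k => v2 (e2 ▸ c2 _ t23 _ (hA _ (fA 3)) k)
  obtain ⟨p1, q1, r1, s1, a1⟩ := exA (hA _ (fA 1))
  obtain ⟨p2, q2, r2, s2, a2⟩ := exA (hA _ (fA 2))
  obtain ⟨p3, q3, r3, s3, a3⟩ := exA (hA _ (fA 3))
  rw [a1, avF] at u1
  rw [a1, avP] at v1
  rw [a2, avU] at u2
  rw [a2, avF] at v2
  rw [a3, avU] at v3
  obtain ⟨rfl, rfl⟩ := u1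
  subst u2
  obtain rfl := z1 q1 fun k => v1 ⟨k, rfl, rfl⟩
  obtain rfl := z1 r2 fun k => v2 ⟨k, rfl⟩
  obtain rfl := z1 s3 v3
  obtain ⟨d, hd, d1, d2, d3⟩ := dA p1 p2 q2 p3 q3 r3
  have dT : d ∈ T0 := hd ▸ hB.m1.utm _
  have h' := cj h dT
  have key : AA ≤ Fx (β := fun u => d⁻¹ * α u * d) ⟨h'.mul, h'.inj⟩ := by
    refine hB.m2.gAA _ fun i => ⟨AA_le_T0 (fA i), ?_⟩
    change d⁻¹ * α (xe i 4) * d = xe i 4
    fin_cases i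
    · change d⁻¹ * α (xe 0 4) * d = xe 0 4
      rw [x04, az, z2, mul_assoc, zpc]; group
    · change d⁻¹ * α (xe 1 4) * d = xe 1 4
      rw [a1, ← d1]; group
    · change d⁻¹ * α (xe 2 4) * d = xe 2 4
      rw [a2, ← d2]; group
    · change d⁻¹ * α (xe 3 4) * d = xe 3 4
      rw [a3, ← d3]; group
    · change d⁻¹ * α (xe 4 4) * d = xe 4 4
      rw [x44, e.one]; group
  exact ⟨d, dT, fun a ha => (key ha).2⟩

theorem stepP (hB : Base.{u}) {α : N2 → N2} (h : Au α T0) (hA : ∀ u ∈ AA, α u = u)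
    (hP : ∀ u ∈ AP, α u ∈ AP) : ∃ d ∈ T0, ∀ a ∈ QQ, d⁻¹ * α a * d = a := by
  have e : Em α T0 := ⟨h.mul, h.inj⟩
  have n := hB.m2.nrm
  have nA : ∀ u ∈ T0, ∀ v ∈ AA, u * v * u⁻¹ ∈ AA := fun u hu => ((n u).2.2.2.1 hu.1).1
  have PT : AP ≤ T0 := hB.m2.le.2.2.2.2.1.trans hB.m2.le.2.1
  have k : ∀ b ∈ AP, ∃ c, α b = b * zp c := fun b hb => by
    obtain ⟨c, hc⟩ := AAP (hB.m3.cAA _ (cen e (fun a ha => ⟨AA_le_T0 ha, hA a ha⟩) (PT hb)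
      (nA b (PT hb)))) (mul_mem (inv_mem hb) (hP b hb))
    exact ⟨c, by rw [← hc]; group⟩
  have f : (∀ j, xe 0 j ∈ AP) ∧ xe 0 0 = 1 ∧ xe 0 4 ∈ AA := by decide +kernel
  obtain ⟨fP, x00, x04⟩ := f
  obtain ⟨q, hq⟩ := k _ (fP 1)
  obtain ⟨r, hr⟩ := k _ (fP 2)
  obtain ⟨s, hs⟩ := k _ (fP 3)
  obtain ⟨d1, d2, d3⟩ := dP q r s
  have dA := avA 0 q r s
  generalize av 0 q r s = d at d1 d2 d3 dA
  have dT := AA_le_T0 dA
  have h' := cj h dT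
  have kA : AA ≤ Fx (β := fun u => d⁻¹ * α u * d) ⟨h'.mul, h'.inj⟩ := fun a ha =>
    ⟨AA_le_T0 ha, by
      change d⁻¹ * α a * d = a
      rw [hA a ha, mul_assoc, (hB.m2.ab.2.2.1 a ha d dA).eq]; group⟩
  have kP : AP ≤ Fx (β := fun u => d⁻¹ * α u * d) ⟨h'.mul, h'.inj⟩ := by
    refine hB.m2.gAP _ fun j => ?_
    fin_cases j
    · exact x00 ▸ one_mem _
    · refine ⟨PT (fP 1), ?_⟩
      change d⁻¹ * α (xe 0 1) * d = xe 0 1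
      rw [hq, ← d1]; group
    · refine ⟨PT (fP 2), ?_⟩
      change d⁻¹ * α (xe 0 2) * d = xe 0 2
      rw [hr, ← d2]; group
    · refine ⟨PT (fP 3), ?_⟩
      change d⁻¹ * α (xe 0 3) * d = xe 0 3
      rw [hs, ← d3]; group
    · exact kA x04
  refine ⟨d, dT, fun m hm => ?_⟩
  obtain ⟨a, ha, b, hb, rfl⟩ := hB.m2.pQQ m hm
  exact (mul_mem (kA ha) (kP hb)).2

theorem stepQ (hB : Base.{u}) {α : N2 → N2} (h : Au α T0) (hQ : ∀ u ∈ QQ, α u = u) :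
    ∃ a b : ZMod 2, ∀ u ∈ T0, α u = u * zp (a * en u 1 2 + b * en u 2 3) := by
  have e : Em α T0 := ⟨h.mul, h.inj⟩
  have QF : QQ ≤ Fx e := fun a ha => ⟨hB.m2.le.2.1 ha, hQ a ha⟩
  have k : ∀ u ∈ T0, ∃ c, α u = u * zp c := fun u hu => by
    rcases hB.m3.cQQ _ (cen e QF hu (((hB.m2.nrm u).2.2.2.2.1
      (hB.m2.le.2.2.2.2.2.2.2.2.2.1 hu.1)).1)) with c | c
    · exact ⟨0, by rw [show zp 0 = 1 from rfl, ← c]; group⟩
    · exact ⟨1, by rw [← z2, ← c]; group⟩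
  obtain ⟨a, ha⟩ := k _ (xT 1 2 (by decide))
  obtain ⟨b, hb⟩ := k _ (xT 2 3 (by decide))
  have f : xe 1 3 = xe 1 2 * xe 2 3 * (xe 1 2)⁻¹ * (xe 2 3)⁻¹ ∧ (∀ c i, xc c i 4 ∈ QQ) ∧
      (∀ c j, xc c 0 j ∈ QQ) ∧ ∀ a b, xe 1 3 =
        xe 1 2 * zp a * (xe 2 3 * zp b) * (xe 1 2 * zp a)⁻¹ * (xe 2 3 * zp b)⁻¹ := by
    decide +kernel
  obtain ⟨f1, f4, f0, f2⟩ := f
  have x13 : xe 1 3 ∈ Fx e := ⟨xT 1 3 (by decide), by
    rw [congrArg α f1, comm e (xT 1 2 (by decide)) (xT 2 3 (by decide)), ha, hb, ← f2]⟩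
  have y13 : ∀ c, xc c 1 3 ∈ Fx e := fun c => by
    unfold xc; split_ifs
    · exact one_mem _
    · exact x13
  have y : ∀ c i j t, i < j → α (xe i j) = xe i j * zp t →
      xc c i j ∈ T0 ∧ α (xc c i j) = xc c i j * zp (t * c) := fun c i j t hij ht => by
    unfold xc; split_ifs with hc
    · exact ⟨one_mem _, by rw [e.one, hc, mul_zero, one_mul]; rfl⟩
    · exact ⟨xT i j hij, by rw [ht, z1 c hc, mul_one]⟩
  refine ⟨a, b, fun u hu => ?_⟩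
  have hn := hB.m1.nf u hu
  generalize en u = c at hn
  subst hn
  obtain ⟨t12, y12⟩ := y (c 1 2) 1 2 a (by decide) ha
  obtain ⟨t23, y23⟩ := y (c 2 3) 2 3 b (by decide) hb
  have g := mul_mem (mul_mem (mul_mem (mul_mem (mul_mem (QF (f4 (c 0 4) 0)) (QF (f4 (c 1 4) 1)))
    (QF (f4 (c 2 4) 2))) (QF (f4 (c 3 4) 3))) (QF (f0 (c 0 3) 3))) (y13 (c 1 3))
  have g2 := QF (f0 (c 0 2) 2)
  have g1 := QF (f0 (c 0 1) 1)
  unfold ut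
  generalize xc (c 0 4) 0 4 * xc (c 1 4) 1 4 * xc (c 2 4) 2 4 * xc (c 3 4) 3 4 * xc (c 0 3) 0 3 *
    xc (c 1 3) 1 3 = A at g
  rw [h.mul _ (mul_mem (mul_mem (mul_mem g.1 t23) g2.1) t12) _ g1.1,
    h.mul _ (mul_mem (mul_mem g.1 t23) g2.1) _ t12, h.mul _ (mul_mem g.1 t23) _ g2.1,
    h.mul _ g.1 _ t23, g.2, g2.2, g1.2, y12, y23, zpa]
  generalize xc (c 2 3) 2 3 = B
  generalize xc (c 0 2) 0 2 = C
  generalize xc (c 1 2) 1 2 = D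
  generalize xc (c 0 1) 0 1 = E
  have z1 := zpc (a * c 1 2) E
  have z2 := zpc (b * c 2 3) (C * D * E * zp (a * c 1 2))
  generalize zp (a * c 1 2) = s at z1 z2
  generalize zp (b * c 2 3) = t at z2
  calc _ = A * B * (t * (C * D * (s * E))) := by group
    _ = A * B * (t * (C * D * E * s)) := by rw [z1]; group
    _ = _ := by rw [z2]; group

/-- Piece AUT. -/
theorem aut (hB : Base.{u}) : AutStmt := fun α h hA hP => by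
  obtain ⟨d, dT, hd⟩ := stepA hB h hA hP
  obtain ⟨d', dT', hd'⟩ := stepP hB (cj h dT) hd fun u hu => by
    simpa using (((hB.m2.nrm d⁻¹).2.2.2.1 (T0.inv_mem dT).1).2) _ (hP u hu)
  obtain ⟨a, b, k⟩ := stepQ hB (cj (cj h dT) dT') hd'
  exact ⟨(d * d')⁻¹, inv_mem (mul_mem dT dT'), a, b, fun u hu => by rw [← k u hu]; group⟩

end Cfsg.Agent.H4.KnAut
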