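import Cfsg.Agent.H37.FkKit
import Cfsg.Agent.H60.FM1
import Cfsg.Agent.H60.PE
import Cfsg.Agent.H44.F24M
import Cfsg.Agent.H49.FiC
import Cfsg.Agent.H83.Cores
import Cfsg.Agent.S0283

/-! The 2-fusion system of the Fischer group `Fi₂₄'`. -/

set_option autoImplicit false

namespace Cfsg.Agent.H4.FkFi24

open Cfsg Subgroup Cfsg.Agent.H37.FK Cfsg.Agent.H49

theorem not_comm {G : Type*} [Group G] [Finite G] [IsSimpleGroup G]
    (h : ¬ (Nat.card G).Prime) : ¬ IsMulCommutative G := fun k =>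
  h (@IsSimpleGroup.prime_card G { (inferInstance : Group G) with mul_comm := k.1.1 } ‹_›)

theorem nsc2 (T : Tools) (R : Subgroup (Equiv.Perm V0)) [Finite R] (hK : K0 ≤ R)
    (h2 : pCore 2 R = ⊥) (hi : (K0.subgroupOf R).index ∣ 2) {F : Type} [Field F] [Fintype F]
    (hF : Fintype.card F = 9) : NSC2 R := by
  obtain ⟨e⟩ := K0_quot F hF
  have hs := S0283.result (q := 3) hF 4 (by norm_num) (by norm_num)
  have : Finite (PSU 4 F 3) := Nat.finite_of_card_ne_zero (by rw [card_PSU43 F hF]; norm_num)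
  let f := subgroupOfEquivOfLe hK
  let π : K0.subgroupOf R →* PSU 4 F 3 :=
    (e.toMonoidHom.comp (QuotientGroup.mk' _)).comp f.toMonoidHom
  have hπ : ∀ x, x ∈ π.ker ↔ f x ∈ center K0 := fun x =>
    e.map_eq_one_iff.trans (QuotientGroup.eq_one_iff _)
  refine T.ext R h2 (K0.subgroupOf R) hi ?_ _ π
    ((e.surjective.comp (QuotientGroup.mk'_surjective _)).comp f.surjective) (fun x hx => ?_) ?_
    ⟨hs, not_comm (by rw [card_PSU43 F hF]; norm_num)⟩ (T.uni F hF)
  · apply map_injective R.subtype_injective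
    rw [map_commutator, map_subgroupOf_eq_of_le hK]
    have := congrArg (map K0.subtype) K0_perfect
    rwa [_root_.commutator_def, map_commutator, ← MonoidHom.range_eq_map, range_subtype] at this
  · rw [mem_center_iff]
    intro y
    apply f.injective
    rw [map_mul, map_mul]
    exact mem_center_iff.1 ((hπ x).1 hx) _
  · have : Nat.card π.ker = Nat.card (center K0) :=
      Nat.card_congr (f.toEquiv.subtypeEquiv hπ)
    rw [this, card_center_K0]
    decide

theorem good {G : Type} [Group G] [Finite G] (T : Tools) (hG : NAS G) {z : G}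
    {Q : Subgroup (centralizer ({z} : Set G))} [Q.Normal] (h : IsOfLargeFischerTypeAt z Q) :
    Good G := by
  obtain ⟨⟨hz, h1, h2, h3, -⟩, N, M, _, _, h4, h5, h6, ⟨K, _, _, hK, ⟨e⟩⟩, h7⟩ := h
  obtain ⟨hQ, hO⟩ := LX.of_fstar (orderOf_two_iff.1 hz).1 (congrArg _ h1)
    ((isExtraspecial_map_iff (subtype_injective _)).2 h2)
  obtain ⟨ρ, κ, h, hM⟩ := H60.exists_FE hQ h3 h4 h5 h6 hK e
  have memQ : ∀ c : centralizer ({z} : Set G),
      c.1 ∈ Q.map (centralizer ({z} : Set G)).subtype ↔ c ∈ Q := fun c =>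
    mem_map_iff_mem (subtype_injective _)
  have hker : ρ.ker = Q := Subgroup.ext fun c => (h.ker c).trans (memQ c)
  have hker' : ρ.rangeRestrict.ker = Q := by rw [MonoidHom.ker_rangeRestrict, hker]
  have hQ2 : IsPGroup 2 Q := IsPGroup.of_card h3
  have hsur := ρ.rangeRestrict_surjective
  have : Finite ρ.range := Finite.of_surjective _ hsur
  refine T.lx G hG z Q ⟨hz, hQ2, fun x hx => hQ.sq_mem ((memQ x).2 hx), fun x hx hc _ => ?_,
    fun x hx => ?_, ?_⟩ ?_ (NSC2.congr (nsc2 T ρ.range h.le ?_ ?_ hK)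
      ((QuotientGroup.quotientMulEquivOfEq hker.symm).trans (QuotientGroup.quotientKerEquivRange ρ)))
  · refine hQ.mem_Z.2 (hQ.cent _ ((memQ x).2 hx) ?_)
    rintro _ ⟨y, hy, rfl⟩
    exact congrArg Subtype.val (hc y hy)
  · refine (memQ x).1 (hQ.cQ (mem_centralizer_iff.2 ?_))
    rintro _ ⟨y, hy, rfl⟩
    exact congrArg Subtype.val (mem_centralizer_iff.1 hx y hy)
  · have : Fact (Nat.Prime 3) := ⟨Nat.prime_three⟩
    obtain ⟨g, hg⟩ := exists_prime_orderOf_dvd_card' (G := centralizer ({z} : Set G)) 3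
      ((Dvd.intro _ h6.symm).trans (card_subgroup_dvd_card N))
    exact ⟨g, fun k => by simp [k] at hg, by rw [hg]; decide⟩
  · exact even_iff_two_dvd.2 (h7 ▸ index_dvd_of_le (h4.trans h5))
  · have hn : (pCore 2 ρ.range).Normal := inferInstance
    have hp : IsPGroup 2 ((pCore 2 ρ.range).comap ρ.rangeRestrict) :=
      H83.pCore_isPGroup.comap_of_ker_isPGroup _ (hker' ▸ hQ2)
    have hle := H83.le_pCore (hn.comap _) hp
    rw [← map_injective (subtype_injective _) hO, ← hker'] at hle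
    rw [← map_comap_eq_self_of_surjective hsur (pCore 2 ρ.range), Subgroup.map_eq_bot_iff]
    exact hle
  · rw [← index_comap_of_surjective _ hsur, ← h7]
    have : (K0.subgroupOf ρ.range).comap ρ.rangeRestrict = M := by
      change K0.comap ρ = M
      rw [← hM, comap_map_eq, hker, sup_eq_left.2 (h4.trans h5)]
    rw [this]

theorem fi24 : Fi24Stmt := fun T => by
  obtain ⟨z, -, Q, _, -, -, h, -⟩ := H60.large24
  obtain ⟨hs, hc⟩ := H44.F24.isFi24'
  have : Finite Spor.Fi24' := Nat.finite_of_card_ne_zero (by rw [hc]; norm_num)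
  have : Finite H60.L0 := Finite.of_equiv _ H44.F24.iso'.toEquiv
  have hG : NAS Spor.Fi24' := ⟨hs, not_comm (by rw [hc]; norm_num)⟩
  exact (good T (hG.congr H44.F24.iso'.symm) h).congr H44.F24.iso'

end Cfsg.Agent.H4.FkFi24
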