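import Cfsg.Agent.H4.A12Wm

/-! Project A12, piece WCE: weak closure of the sign changes. -/

set_option autoImplicit false
set_option maxRecDepth 100000
set_option exponentiation.threshold 10000

namespace Cfsg.Agent.H4.A12

open Equiv Subgroup Cfsg.Agent.H89.TG Cfsg.Agent.H89.Rec Cfsg.Agent.H17.Ya Cfsg.Agent.H17.Tw

universe u

theorem dec (h : El) (hT : h ∈ T) : ∃ a < 64, ∃ q < 8, h = av a * rho q :=
  (decT h hT).elim fun q ⟨hq, e⟩ => ⟨_, idx_lt _, q, hq, e.symm⟩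

theorem of_mulA {p s : El} (hs : s * s = 1) (h : p * s ∈ A0) : ∃ i < 64, p = av i * s :=
  h.imp fun i ⟨hi, e⟩ => ⟨hi, by rw [← e, mul_assoc, hs, mul_one]⟩

theorem small : x13 * x13 = 1 ∧ x35 * x35 = 1 ∧ sw * sw = 1 ∧ x12 ∈ E0 ∧ x23 ∈ E0 ∧ x34 ∈ E0 ∧ x45 ∈ E0 ∧
    x13 ∈ E0 ∧ x35 ∈ E0 ∧ x13 ∉ A0 ∧ x35 ∉ A0 ∧ x13 * x35 ∉ A0 ∧ x12 ≠ 1 ∧ x34 ≠ 1 ∧ x56 ≠ 1 ∧
    x12 ≠ x34 ∧ x12 ≠ x56 ∧ x34 ≠ x56 ∧ g1 * g1 = 1 ∧ g3 * g3 = 1 ∧ g5 * g5 = 1 := by kdt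

/-- Elementary abelian subgroups of the Sylow subgroup. -/
theorem key (F : Subgroup El) (hT : F ≤ T) (h2 : ∀ v ∈ F, v * v = 1) :
    (∀ v ∈ F, ∀ w ∈ F, v ∈ A0 ∨ w ∈ A0 ∨ v * w ∈ A0) ∨ F ≤ E0 ∨
    ((∀ v ∈ F, (av 10 * v * av 10 * v = 1 ∨ av 10 * v * av 10 * v = av 5) ∧
      (av 1 * v * av 1 * v = 1 ∨ av 1 * v * av 1 * v = av 5)) ∧ av 10 ∉ F ∧ av 1 ∉ F ∧ av 11 ∉ F) := by
  have hc : ∀ v ∈ F, ∀ w ∈ F, Commute v w := fun v hv w hw =>
    commute_of_sq (h2 v hv) (h2 w hw) (h2 _ (mul_mem hv hw))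
  refine or_iff_not_imp_left.2 fun H => ?_
  push Not at H
  obtain ⟨v, hv, w, hw, n1, n2, n3⟩ := H
  have hvw := mul_mem hv hw
  obtain ⟨a, ha, q, hq, rfl⟩ := dec v (hT hv)
  obtain ⟨b, hb, r, hr, rfl⟩ := dec w (hT hw)
  obtain ⟨k1, k2⟩ := l1 a ha q hq (h2 _ hv) n1 b hb r hr (h2 _ hw) n2 (hc _ hv _ hw) n3
  have pick : ∀ {s : El}, s * s = 1 → (av a * rho q * s ∈ A0 ∨ av b * rho r * s ∈ A0 ∨
      av a * rho q * (av b * rho r) * s ∈ A0) → ∃ i < 64, av i * s ∈ F := fun hs k => by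
    rcases k with k | k | k <;> obtain ⟨i, hi, e⟩ := of_mulA hs k <;> exact ⟨i, hi, e ▸ ‹_›⟩
  obtain ⟨i, hi, hp⟩ := pick small.1 k1
  rcases k2 with k2 | k2
  · obtain ⟨k, hk, hw0⟩ := pick small.2.1 k2
    refine Or.inl fun u hu => ?_
    obtain ⟨l, hl, s, hs, rfl⟩ := dec u (hT hu)
    exact t1 i hi (h2 _ hp) k hk (h2 _ hw0) (hc _ hp _ hw0) l hl s hs (h2 _ hu) (hc _ hp _ hu)
      (hc _ hw0 _ hu)
  · obtain ⟨k, hk, hw0⟩ := pick small.2.2.1 k2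
    obtain ⟨m1, m2, m3⟩ := t3 i hi k hk
    refine Or.inr ⟨fun u hu => ?_, fun e => m1 (hc _ hp _ e), fun e => m3 (hc _ hw0 _ e),
      fun e => m2 (hc _ hp _ e)⟩
    obtain ⟨l, hl, s, hs, rfl⟩ := dec u (hT hu)
    exact t2 i hi (h2 _ hp) k hk (h2 _ hw0) (hc _ hp _ hw0) l hl s hs (h2 _ hu) (hc _ hp _ hu)
      (hc _ hw0 _ hu)

theorem tr1 {x c : El} (hx : x ∈ T) (h : ∀ e ∈ E0, x * e * x⁻¹ * e = 1 ∨ x * e * x⁻¹ * e = c) :
    x ∈ E0 ∨ (x * g1 ∈ E0 ∧ c = x12) ∨ (x * g3 ∈ E0 ∧ c = x34) ∨ (x * g5 ∈ E0 ∧ c = x56) := by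
  obtain ⟨-, -, -, -, -, -, e45, e13, e35, -, -, -, n1, n2, n3, -⟩ := small
  have a1 := h _ (mul_mem e13 e35)
  have a2 := h _ e35
  have a3 := h _ e45
  rcases tr x hx with k | ⟨k, e⟩ | ⟨k, e⟩ | ⟨k, e⟩ | ⟨k, ⟨k1, k2⟩ | ⟨k1, k2⟩⟩
  · exact Or.inl k
  · exact Or.inr (Or.inl ⟨k, ((e ▸ a1).resolve_left n1).symm⟩)
  · exact Or.inr (Or.inr (Or.inl ⟨k, ((e ▸ a2).resolve_left n2).symm⟩))
  · exact Or.inr (Or.inr (Or.inr ⟨k, ((e ▸ a2).resolve_left n3).symm⟩))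
  · exact absurd ((a1.resolve_left k).trans (a2.resolve_left k1).symm) k2
  · exact absurd ((a1.resolve_left k).trans (a3.resolve_left k1).symm) k2

theorem tr2 {x y c : El} (hx : x ∈ T) (hy : y ∈ T)
    (h : ∀ e ∈ E0, x * e * x⁻¹ * e = 1 ∨ x * e * x⁻¹ * e = c)
    (h' : ∀ e ∈ E0, y * e * y⁻¹ * e = 1 ∨ y * e * y⁻¹ * e = c) : x ∈ E0 ∨ y ∈ E0 ∨ x * y ∈ E0 := by
  obtain ⟨-, -, -, -, -, -, -, -, -, -, -, -, -, -, -, n1, n2, n3, s1, s3, s5⟩ := small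
  have k : ∀ {s : El}, s * s = 1 → x * s ∈ E0 → y * s ∈ E0 → x * y ∈ E0 := fun {s} hs a b => by
    have := mul_mem a (Subgroup.Normal.conj_mem inferInstance _ b s)
    rwa [show x * s * (s * (y * s) * s⁻¹) = x * (s * s) * y by group, hs, mul_one] at this
  rcases tr1 hx h with a | ⟨a, e⟩ | ⟨a, e⟩ | ⟨a, e⟩
  · exact Or.inl a
  all_goals
    rcases tr1 hy h' with b | ⟨b, e'⟩ | ⟨b, e'⟩ | ⟨b, e'⟩
    · exact Or.inr (Or.inl b)
    all_goals first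
      | exact Or.inr (Or.inr (k s1 a b))
      | exact Or.inr (Or.inr (k s3 a b))
      | exact Or.inr (Or.inr (k s5 a b))
      | (exfalso; rw [e] at e'; simp_all)

instance : ET.Normal := Subgroup.Normal.subgroupOf inferInstance _

theorem wce : WCEStmt.{u} := by
  intro G _ _ j hj g hg
  let F : Subgroup T :=
    { carrier := {v | ∃ u ∈ ET, Cj j g u v}
      one_mem' := ⟨1, one_mem _, Cj.one g⟩
      mul_mem' := fun ⟨u, hu, e⟩ ⟨u', hu', e'⟩ => ⟨_, mul_mem hu hu', e.mul e'⟩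
      inv_mem' := fun ⟨u, hu, e⟩ => ⟨_, inv_mem hu, e.inv⟩ }
  have hN : j.range ≤ normalizer ((ET.map j : Subgroup G) : Set G) := by
    rintro _ ⟨x, rfl⟩
    refine mem_nrm ?_
    rintro _ ⟨u, hu, rfl⟩
    exact ⟨_, Subgroup.Normal.conj_mem inferInstance u hu x, by simp⟩
  obtain ⟨k, hk, hk2⟩ := (hj.sylK hN).exists_conj_le
    (X := ((normalizer (F : Set T)).map j).map (MulAut.conj g⁻¹).toMonoidHom) (by
      rintro _ ⟨_, ⟨x, hx, rfl⟩, rfl⟩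
      refine mem_nrm ?_
      rintro _ ⟨u, hu, rfl⟩
      obtain ⟨v, e⟩ := hg u hu
      obtain ⟨u', hu', e'⟩ := nrm_conj hx (show v ∈ F from ⟨u, hu, e⟩)
      refine ⟨u', hu', ?_⟩
      rw [← show _ = j u' from ((e.trans (Cj.self x v)).trans e'.symm)]
      simp [mul_assoc]) ((hj.grp _).map _)
  have ha : ∀ x ∈ normalizer (F : Set T), ∃ x', Cj j (k * g⁻¹) x x' := fun x hx => by
    obtain ⟨x', e⟩ := hk2 _ ⟨_, ⟨x, hx, rfl⟩, rfl⟩
    exact ⟨x', by rw [Cj, e]; simp [mul_assoc]⟩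
  have hb : ∀ e ∈ ET, ∃ v ∈ F, Cj j (k * g⁻¹) v e := fun e he => by
    obtain ⟨u, hu, e1⟩ := nrm_conj (inv_mem hk) (mem_map_of_mem j he)
    obtain ⟨v, e2⟩ := hg u hu
    exact ⟨v, ⟨u, hu, e2⟩, e2.symm.trans (Cj.symm' e1.symm)⟩
  have hF : ∀ x x', Cj j (k * g⁻¹) x x' → x' ∈ ET → x ∈ F := fun x x' e he => by
    obtain ⟨v, hv, e'⟩ := hb x' he
    exact e'.uniq' hj.inj e ▸ hv
  have h2 : ∀ v ∈ F, v * v = 1 := fun v ⟨u, hu, e⟩ =>
    (e.mul e).eq_one hj.inj (Subtype.ext (eE _ hu))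
  have hc : ∀ v ∈ F, ∀ w ∈ F, Commute v w := fun v hv w hw =>
    commute_of_sq (h2 v hv) (h2 w hw) (h2 _ (mul_mem hv hw))
  obtain ⟨-, -, -, e12, e23, e34, e45, e13, e35, n13, n35, n15, -⟩ := small
  have hmax : ∀ w, (∀ v ∈ F, Commute w v) → w ∈ F := fun w hw => by
    obtain ⟨w', e⟩ := ha w (mem_nrm fun v hv => by rw [(hw v hv).eq, mul_inv_cancel_right]; exact hv)
    have k : ∀ s (hs : s ∈ E0), Commute (w' : El) s := fun s hs => by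
      obtain ⟨v, hv, e'⟩ := hb ⟨s, E_le_T hs⟩ hs
      exact congrArg Subtype.val (e.comm hj.inj e' (hw v hv)).eq
    exact hF w w' e (cE _ (k _ e12) (k _ e23) (k _ e34) (k _ e45))
  have hm : ∀ {v : T}, (v : El) ∈ F.map T.subtype ↔ v ∈ F := mem_map_iff_mem Subtype.val_injective
  rcases key (F.map T.subtype) (map_subtype_le _) (by
    rintro _ ⟨v, hv, rfl⟩; exact congrArg Subtype.val (h2 v hv)) with H | H | ⟨H, m1, m2, m3⟩
  · exfalso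
    have H' : ∀ v ∈ F, ∀ w ∈ F, v ∈ AT ∨ w ∈ AT ∨ v * w ∈ AT := fun v hv w hw =>
      H _ (hm.2 hv) _ (hm.2 hw)
    have cA : ∀ a ∈ AT, ∀ b ∈ AT, Commute a b := by
      simp only [mem_AT']
      rintro _ ⟨a, ha, rfl⟩ _ ⟨b, hb, rfl⟩
      exact tv_comm ha hb
    have hA : ∀ a < 64, tv a ∈ normalizer (F : Set T) := fun a ha => mem_nrm fun v hv => by
      have hv' := inv_eq_of_mul_eq_one_right (h2 v hv)
      have c1 : tv a * (v * tv a * v⁻¹) ∈ AT := mul_mem (tv_mem ha) (nA v v.2 a ha)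
      have c2 : Commute (tv a * (v * tv a * v⁻¹)) v := by
        have := (cA _ (tv_mem ha) _ (show v * tv a * v⁻¹ ∈ AT from nA v v.2 a ha)).eq
        rw [Commute, SemiconjBy]
        conv_lhs => rw [this]
        rw [hv']
        calc v * tv a * v * tv a * v = v * (tv a * (v * tv a * v)) := by group
          _ = _ := rfl
      have c3 : tv a * (v * tv a * v⁻¹) ∈ F := hmax _ fun w hw => by
        rcases H' v hv w hw with k | k | k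
        · rw [(cA _ k _ (tv_mem ha)).eq, mul_inv_cancel_right, tv_sq ha]; exact Commute.one_left _
        · exact cA _ c1 _ k
        · simpa using c2.inv_right.mul_right (cA _ c1 _ k)
      have := mul_mem c3 hv
      rw [inv_eq_of_mul_eq_one_right (tv_sq ha)]
      rwa [show tv a * (v * tv a * v⁻¹) * v = tv a * v * tv a by group] at this
    choose! f hf using fun a (h : a < 64) => ha _ (hA a h)
    have hw := wc (fun a => f a) (fun a _ => (f a).2)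
      (fun c hc d hd => congrArg Subtype.val ((hf c hc).comm hj.inj (hf d hd) (tv_comm hc hd)).eq)
      fun c hc d hd e => tv_inj hc hd (((hf c hc).eq_iff hj.inj (hf d hd)).2 (Subtype.ext e))
    have hE : ∀ v e, v ∈ AT → Cj j (k * g⁻¹) v e → (e : El) ∈ A0 := fun v e hv c => by
      obtain ⟨a, ha, rfl⟩ := mem_AT'.1 hv
      exact c.uniq hj.inj (hf a ha) ▸ hw a ha
    obtain ⟨v, hv, c⟩ := hb ⟨_, E_le_T e13⟩ e13
    obtain ⟨w, hw, d⟩ := hb ⟨_, E_le_T e35⟩ e35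
    rcases H' v hv w hw with k | k | k
    exacts [n13 (hE _ _ k c), n35 (hE _ _ k d), n15 (hE _ _ k (c.mul d))]
  · exact fun u hu => (hg u hu).imp fun v e => ⟨H (hm.2 ⟨u, hu, e⟩), e⟩
  · exfalso
    have hz : tv 5 ∈ F := hmax _ fun v _ => Subtype.ext (by
      have : ∀ x : El, x ∈ T → av 5 * x = x * av 5 := by wdt
      exact this _ v.2)
    have hx : ∀ a < 64, (∀ v ∈ F, av a * v * av a * v = 1 ∨ av a * v * av a * v = av 5) →
        ∀ z', Cj j (k * g⁻¹) (tv 5) z' → ∃ x', Cj j (k * g⁻¹) (tv a) x' ∧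
        ∀ e ∈ E0, x' * e * (x' : El)⁻¹ * e = 1 ∨ x' * e * (x' : El)⁻¹ * e = z' := fun a ha0 h z' cz => by
      have h' : ∀ v ∈ F, tv a * v * (tv a)⁻¹ * v = 1 ∨ tv a * v * (tv a)⁻¹ * v = tv 5 := fun v hv => by
        rw [inv_eq_of_mul_eq_one_right (tv_sq ha0)]
        exact (h v hv).imp Subtype.ext Subtype.ext
      obtain ⟨x', c⟩ := ha (tv a) (mem_nrm fun v hv => (F.mul_mem_cancel_right hv).1 (by
        rcases h' v hv with e | e <;> rw [e]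
        exacts [one_mem _, hz]))
      refine ⟨x', c, fun e he => ?_⟩
      obtain ⟨v, hv, d⟩ := hb ⟨e, E_le_T he⟩ he
      have := ((c.mul d).mul c.inv).mul d
      exact (h' v hv).imp (fun r => congrArg Subtype.val (this.eq_one hj.inj r))
        fun r => congrArg Subtype.val ((r ▸ this).uniq hj.inj cz)
    obtain ⟨z', cz⟩ := ha _ (le_normalizer hz)
    obtain ⟨x', cx, rx⟩ := hx 10 (by decide) (fun v hv => (H _ (hm.2 hv)).1) z' cz
    obtain ⟨y', cy, ry⟩ := hx 1 (by decide) (fun v hv => (H _ (hm.2 hv)).2) z' cz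
    rcases tr2 x'.2 y'.2 rx ry with r | r | r
    · exact m1 (hm.2 (hF _ _ cx r))
    · exact m2 (hm.2 (hF _ _ cy r))
    · have := hF _ _ (cx.mul cy) r
      rw [tv_mul (by decide) (by decide)] at this
      exact m3 (hm.2 this)

end Cfsg.Agent.H4.A12
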