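import Cfsg.Agent.H17.TwA

/-! Project A12, piece WCE (model part): finite checks in the Sylow subgroup. -/

set_option autoImplicit false
set_option maxRecDepth 100000
set_option exponentiation.threshold 10000

namespace Cfsg.Agent.H4.A12

open Equiv Subgroup Cfsg.Agent.H89.TG Cfsg.Agent.H89.Rec Cfsg.Agent.H17.Ya Cfsg.Agent.H17.Tw

theorem l1 : ∀ a < 64, ∀ q < 8, av a * rho q * (av a * rho q) = 1 → av a * rho q ∉ A0 → ∀ b < 64, ∀ r < 8,
    av b * rho r * (av b * rho r) = 1 → av b * rho r ∉ A0 → Commute (av a * rho q) (av b * rho r) →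
    av a * rho q * (av b * rho r) ∉ A0 →
    (av a * rho q * x13 ∈ A0 ∨ av b * rho r * x13 ∈ A0 ∨ av a * rho q * (av b * rho r) * x13 ∈ A0) ∧
    ((av a * rho q * x35 ∈ A0 ∨ av b * rho r * x35 ∈ A0 ∨ av a * rho q * (av b * rho r) * x35 ∈ A0) ∨
    (av a * rho q * sw ∈ A0 ∨ av b * rho r * sw ∈ A0 ∨ av a * rho q * (av b * rho r) * sw ∈ A0)) := by
  kdt

theorem t1 : ∀ i < 64, av i * x13 * (av i * x13) = 1 → ∀ k < 64, av k * x35 * (av k * x35) = 1 →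
    Commute (av i * x13) (av k * x35) → ∀ l < 64, ∀ q < 8, av l * rho q * (av l * rho q) = 1 →
    Commute (av i * x13) (av l * rho q) → Commute (av k * x35) (av l * rho q) → av l * rho q ∈ E0 := by
  kdt

theorem t2 : ∀ i < 64, av i * x13 * (av i * x13) = 1 → ∀ k < 64, av k * sw * (av k * sw) = 1 →
    Commute (av i * x13) (av k * sw) → ∀ l < 64, ∀ q < 8, av l * rho q * (av l * rho q) = 1 →
    Commute (av i * x13) (av l * rho q) → Commute (av k * sw) (av l * rho q) →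
    (av 10 * (av l * rho q) * av 10 * (av l * rho q) = 1 ∨
      av 10 * (av l * rho q) * av 10 * (av l * rho q) = av 5) ∧
    (av 1 * (av l * rho q) * av 1 * (av l * rho q) = 1 ∨
      av 1 * (av l * rho q) * av 1 * (av l * rho q) = av 5) := by
  kdt

theorem t3 : ∀ i < 64, ∀ k < 64, ¬ Commute (av i * x13) (av 10) ∧ ¬ Commute (av i * x13) (av 11) ∧
    ¬ Commute (av k * sw) (av 1) := by
  kdt

theorem tr : ∀ x : El, x ∈ T → x ∈ E0 ∨ (x * g1 ∈ E0 ∧ x * (x13 * x35) * x⁻¹ * (x13 * x35) = x12) ∨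
    (x * g3 ∈ E0 ∧ x * x35 * x⁻¹ * x35 = x34) ∨ (x * g5 ∈ E0 ∧ x * x35 * x⁻¹ * x35 = x56) ∨
    (x * (x13 * x35) * x⁻¹ * (x13 * x35) ≠ 1 ∧ ((x * x35 * x⁻¹ * x35 ≠ 1 ∧
      x * (x13 * x35) * x⁻¹ * (x13 * x35) ≠ x * x35 * x⁻¹ * x35) ∨ (x * x45 * x⁻¹ * x45 ≠ 1 ∧
      x * (x13 * x35) * x⁻¹ * (x13 * x35) ≠ x * x45 * x⁻¹ * x45))) := by
  wdt

theorem cE : ∀ x : El, Commute x x12 → Commute x x23 → Commute x x34 → Commute x x45 → x ∈ E0 := by
  wdt

theorem eE : ∀ x : El, x ∈ E0 → x * x = 1 := by wdt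

theorem nA : ∀ x : El, x ∈ T → ∀ a < 64, x * av a * x⁻¹ ∈ A0 := by wdt

end Cfsg.Agent.H4.A12
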