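import Cfsg.Agent.H97.BcDefs
import Cfsg.Agent.H89.PBasic
import Cfsg.Agent.H90.Regular

/-!
Bicyclic non-metacyclic `2`-groups with cyclic derived subgroup: the data `AD`.
-/

set_option autoImplicit false

namespace Cfsg.Agent.H4.BcCyc

open Cfsg Subgroup Cfsg.Agent.H97.Bc
open scoped commutatorElement

universe u

variable {G : Type*} [Group G]

theorem invol_unique {c : G} {k l : ℤ} (hk : c ^ k * c ^ k = 1) (hl : c ^ l * c ^ l = 1)
    (h : c ^ l ≠ 1) : c ^ k = 1 ∨ c ^ k = c ^ l := by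
  rw [← zpow_add, ← orderOf_dvd_iff_zpow_eq_one] at hk hl
  obtain ⟨a, ha⟩ := hk
  obtain ⟨b, hb⟩ := hl
  have key : ∀ x y : ℤ, x + x = orderOf c * (y + y) → c ^ x = 1 := fun x y e =>
    orderOf_dvd_iff_zpow_eq_one.1 ⟨y, by linarith⟩
  rcases Int.even_or_odd' a with ⟨a, rfl | rfl⟩
  · exact Or.inl (key k a (by linarith))
  rcases Int.even_or_odd' b with ⟨b, rfl | rfl⟩
  · exact absurd (key l b (by linarith)) h
  refine Or.inr (mul_inv_eq_one.1 ?_)
  rw [← zpow_sub]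
  exact key _ (a - b) (by linarith)

theorem zpow_odd {z : G} (h : z * z = 1) (k : ℤ) : z ^ (2 * k + 1) = z := by
  rw [zpow_add, zpow_mul, zpow_two, h, one_zpow, one_mul, zpow_one]

theorem zpow_even {z : G} (h : z * z = 1) (k : ℤ) : z ^ (2 * k) = 1 := by
  rw [zpow_mul, zpow_two, h, one_zpow]

/-- the presentation -/
structure Core (y u c : G) (m l : ℤ) : Prop where
  top : closure {y, u} = ⊤
  A : _root_.commutator G = zpowers c
  yu : y * u * y⁻¹ = c * u
  uc : u * c * u⁻¹ = c⁻¹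
  yc : y * c * y⁻¹ = c ^ (4 * m + 1)
  z1 : c ^ l ≠ 1
  zz : c ^ l * c ^ l = 1
  odd : ∀ (g : G) (k : ℤ), g ^ (2 * k + 1) = 1 → g = 1

namespace Core

variable {y u c : G} {m l : ℤ} (H : Core y u c m l)
include H

theorem conj_u (g : G) : ∃ k : ℤ, g * u * g⁻¹ = c ^ k * u := by
  obtain ⟨k, hk⟩ : ⁅g, u⁆ ∈ zpowers c :=
    H.A ▸ commutator_mem_commutator (mem_top g) (mem_top u)
  exact ⟨k, by rw [show c ^ k = ⁅g, u⁆ from hk, commutatorElement_def]; group⟩

theorem odd_of {g : G} {k : ℤ} (h : g * c * g⁻¹ = c ^ k) : Odd k := by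
  rcases Int.even_or_odd' k with ⟨a, rfl | rfl⟩
  · refine absurd ?_ H.z1
    have : g * c ^ l * g⁻¹ = 1 := by
      rw [← conj_zpow, h, ← zpow_mul, mul_comm, zpow_mul, zpow_even H.zz]
    simpa using this
  · exact ⟨a, rfl⟩

theorem conj_c (g : G) : ∃ k : ℤ, ∀ n : ℤ, g * c ^ n * g⁻¹ = (c ^ n) ^ (2 * k + 1) := by
  have : (zpowers c).Normal := H.A ▸ inferInstance
  obtain ⟨k, hk⟩ := this.conj_mem c (mem_zpowers c) g
  obtain ⟨a, rfl⟩ := H.odd_of hk.symm
  exact ⟨a, fun n => by rw [← conj_zpow, ← show c ^ (2 * a + 1) = _ from hk, ← zpow_mul, mul_comm,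
    zpow_mul]⟩

theorem z_comm (g : G) : Commute g (c ^ l) := by
  obtain ⟨k, hk⟩ := H.conj_c g
  exact mul_inv_eq_iff_eq_mul.1 ((hk l).trans (zpow_odd H.zz k))

theorem u_c (n : ℤ) : u * c ^ n = c ^ (-n) * u := by
  rw [← mul_inv_eq_iff_eq_mul, ← conj_zpow, H.uc, inv_zpow']

theorem c_u (n : ℤ) : c ^ n * u * (c ^ n)⁻¹ = c ^ (2 * n) * u := by
  rw [mul_assoc, ← zpow_neg, H.u_c, neg_neg, ← mul_assoc, ← zpow_add, two_mul]

theorem y_c (n : ℤ) : y * c ^ n * y⁻¹ = c ^ ((4 * m + 1) * n) := by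
  rw [← conj_zpow, H.yc, ← zpow_mul]

omit H in
/-- the element of the Frattini subgroup centralizing `u` -/
def hh (y c : G) (m : ℤ) : G := c ^ (-(2 * m + 1)) * (y * y)

theorem hh_u : Commute (hh y c m) u := by
  refine mul_inv_eq_iff_eq_mul.1 ?_
  have h1 : hh y c m * u * (hh y c m)⁻¹ = c ^ (-(2 * m + 1)) *
      ((y * c * y⁻¹) * (y * u * y⁻¹)) * (c ^ (-(2 * m + 1)))⁻¹ := by
    calc _ = c ^ (-(2 * m + 1)) * (y * (y * u * y⁻¹) * y⁻¹) * (c ^ (-(2 * m + 1)))⁻¹ := by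
          unfold hh; group
      _ = c ^ (-(2 * m + 1)) * (y * (c * u) * y⁻¹) * (c ^ (-(2 * m + 1)))⁻¹ := by rw [H.yu]
      _ = _ := by group
  rw [h1, H.yc, H.yu]
  calc _ = c ^ (4 * m + 2) * (c ^ (-(2 * m + 1)) * u * (c ^ (-(2 * m + 1)))⁻¹) := by group
    _ = u := by rw [H.c_u]; group

theorem hh_c {n : ℤ} (h : c ^ (8 * n) = 1) : Commute (hh y c m) (c ^ n) := by
  refine mul_inv_eq_iff_eq_mul.1 ?_
  calc _ = c ^ (-(2 * m + 1)) * (y * (y * c ^ n * y⁻¹) * y⁻¹) * (c ^ (-(2 * m + 1)))⁻¹ := by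
        unfold hh; group
    _ = (c ^ (8 * n)) ^ (2 * m * m + m) * c ^ n := by rw [H.y_c, H.y_c]; group
    _ = c ^ n := by rw [h, one_zpow, one_mul]

theorem exists_t {n : ℤ} (h : c ^ (4 * n) = 1) : ∃ t : G, t * u * t⁻¹ = c ^ n * u ∧
    Commute t (c ^ n) ∧ Commute t (hh y c m) := by
  rcases Int.even_or_odd' n with ⟨a, rfl | rfl⟩
  · exact ⟨c ^ a, H.c_u a, Commute.zpow_zpow_self _ _ _,
      (H.hh_c (by rw [← h]; group)).symm⟩
  have h4 : c ^ (4 : ℤ) = 1 := H.odd _ a (by rw [← zpow_mul, h])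
  have h1 : Commute y c := mul_inv_eq_iff_eq_mul.1 (by
    rw [H.yc, zpow_add, zpow_mul, h4, one_zpow, one_mul, zpow_one])
  have h2 : Commute y (hh y c m) :=
    (h1.zpow_right _).mul_right ((Commute.refl y).mul_right (Commute.refl y))
  have h3 : ∀ k : ℕ, y ^ k * u * (y ^ k)⁻¹ = c ^ k * u := by
    intro k
    induction k with
    | zero => simp
    | succ k ih =>
      calc _ = y * (y ^ k * u * (y ^ k)⁻¹) * y⁻¹ := by group
        _ = (y * c ^ k * y⁻¹) * (y * u * y⁻¹) := by rw [ih]; group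
        _ = _ := by rw [H.yu, (h1.pow_right k).eq]; group
  refine ⟨y ^ ((2 * a + 1) % 4).toNat, ?_, (h1.zpow_right _).pow_left _, h2.pow_left _⟩
  rw [h3, ← zpow_natCast, Int.toNat_of_nonneg (Int.emod_nonneg _ (by norm_num)),
    ← zpow_eq_zpow_emod _ h4]

theorem cent {g : G} (hg : g * u * g⁻¹ = u) : g ∈ closure {hh y c m, c ^ l, u} := by
  have nA : (zpowers c).Normal := H.A ▸ inferInstance
  set K := closure ({hh y c m, u} : Set G)
  have hK : ∀ k ∈ K, k * u * k⁻¹ = u := by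
    intro k hk
    have : K ≤ centralizer {u} := (closure_le _).2 (by
      rintro _ (rfl | rfl)
      exacts [mem_centralizer_singleton_iff.2 H.hh_u, mem_centralizer_singleton_iff.2 rfl])
    exact mul_inv_eq_iff_eq_mul.2 (mem_centralizer_singleton_iff.1 (this hk))
  have nN : (zpowers c ⊔ K).Normal := Normal.of_commutator_le G (H.A ▸ le_sup_left)
  have hN : ∀ n ∈ zpowers c ⊔ K, ∃ j : ℤ, ∃ k ∈ K, n = c ^ j * k := by
    intro n hn
    obtain ⟨_, ⟨j, rfl⟩, k, hk, rfl⟩ := mem_sup_of_normal_left.1 hn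
    exact ⟨j, k, hk, rfl⟩
  have hy : y * y ∈ zpowers c ⊔ K := by
    rw [show y * y = c ^ (2 * m + 1) * hh y c m by unfold hh; group]
    exact mul_mem_sup ⟨_, rfl⟩ (subset_closure (by simp))
  have ht : (zpowers c ⊔ K) ⊔ zpowers y = ⊤ := eq_top_iff.2 (H.top ▸ (closure_le _).2 (by
    rintro _ (rfl | rfl)
    exacts [mem_sup_right (mem_zpowers _), mem_sup_left (mem_sup_right (subset_closure (by simp)))]))
  obtain ⟨n, hn, _, ⟨i, rfl⟩, rfl⟩ := mem_sup_of_normal_left.1 (ht ▸ mem_top g)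
  rcases Int.even_or_odd' i with ⟨a, rfl | rfl⟩
  · obtain ⟨j, k, hk, e⟩ := hN _ (mul_mem hn (zpow_mem hy a))
    have e1 : n * y ^ (2 * a) = c ^ j * k := by rw [← e, zpow_mul, zpow_two]
    simp only [e1] at hg ⊢
    have h1 : c ^ (2 * j) * u = u := by
      rw [← H.c_u]
      calc _ = c ^ j * (k * u * k⁻¹) * (c ^ j)⁻¹ := by rw [hK k hk]
        _ = c ^ j * k * u * (c ^ j * k)⁻¹ := by group
        _ = u := hg
    have h2 : c ^ j * c ^ j = 1 := by rw [← zpow_add, ← two_mul]; simpa using h1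
    refine mul_mem ?_ (closure_mono (by intro; simp; tauto) hk)
    rcases invol_unique h2 H.zz H.z1 with h | h <;> rw [h]
    exacts [one_mem _, subset_closure (by simp)]
  · obtain ⟨j, k, hk, e⟩ := hN _ (mul_mem hn (zpow_mem hy a))
    have e1 : n * y ^ (2 * a + 1) = c ^ j * k * y := by
      rw [← e, zpow_add, zpow_mul, zpow_two, zpow_one, mul_assoc]
    simp only [e1] at hg
    have h1 : (c ^ j * k) * c * (c ^ j * k)⁻¹ * (c ^ (2 * j) * u) = u := by
      rw [← H.c_u]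
      calc _ = (c ^ j * k) * c * (c ^ j * k)⁻¹ * (c ^ j * (k * u * k⁻¹) * (c ^ j)⁻¹) := by
            rw [hK k hk]
        _ = c ^ j * k * (y * u * y⁻¹) * (c ^ j * k)⁻¹ := by rw [H.yu]; group
        _ = c ^ j * k * y * u * (c ^ j * k * y)⁻¹ := by group
        _ = u := hg
    have h2 : (c ^ j * k) * c * (c ^ j * k)⁻¹ = c ^ (-(2 * j)) := by
      rw [← mul_assoc, mul_eq_right] at h1
      rw [zpow_neg, eq_inv_iff_mul_eq_one, h1]
    exact absurd (H.odd_of h2) (by simp)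

theorem conj_inv {k : ℤ} {g : G} (hg : g ∈ centralizer ({u} : Set G) ⊔ zpowers (c ^ k)) :
    ∃ i : ℤ, g * u * g⁻¹ = (c ^ (2 * k)) ^ i * u := by
  have nA : (zpowers (c ^ k)).Normal := ⟨by
    rintro _ ⟨i, rfl⟩ g
    obtain ⟨a, ha⟩ := H.conj_c g
    exact ⟨(2 * a + 1) * i, by simp only [← conj_zpow, ha, zpow_mul]⟩⟩
  rw [sup_comm] at hg
  obtain ⟨_, ⟨i, rfl⟩, s, hs, rfl⟩ := mem_sup_of_normal_left.1 hg
  refine ⟨i, ?_⟩
  calc _ = (c ^ k) ^ i * (s * u * s⁻¹) * ((c ^ k) ^ i)⁻¹ := by group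
    _ = _ := by
      rw [mul_inv_eq_iff_eq_mul.2 (mem_centralizer_singleton_iff.1 hs), ← zpow_mul, H.c_u]; group

/-- the quaternion case -/
theorem caseQ {j : ℤ} (hl : l = 2 * j) (hu : u * u = c ^ l) :
    ∃ (Q C : Subgroup G) (a b ζ : G), AD Q C a b ζ := by
  have aa : c ^ j * c ^ j = c ^ l := by rw [hl]; group
  have a4 : c ^ (4 * j) = 1 := by rw [← H.zz, hl]; group
  have ai : c ^ (-j) = c ^ l * c ^ j := by
    rw [← one_mul (c ^ (-j)), ← a4, hl]; group
  have ba : u * c ^ j = c ^ l * (c ^ j * u) := by rw [H.u_c, ai, mul_assoc]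
  have ha : Commute (hh y c m) (c ^ j) := H.hh_c (by
    rw [show 8 * j = 4 * j * 2 by ring, zpow_mul, a4, one_zpow])
  have cm : ∀ g, Commute g (hh y c m) → ∀ h ∈ closure {hh y c m, c ^ l}, Commute h g := by
    intro g hg h hh
    have : closure {Core.hh y c m, c ^ l} ≤ centralizer {g} := (closure_le _).2 (by
      rintro _ (rfl | rfl)
      exacts [mem_centralizer_singleton_iff.2 hg.symm,
        mem_centralizer_singleton_iff.2 (H.z_comm g).symm])
    exact mem_centralizer_singleton_iff.1 (this hh)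
  have nc : ¬ Commute u (c ^ j) := fun e => H.z1 (by
    rw [e.eq] at ba
    exact mul_eq_right.1 ba.symm)
  have a1 : c ^ j ≠ 1 := fun e => nc (e ▸ Commute.one_right u)
  have a2 : c ^ j ≠ c ^ l := fun e => nc (e ▸ H.z_comm u)
  obtain ⟨t, t1, t2, t3⟩ := H.exists_t a4
  have hQ : ∀ g ∈ closure {hh y c m, c ^ l} ⊔ closure {c ^ j, u},
      g * u * g⁻¹ = u ∨ g * u * g⁻¹ = c ^ l * u := by
    intro g hg
    obtain ⟨i, hi⟩ := H.conj_inv (k := j) (g := g) ((sup_le (fun h hh => mem_sup_left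
      (mem_centralizer_singleton_iff.2 (cm u H.hh_u.symm h hh))) ((closure_le _).2 (by
        rintro _ (rfl | rfl)
        exacts [mem_sup_right (mem_zpowers _),
          mem_sup_left (mem_centralizer_singleton_iff.2 rfl)])) : _ ≤ _) hg)
    rw [← hl] at hi
    rcases Int.even_or_odd' i with ⟨a, rfl | rfl⟩
    · exact Or.inl (by rw [hi, zpow_even H.zz, one_mul])
    · exact Or.inr (by rw [hi, zpow_odd H.zz])
  have hc : ∀ g, g * u * g⁻¹ = u → g ∈ closure {hh y c m, c ^ l} ⊔ closure {c ^ j, u} ∧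
      ∀ h ∈ closure {hh y c m, c ^ l}, Commute h g := by
    intro g hg
    have h1 := H.cent hg
    refine ⟨((closure_le _).2 (by
      rintro _ (rfl | rfl | rfl)
      exacts [mem_sup_left (subset_closure (by simp)), mem_sup_left (subset_closure (by simp)),
        mem_sup_right (subset_closure (by simp))]) : _ ≤ _) h1, cm g ?_⟩
    have : closure {hh y c m, c ^ l, u} ≤ centralizer {hh y c m} := (closure_le _).2 (by
      rintro _ (rfl | rfl | rfl)
      exacts [mem_centralizer_singleton_iff.2 rfl,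
        mem_centralizer_singleton_iff.2 (H.z_comm _).symm, mem_centralizer_singleton_iff.2 H.hh_u.symm])
    exact mem_centralizer_singleton_iff.1 (this h1)
  have au : c ^ j * u * (c ^ j)⁻¹ = c ^ l * u := by rw [H.c_u, hl]
  have aQ : c ^ j ∈ closure {hh y c m, c ^ l} ⊔ closure {c ^ j, u} :=
    mem_sup_right (subset_closure (by simp))
  refine ⟨_, closure {hh y c m, c ^ l}, c ^ j, u, c ^ l, subset_closure (by simp), H.zz, aa, hu, ba,
    cm _ ha.symm, cm _ H.hh_u.symm, fun h h1 h' h2 => cm h' (cm _ (Commute.refl _) h' h2) h h1,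
    fun e => nc (cm _ H.hh_u.symm _ e).symm, fun e => nc (cm _ ha.symm _ e),
    fun e => nc ?_, rfl,
    fun g hg hQ' => ?_, t, fun e => ?_, t2, fun h hh => (cm t t3 h hh).symm⟩
  · have := (Commute.refl (c ^ j)).inv_left.mul_left (cm _ ha.symm _ e)
    rwa [inv_mul_cancel_left] at this
  · obtain ⟨k, hk⟩ := H.conj_u g
    have h1 : c ^ k ∈ closure {hh y c m, c ^ l} ⊔ closure {c ^ j, u} := by
      have uQ : u ∈ closure {hh y c m, c ^ l} ⊔ closure {c ^ j, u} :=
        mem_sup_right (subset_closure (by simp))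
      exact (mul_mem_cancel_right uQ).1 (hk ▸ (mem_normalizer_iff.1 hg u).1 uQ)
    have h2 := hQ _ h1
    rw [H.c_u, mul_eq_right, mul_left_inj] at h2
    have h3 : c ^ k = c ^ j ∨ c ^ k = c ^ l * c ^ j := by
      rcases h2 with h2 | h2
      · exfalso
        rcases invol_unique (k := k) (by rw [← h2]; group) H.zz H.z1 with h | h
        · exact hQ' (hc g (by rw [hk, h, one_mul])).1
        · refine hQ' ((mul_mem_cancel_left (inv_mem aQ)).1 (hc _ ?_).1)
          calc _ = (c ^ j)⁻¹ * (g * u * g⁻¹) * c ^ j := by group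
            _ = u := by rw [hk, h, ← au]; group
      · rcases invol_unique (k := k - j) (by
          rw [← mul_inv_cancel (c ^ (2 * k))]
          nth_rw 2 [h2]
          rw [hl]; group) H.zz H.z1 with h | h
        · exact Or.inl (by rwa [zpow_sub, mul_inv_eq_one] at h)
        · exact Or.inr (by rwa [zpow_sub, mul_inv_eq_iff_eq_mul] at h)
    have h4 : ∀ h ∈ closure {hh y c m, c ^ l}, Commute h g := by
      intro h hh
      rcases h3 with h3 | h3
      · have := (cm t t3 h hh).mul_right ((hc (t⁻¹ * g) (by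
          calc _ = t⁻¹ * (g * u * g⁻¹) * t := by group
            _ = u := by rw [hk, h3, ← t1]; group)).2 h hh)
        simpa using this
      · have := ((cm _ ha.symm h hh).mul_right (cm t t3 h hh)).mul_right
          ((hc ((c ^ j * t)⁻¹ * g) (by
          calc _ = t⁻¹ * (c ^ j)⁻¹ * (g * u * g⁻¹) * c ^ j * t := by group
            _ = t⁻¹ * ((c ^ j)⁻¹ * (c ^ j * (c ^ l * u)) * c ^ j) * t := by rw [hk, h3]; group
            _ = u := by rw [← au, show (c ^ j)⁻¹ * (c ^ j * (c ^ j * u * (c ^ j)⁻¹)) * c ^ j =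
                c ^ j * u by group, ← t1]; group)).2 h hh)
        rwa [mul_inv_cancel_left] at this
    refine ⟨fun h hh => by rw [← (h4 h hh).eq, mul_inv_cancel_right]; exact hh, ?_, ?_⟩
    · obtain ⟨e, he⟩ := H.conj_c g
      rw [he, zpow_add, zpow_mul, zpow_two, aa, zpow_one]
      rcases Int.even_or_odd' e with ⟨a, rfl | rfl⟩
      · exact Or.inl (by rw [zpow_even H.zz, one_mul])
      · exact Or.inr (by rw [zpow_odd H.zz])
    · rw [hk]
      exact h3.imp (fun h => by rw [h]) fun h => by rw [h, mul_assoc]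
  · rcases hQ t e with h | h <;> rw [t1] at h
    exacts [a1 (mul_eq_right.1 h), a2 (mul_right_cancel h)]

/-- the dihedral case -/
theorem caseD (hu : u * u = 1) (h1 : c ^ l ∉ zpowers (hh y c m)) (h2 : u ∉ zpowers (hh y c m))
    (h3 : c ^ l * u ∉ zpowers (hh y c m)) : ∃ (Q C : Subgroup G) (a b ζ : G), AD Q C a b ζ := by
  have cm : ∀ g, Commute g (hh y c m) → ∀ h ∈ zpowers (hh y c m), Commute h g := by
    rintro g hg _ ⟨i, rfl⟩
    exact hg.symm.zpow_left i
  obtain ⟨t, t1, t2, t3⟩ := H.exists_t (n := l) (by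
    rw [mul_comm, zpow_mul]; exact zpow_even H.zz 2)
  have hQ : ∀ g ∈ zpowers (hh y c m) ⊔ closure {c ^ l, u}, g * u * g⁻¹ = u := by
    intro g hg
    have : zpowers (hh y c m) ⊔ closure {c ^ l, u} ≤ centralizer {u} :=
      sup_le (zpowers_le.2 (mem_centralizer_singleton_iff.2 H.hh_u)) ((closure_le _).2 (by
        rintro _ (rfl | rfl)
        exacts [mem_centralizer_singleton_iff.2 (H.z_comm _).symm,
          mem_centralizer_singleton_iff.2 rfl]))
    exact mul_inv_eq_iff_eq_mul.2 (mem_centralizer_singleton_iff.1 (this hg))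
  have hc : ∀ g, g * u * g⁻¹ = u → g ∈ zpowers (hh y c m) ⊔ closure {c ^ l, u} ∧
      ∀ h ∈ zpowers (hh y c m), Commute h g := by
    intro g hg
    have h1 := H.cent hg
    refine ⟨((closure_le _).2 (by
      rintro _ (rfl | rfl | rfl)
      exacts [mem_sup_left (mem_zpowers _), mem_sup_right (subset_closure (by simp)),
        mem_sup_right (subset_closure (by simp))]) : _ ≤ _) h1, cm g ?_⟩
    have : closure {hh y c m, c ^ l, u} ≤ centralizer {hh y c m} := (closure_le _).2 (by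
      rintro _ (rfl | rfl | rfl)
      exacts [mem_centralizer_singleton_iff.2 rfl,
        mem_centralizer_singleton_iff.2 (H.z_comm _).symm, mem_centralizer_singleton_iff.2 H.hh_u.symm])
    exact mem_centralizer_singleton_iff.1 (this h1)
  refine ⟨_, zpowers (hh y c m), c ^ l, u, 1, one_mem _, one_mul _, H.zz, hu,
    by rw [one_mul, (H.z_comm u).eq], cm _ (H.z_comm _).symm, cm _ H.hh_u.symm,
    fun h h1 h' h2 => cm h' (cm _ (Commute.refl _) h' h2) h h1, h1, h2, h3, rfl,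
    fun g hg hQ' => ?_, t, fun e => H.z1 (mul_eq_right.1 (t1.symm.trans (hQ t e))), t2,
    fun h hh => (cm t t3 h hh).symm⟩
  obtain ⟨k, hk⟩ := H.conj_u g
  have h4 : c ^ k ∈ zpowers (hh y c m) ⊔ closure {c ^ l, u} := by
    have uQ : u ∈ zpowers (hh y c m) ⊔ closure {c ^ l, u} :=
      mem_sup_right (subset_closure (by simp))
    exact (mul_mem_cancel_right uQ).1 (hk ▸ (mem_normalizer_iff.1 hg u).1 uQ)
  have h5 := hQ _ h4
  rw [H.c_u, mul_eq_right] at h5
  rcases invol_unique (k := k) (by rw [← h5]; group) H.zz H.z1 with h | h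
  · exact absurd (hc g (by rw [hk, h, one_mul])).1 hQ'
  refine ⟨fun s hs => ?_, Or.inl (mul_inv_eq_iff_eq_mul.2 (H.z_comm g)), Or.inl (by rw [hk, h])⟩
  have := (cm t t3 s hs).mul_right ((hc (t⁻¹ * g) (by
    calc _ = t⁻¹ * (g * u * g⁻¹) * t := by group
      _ = u := by rw [hk, h, ← t1]; group)).2 s hs)
  rw [mul_inv_cancel_left] at this
  rw [← this.eq, mul_inv_cancel_right]
  exact hs

end Core

theorem odd_pow [Finite G] (hG : IsPGroup 2 G) (g : G) (k : ℤ) (h : g ^ (2 * k + 1) = 1) : g = 1 :=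
  mem_bot.1 (H9.Bic.mem_of_odd hG (N := ⊥) ⟨k, rfl⟩ h)

theorem exists_core [Finite G] {x : G} (S : Str x) (hc : IsCyclic (_root_.commutator G)) {u : G}
    (hu : u ∉ frattini G) (h2 : u ^ 2 ∈ _root_.commutator G) :
    ∃ (y c : G) (m l j : ℤ), Core y u c m l ∧ y * y ∉ zpowers c ∧ u * u = c ^ (2 * j) ∧
      c ^ (2 * j) * c ^ (2 * j) = 1 := by
  have top := S.gen x u S.xP hu (S.sq u h2)
  obtain ⟨c, hc0⟩ : ∃ c, c = ⁅x, u⁆ := ⟨_, rfl⟩
  have xu : x * u * x⁻¹ = c * u := by rw [hc0, commutatorElement_def]; group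
  have cA : c ∈ _root_.commutator G := hc0 ▸ commutator_mem_commutator (mem_top x) (mem_top u)
  have nA : (zpowers c).Normal := by
    obtain ⟨d, hd⟩ := (Subgroup.isCyclic_iff_exists_zpowers_eq_top _).1 hc
    obtain ⟨n, rfl⟩ : c ∈ zpowers d := hd ▸ cA
    refine ⟨?_⟩
    rintro _ ⟨i, rfl⟩ g
    obtain ⟨k, hk⟩ : g * d * g⁻¹ ∈ zpowers d :=
      hd ▸ (inferInstance : (_root_.commutator G).Normal).conj_mem d (hd ▸ mem_zpowers d) g
    refine ⟨k * i, ?_⟩
    simp only [← conj_zpow, ← show d ^ k = _ from hk]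
    group
  have A : _root_.commutator G = zpowers c := by
    refine le_antisymm ?_ (zpowers_le.2 cA)
    have := H90.commutator_closure_pair_le (N := zpowers c) (x := x) (y := u)
      (by simp [normalizer_eq_top]) (by simp [normalizer_eq_top]) (hc0 ▸ mem_zpowers _)
    rwa [top] at this
  have top' : zpowers x ⊔ zpowers u = ⊤ := by
    rw [← top, zpowers_eq_closure, zpowers_eq_closure, ← Subgroup.closure_union]; rfl
  have c1 : c ≠ 1 := by
    rintro rfl
    exact S.nm (H9.Bic.meta_of_commutator_le (A ▸ by simp) top')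
  obtain ⟨l, z1, zz⟩ : ∃ l : ℤ, c ^ l ≠ 1 ∧ c ^ l * c ^ l = 1 := by
    obtain ⟨r, hr⟩ := (IsPGroup.iff_orderOf.1 S.pG) c
    obtain _ | r := r
    · exact absurd (orderOf_eq_one_iff.1 hr) c1
    refine ⟨(2 ^ r : ℕ), ?_, ?_⟩ <;> rw [zpow_natCast]
    · exact pow_ne_one_of_lt_orderOf (by positivity) (by rw [hr, pow_succ]; have := Nat.two_pow_pos r; omega)
    · rw [← pow_add, ← two_mul, ← pow_succ', ← hr, pow_orderOf_eq_one]
  have odd : ∀ g : G, ∃ a : ℤ, g * c * g⁻¹ = c ^ (2 * a + 1) := by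
    intro g
    obtain ⟨k, hk⟩ := nA.conj_mem c (mem_zpowers c) g
    rcases Int.even_or_odd' k with ⟨a, rfl | rfl⟩
    · refine absurd ?_ z1
      have : g * c ^ l * g⁻¹ = 1 := by
        rw [← conj_zpow, ← show c ^ (2 * a) = _ from hk, ← zpow_mul, mul_comm, zpow_mul,
          zpow_even zz]
      simpa using this
    · exact ⟨a, hk.symm⟩
  obtain ⟨j, hj⟩ : ∃ j : ℤ, u * u = c ^ (2 * j) := by
    obtain ⟨k, hk⟩ : u ^ 2 ∈ zpowers c := A ▸ h2
    rcases Int.even_or_odd' k with ⟨a, rfl | rfl⟩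
    · exact ⟨a, by rw [← pow_two]; exact hk.symm⟩
    refine absurd (H9.Bic.meta_of_commutator_le ?_ (sup_comm (zpowers x) _ ▸ top')) S.nm
    rw [A, zpowers_le]
    exact H9.Bic.mem_of_odd S.pG ⟨a, rfl⟩ (by
      rw [show c ^ (2 * a + 1) = _ from hk]; exact pow_mem (mem_zpowers u) 2)
  obtain ⟨a, ha⟩ := odd x
  obtain ⟨b, hb⟩ := odd u
  have e1 : c ^ (2 * b + 2) = c ^ (4 * j * a) := by
    have h1 : x * (u * u) * x⁻¹ = c * (u * c * u⁻¹) * (u * u) := by
      calc _ = (x * u * x⁻¹) * (x * u * x⁻¹) := by group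
        _ = _ := by rw [xu]; group
    rw [hb, hj, ← conj_zpow, ha] at h1
    calc _ = c * c ^ (2 * b + 1) * c ^ (2 * j) * c ^ (-(2 * j)) := by group
      _ = _ := by rw [← h1]; group
  have e2 : c ^ (4 * j * b) = 1 := by
    have h1 : u * (u * u) * u⁻¹ = u * u := by group
    rw [hj, ← conj_zpow, hb] at h1
    calc _ = (c ^ (2 * b + 1)) ^ (2 * j) * (c ^ (2 * j))⁻¹ := by group
      _ = 1 := by rw [h1, mul_inv_cancel]
  have e3 : c ^ (4 * j) = 1 := odd_pow S.pG _ (-(j * a)) (by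
    calc _ = (c ^ (4 * j * b))⁻¹ * (c ^ (2 * b + 2)) ^ (2 * j) * ((c ^ (4 * j * a)) ^ (2 * j))⁻¹ := by
          group
      _ = 1 := by rw [e1, e2]; group)
  have uc : u * c * u⁻¹ = c⁻¹ := by
    rw [zpow_mul, e3, one_zpow] at e1
    rw [hb, eq_inv_iff_mul_eq_one, ← e1]; group
  have x2 : x * x ∉ zpowers c := fun h => S.sq x⁻¹ (by
    rw [A, inv_pow, pow_two]; exact inv_mem h) (by simp)
  have w2 : c ^ (2 * j) * c ^ (2 * j) = 1 := by rw [← e3]; group
  rcases Int.even_or_odd' a with ⟨m, rfl | rfl⟩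
  · exact ⟨x, c, m, l, j, ⟨top, A, xu, uc, by rw [ha]; group, z1, zz, odd_pow S.pG⟩, x2, hj, w2⟩
  refine ⟨x * u, c, -m - 1, l, j, ⟨?_, A, by rw [← xu]; group, uc, ?_, z1, zz, odd_pow S.pG⟩,
    fun h => x2 ?_, hj, w2⟩
  · refine eq_top_iff.2 (top ▸ (closure_le _).2 ?_)
    have hu : u ∈ closure {x * u, u} := subset_closure (by simp)
    rintro _ (rfl | rfl)
    exacts [(mul_mem_cancel_right hu).1 (subset_closure (by simp)), hu]
  · calc _ = x * (u * c * u⁻¹) * x⁻¹ := by group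
      _ = (x * c * x⁻¹)⁻¹ := by rw [uc]; group
      _ = _ := by rw [ha]; group
  · rw [show x * x = (x * c * x⁻¹) * (x * u * (x * u)) * (u * u)⁻¹ by
      rw [hc0, commutatorElement_def]; group, ha, hj]
    exact mul_mem (mul_mem ⟨_, rfl⟩ h) (inv_mem ⟨_, rfl⟩)

theorem cyc : CycStmt.{u} := by
  intro G _ _ x S hc
  have key : ∀ u : G, u ∉ frattini G → u ^ 2 ∈ _root_.commutator G → u * u ≠ 1 →
      ∃ (Q C : Subgroup G) (a b ζ : G), AD Q C a b ζ := by
    intro u h1 h2 h3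
    obtain ⟨y, c, m, l, j, H, -, h4, h5⟩ := exists_core S hc h1 h2
    exact Core.caseQ (l := 2 * j) { H with z1 := h4 ▸ h3, zz := h5 } rfl h4
  obtain ⟨u, h1, h2⟩ := S.exu
  by_cases h3 : u * u = 1
  swap
  · exact key u h1 h2 h3
  obtain ⟨y, c, m, l, j, H, h4, -⟩ := exists_core S hc h1 h2
  have cP : ∀ n : ℤ, c ^ n ∈ frattini G := fun n =>
    H89.commutator_le_frattini S.pG (H.A ▸ ⟨n, rfl⟩)
  have hP : zpowers (Core.hh y c m) ≤ frattini G :=
    zpowers_le.2 (mul_mem (cP _) (pow_two y ▸ H89.pow_mem_frattini S.pG y))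
  by_cases h5 : c ^ l ∈ zpowers (Core.hh y c m)
  swap
  · exact H.caseD h3 h5 (fun e => h1 (hP e)) fun e => h1 ((mul_mem_cancel_left (cP l)).1 (hP e))
  obtain ⟨n, hn⟩ := h5
  replace hn : Core.hh y c m ^ n = c ^ l := hn
  rcases Int.even_or_odd' n with ⟨k, rfl | rfl⟩
  · have h6 : u * Core.hh y c m ^ k * (u * Core.hh y c m ^ k) = c ^ l := by
      rw [(H.hh_u.zpow_left k).mul_mul_mul_comm, h3, one_mul, ← hn, two_mul, zpow_add]
    exact key (u * Core.hh y c m ^ k) (fun e => h1 ((mul_mem_cancel_right (hP ⟨k, rfl⟩)).1 e))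
      (by rw [pow_two, h6, H.A]; exact ⟨l, rfl⟩) (h6 ▸ H.z1)
  · have h6 : Core.hh y c m * Core.hh y c m = 1 := H.odd _ k (by
      rw [← pow_two, ← zpow_natCast, ← zpow_mul, mul_comm, zpow_mul, hn, zpow_natCast, pow_two, H.zz])
    rw [zpow_odd h6] at hn
    exact absurd ((mul_mem_cancel_left (⟨_, rfl⟩ : c ^ (-(2 * m + 1)) ∈ zpowers c)).1
      (show Core.hh y c m ∈ zpowers c from ⟨l, hn.symm⟩)) h4

end Cfsg.Agent.H4.BcCyc
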