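import Cfsg.Agent.H74.CksDefs
import Cfsg.Agent.H33.OrthDeg8
import Cfsg.Agent.H82.Zsigmondy
import Cfsg.Agent.S0293

/-! No doubly transitive action of `PΩ⁺_{2n}(3)` of degree a power of three. -/

set_option autoImplicit false
set_option linter.unusedSectionVars false

namespace Cfsg.Agent.H4.CksOp3

open Cfsg.Agent.H30 Cfsg.Agent.H33.OD QuadraticMap Module

section

variable {F V : Type*} [Field F] [Fintype F] [AddCommGroup V] [Module F V] [FiniteDimensional F V]
  [Fintype V] {Q : QuadraticForm F V}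

local notation "q" => Fintype.card F

theorem data3 {N0 : ℕ} (nd : (polarBilin Q).Nondegenerate) {k : ℕ} (hk : 2 ≤ k)
    (hV : finrank F V = 2 * k + 4) (hp : H79.IsPlus (F := F) Q) (hq : q = 3)
    (hN : (N0 : ℤ) = 3 ^ 2 * 3 ^ k * 3 ^ k + 1) : Data Q N0 (k + 2) := by
  have hd : ∀ x x', IsHyp Q x x' → finrank F (hperp Q x x') = 2 * k + 2 := fun x x' h => by
    have := h.finrank_hperp
    omega
  have key := data_of (N0 := N0) (ν := k + 2) nd (by omega)
    (fun M hM => by have := two_mul_finrank_le nd M hM; omega) (by omega) (by omega)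
    (q * (q : ℤ) ^ k * q ^ k + q * q ^ k - q ^ k - 1) (q * (q : ℤ) ^ k * q ^ k - q ^ k)
    (q ^ 2 * (q : ℤ) ^ k * q ^ k)
    (by rw [hV, show 2 * k + 4 - 2 = 2 * k + 2 by omega]; ring)
    (fun x x' h => by
      rw [nc_plus_zero_int (h.nondegOn_hperp nd).restrict (hd x x' h) ((h.isPlus_iff nd).1 hp),
        Nat.card_eq_fintype_card]
      ring)
    (fun x x' h c hc => by
      rw [nc_plus_ne_zero_int (h.nondegOn_hperp nd).restrict (hd x x' h) ((h.isPlus_iff nd).1 hp)
        hc, Nat.card_eq_fintype_card]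
      exact le_of_eq (by ring))
  obtain ⟨r, s, hr, hs, e1, e2⟩ := param 3 3 k le_rfl (by omega) hk
  obtain rfl : r = 0 := by omega
  push_cast at e2
  have hN' := hN
  rw [e2] at hN'
  refine key ?_ (by omega) (fun _ => ?_) ?_ (by omega) (fun _ => ⟨?_, ?_⟩) (by omega) ?_ ?_
  iterate 6 (rw [hq]; push_cast; rw [e2]; nlinarith)
  intro h
  obtain rfl : k = 2 := by omega
  refine ⟨1080, 40, ?_⟩
  rw [hq, hN]
  norm_num

end

theorem le_index_plus {F : Type*} [Field F] [Fintype F] (hF : Fintype.card F = 3) (m : ℕ)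
    (hm : 4 ≤ m) (H : Subgroup (POmega F (quadFormPlus m F))) (hH : H ≠ ⊤) :
    3 ^ (2 * m - 2) < H.index := by
  obtain ⟨k, rfl⟩ : ∃ k, m = k + 2 := ⟨m - 2, by omega⟩
  have nd := H30.qPlus_nondegenerate (F := F) (k + 2)
  have hV : Module.finrank F (Fin (k + 2) ⊕ Fin (k + 2) → F) = 2 * k + 4 := by
    simp; omega
  have hp : H79.IsPlus (F := F) (H30.qPlus F (k + 2)) := H79.isPlus_plus _
  have D := data3 (N0 := 3 ^ (2 * (k + 2) - 2) + 1) nd (by omega) hV hp hF (by
    rw [show 2 * (k + 2) - 2 = 2 + k + k by omega]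
    push_cast
    ring)
  have e := pomegaEquivEich nd (not_isExc_of_finrank (by omega)) (by simp; omega)
  let f : eichGroup (H30.qPlus F (k + 2)) →* POmega F (quadFormPlus (k + 2) F) :=
    e.symm.toMonoidHom.comp (QuotientGroup.mk' _)
  have hf : Function.Surjective f := e.symm.surjective.comp (QuotientGroup.mk'_surjective _)
  rw [← Subgroup.index_comap_of_surjective H hf]
  refine le_index D _ fun h => hH ?_
  rw [← Subgroup.map_comap_eq_self_of_surjective hf H, h, Subgroup.map_top_of_surjective _ hf]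

theorem not_dvd {r a c j : ℕ} (ha : 0 < a) (h : IsPrimitiveRoot (a : ZMod r) c) (hj : 0 < j)
    (hjc : j < c) : ¬ r ∣ a ^ j - 1 := fun hd => by
  have h1 : ((a ^ j - 1 : ℕ) : ZMod r) = 0 := (ZMod.natCast_eq_zero_iff _ _).2 hd
  rw [Nat.cast_sub (Nat.one_le_pow _ _ ha), sub_eq_zero] at h1
  push_cast at h1
  exact h.pow_ne_one_of_pos_of_lt hj.ne' hjc h1

theorem op3 : H74.Cks.Op3Stmt := by
  intro F _ _ hF n hn H hT _
  rintro ⟨c, hc⟩
  have h1 := le_index_plus hF n hn H hT.max.1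
  rw [hc] at h1
  have h2 : 2 * n - 2 < c := (Nat.pow_lt_pow_iff_right (by omega)).1 h1
  obtain ⟨r, hr, hp⟩ := H82.zsigmondy 3 c (by omega) (by omega) (by omega) (by omega)
  have h3 : r ∣ 3 ^ c - 1 := by
    rw [← ZMod.natCast_eq_zero_iff, Nat.cast_sub (Nat.one_le_pow _ _ (by omega)), sub_eq_zero]
    push_cast
    exact_mod_cast hp.pow_eq_one
  have h4 : r ∣ Nat.card (POmega F (quadFormPlus n F)) :=
    h3.trans ((Dvd.intro_left _ rfl).trans (hc ▸ hT.dvd))
  have h5 := h4.mul_left (Nat.gcd 4 (3 ^ n - 1))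
  rw [S0293.result hF n hn] at h5
  rcases (Nat.Prime.dvd_mul hr).1 h5 with h | h
  · rcases (Nat.Prime.dvd_mul hr).1 h with h | h
    · have h6 := hr.dvd_of_dvd_pow h
      have h7 : r ∣ 3 ^ c := h6.trans (dvd_pow_self 3 (by omega))
      have h8 := (Nat.dvd_sub h7 h3)
      rw [Nat.sub_sub_self (Nat.one_le_pow _ _ (by omega))] at h8
      exact hr.one_lt.ne' (Nat.dvd_one.1 h8)
    · exact not_dvd (by omega) hp (by omega) (by omega) h
  · obtain ⟨i, hi, h⟩ := (Nat.Prime.prime hr).exists_mem_finset_dvd h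
    rw [Finset.mem_range] at hi
    exact not_dvd (by omega) hp (by omega) (by omega) h

end Cfsg.Agent.H4.CksOp3
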