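import Cfsg.Agent.H4.D4Chs

/-! Project D4F, piece AE1: automorphisms of `E` are semilinear on `W`. -/

set_option autoImplicit false

namespace Cfsg.Agent.H4.D4

open Cfsg.Agent.H97 Cfsg.Agent.H96.VB Cfsg.Agent.H96.DF Subgroup
open scoped commutatorElement

universe u

variable {F K : Type u} [Field F] [Field K] [Algebra F K] {C : Tri F K}

theorem line2 {c d : F} (hcd : ¬ (c = 0 ∧ d = 0)) {v w : F × F} (hv : v ≠ 0)
    (h1 : c * v.1 + d * v.2 = 0) (h2 : c * w.1 + d * w.2 = 0) : ∃ μ : F, w = μ • v := by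
  have k : v.1 * w.2 = v.2 * w.1 := by
    by_cases hc : c = 0
    · have hd : d ≠ 0 := fun e => hcd ⟨hc, e⟩
      apply mul_left_cancel₀ hd
      linear_combination v.1 * h2 - w.1 * h1
    · apply mul_left_cancel₀ hc
      linear_combination w.2 * h1 - v.2 * h2
  by_cases ha : v.1 = 0
  · have hb : v.2 ≠ 0 := fun e => hv (Prod.ext ha e)
    refine ⟨w.2 / v.2, Prod.ext ?_ (by simp [hb])⟩
    rw [ha, zero_mul] at k
    simp [ha, (mul_eq_zero.1 k.symm).resolve_left hb]
  · refine ⟨w.1 / v.1, Prod.ext (by simp [ha]) ?_⟩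
    simp only [Prod.smul_snd, smul_eq_mul]
    field_simp
    linear_combination k

/-- An additive injection of the plane which maps lines into lines is semilinear. -/
theorem semi2 [Finite F] (A : F × F →+ F × F) (hA : Function.Injective A)
    (h : ∀ (c : F) (v : F × F), ∃ d : F, A (c • v) = d • A v) :
    ∃ φ : RingAut F, ∃ a b c d : F, a * d ≠ b * c ∧
      ∀ s t, A (s, t) = (a * φ s + b * φ t, c * φ s + d * φ t) := by
  choose f hf using h
  have hs := Finite.injective_iff_surjective.1 hA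
  have h0 : ∀ v, A v = 0 → v = 0 := fun v e => hA (e.trans (map_zero A).symm)
  have e0 : ∀ s t, A (s, t) = f s (1, 0) • A (1, 0) + f t (0, 1) • A (0, 1) := fun s t => by
    rw [← hf, ← hf, ← map_add]; simp
  have hd : (A (1, 0)).1 * (A (0, 1)).2 ≠ (A (0, 1)).1 * (A (1, 0)).2 := fun e => by
    have k : ∀ w : F × F, (A (1, 0)).2 * w.1 = (A (1, 0)).1 * w.2 := fun w => by
      obtain ⟨⟨s, t⟩, rfl⟩ := hs w
      rw [e0 s t]
      simp only [Prod.fst_add, Prod.snd_add, Prod.smul_fst, Prod.smul_snd, smul_eq_mul]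
      linear_combination (-f t (0, 1)) * e
    have := h0 (1, 0) (Prod.ext (by simpa using (k (0, 1)).symm) (by simpa using k (1, 0)))
    simp at this
  have ind : ∀ a b c d : F, a • A (1, 0) + b • A (0, 1) = c • A (1, 0) + d • A (0, 1) →
      a = c ∧ b = d := fun a b c d e => by
    have e1 := congrArg Prod.fst e
    have e2 := congrArg Prod.snd e
    simp only [Prod.fst_add, Prod.snd_add, Prod.smul_fst, Prod.smul_snd, smul_eq_mul] at e1 e2
    have hd' := sub_ne_zero.2 hd
    exact ⟨mul_right_cancel₀ hd' (by linear_combination (A (0, 1)).2 * e1 - (A (0, 1)).1 * e2),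
      mul_right_cancel₀ hd' (by linear_combination (A (1, 0)).1 * e2 - (A (1, 0)).2 * e1)⟩
  have e1 : f 1 (1, 0) = 1 ∧ f 1 (0, 1) = 1 := ind _ _ _ _ (by
    rw [← e0, one_smul, one_smul, ← map_add]; simp)
  have e2 : ∀ s m, f s (1, 0) = f s (1, m) ∧ f (s * m) (0, 1) = f s (1, m) * f m (0, 1) := fun s m => by
    apply ind
    have e := e0 1 m
    rw [e1.1, one_smul] at e
    rw [← e0, mul_smul, ← smul_add, ← e, ← hf]; simp
  have e3 : ∀ s, f s (0, 1) = f s (1, 0) := fun s => by
    have := (e2 s 1).2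
    rw [mul_one, e1.2, mul_one] at this
    rw [this, (e2 s 1).1]
  have add : ∀ s t, f (s + t) (1, 0) = f s (1, 0) + f t (1, 0) := fun s t => by
    refine (ind _ 0 _ 0 ?_).1
    rw [add_smul, ← hf, ← hf, ← hf, add_smul, map_add]
  let φ : F →+* F :=
    { toFun := fun s => f s (1, 0)
      map_one' := e1.1
      map_mul' := fun s m => by rw [← e3, (e2 s m).2, ← (e2 s m).1, e3]
      map_zero' := by simpa using add 0 0
      map_add' := add }
  refine ⟨RingEquiv.ofBijective φ (Finite.injective_iff_bijective.1 φ.injective), _, _, _, _, hd,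
    fun s t => ?_⟩
  rw [e0, e3]
  ext <;> simp [φ, mul_comm]

theorem xw_add (a z a' z' : F) : xw C (a + a') (z + z') = xw C a z * xw C a' z' := by
  ext <;> simp [xw]

variable [Finite K]

theorem np_ext (α : MulAut (E C)) {g : U C} (h : NP g) : NP (ext α g) := by
  obtain ⟨hg, h⟩ := (np_iff g).1 h
  refine (np_iff _).2 ⟨ext_mem α hg, fun w hw => ?_⟩
  obtain ⟨y, hy, e⟩ := h _ (chEW.2 α⁻¹ w (W_le_E hw) hw)
  exact ⟨ext α y, chEY.2 α y (Y_le_E hy) hy, by rw [← ext_map_comm α hg (Y_le_E hy), e, ext_ext_inv]⟩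

/-- the additive map induced on `W` -/
noncomputable def wmap (α : MulAut (E C)) : F × F →+ F × F :=
  AddMonoidHom.mk' (fun v => ((ext α (xw C v.1 v.2)).a, (ext α (xw C v.1 v.2)).z)) fun v w => by
    have h := fun v : F × F => mem_W.1 (chEW.2 α _ (W_le_E (xw_mem v.1 v.2)) (xw_mem v.1 v.2))
    simp only [Prod.fst_add, Prod.snd_add]
    rw [xw_add, ext_map_mul α (W_le_E (xw_mem _ _)) (W_le_E (xw_mem _ _))]
    simp [h v, h w]

theorem ext_xw (α : MulAut (E C)) (v : F × F) :
    ext α (xw C v.1 v.2) = xw C (wmap α v).1 (wmap α v).2 :=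
  (xw_eq (chEW.2 α _ (W_le_E (xw_mem v.1 v.2)) (xw_mem v.1 v.2))).symm

theorem wmap_inj (α : MulAut (E C)) : Function.Injective (wmap α) := fun v w e => by
  have := ext_xw α v
  rw [e, ← ext_xw] at this
  have := ext_injective α this
  exact Prod.ext (congrArg U.a this) (congrArg U.z this)

theorem wmap_line (α : MulAut (E C)) (c : F) (v : F × F) : ∃ d : F, wmap α (c • v) = d • wmap α v := by
  by_cases hv : v = 0
  · exact ⟨0, by simp [hv]⟩
  let g : U C := ⟨v.1 • 1, 0, v.2 • 1, 0, 0, 0⟩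
  have hg : g ∈ E C := rfl
  have h1 : ¬ NP (ext α g) := fun h => by
    have := (np_ext α⁻¹ h).2 v.2 (-v.1) (by
      rw [ext_inv_ext]; simp only [g, smul_smul]; rw [← add_smul]; simp [mul_comm])
    exact hv (Prod.ext (neg_eq_zero.1 this.2) this.1)
  simp only [NP, mem_E.1 (ext_mem α hg), true_and, not_forall] at h1
  obtain ⟨a, b, e, hab⟩ := h1
  have k : ∀ s : F, a * (wmap α (s • v)).1 + b * (wmap α (s • v)).2 = 0 := fun s => by
    obtain ⟨x, hx⟩ := C.T_onto one_ne_zero s
    have hy : xx C x ∈ Y C := ⟨rfl, rfl, rfl⟩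
    have e1 : ⁅g, xx C x⁆ = xw C (s • v).1 (s • v).2 := by
      rw [cm_EY hg hy, ← hx]; simp [g, xx, mul_comm]
    have e2 := ext_xw α (s • v)
    rw [← e1, ext_map_comm α hg (Y_le_E hy), cm_EY (ext_mem α hg) (chEY.2 α _ (Y_le_E hy) hy)] at e2
    have e3 := congrArg U.a e2
    have e4 := congrArg U.z e2
    simp only [xw] at e3 e4
    have := congrArg (fun r => C.T (r * (ext α (xx C x)).x)) e
    simpa [add_mul, e3, e4] using this
  exact line2 hab (fun e => hv (wmap_inj α (e.trans (map_zero _).symm))) (by simpa using k 1) (k c)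

theorem ae1 : AE1Stmt C := fun α => by
  haveI : Finite F := Finite.of_injective _ (algebraMap F K).injective
  obtain ⟨φ, a, b, c, d, h, e⟩ := semi2 (wmap α) (wmap_inj α) (wmap_line α)
  exact ⟨φ, a, b, c, d, h, fun s t => by rw [ext_xw α (s, t), e]⟩

end Cfsg.Agent.H4.D4
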