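import Cfsg.Agent.H96.D4Defs

/-! Project D4F, piece CHS: characteristic subgroups of the Sylow subgroup of `³D₄(q)`. -/

set_option autoImplicit false

namespace Cfsg.Agent.H4.D4

open Cfsg.Agent.H97 Cfsg.Agent.H96.VB Cfsg.Agent.H96.DF Subgroup
open scoped commutatorElement

universe u

variable {F K : Type u} [Field F] [Field K] [Algebra F K] {C : Tri F K} {g : U C}

theorem cr_nd [Finite K] {y : K} (h : ∀ t, C.cr t y = 0) : y = 0 := by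
  by_contra hy
  obtain ⟨f, hf⟩ := C.exists_not_fix
  obtain ⟨c, e, -⟩ := C.cr_eq_zero hy (C.cr_comm _ _ ▸ h (f * y))
  rw [Algebra.smul_def] at e
  exact hf (by rw [mul_right_cancel₀ hy e, AlgEquiv.commutes])

theorem T_nd' [Finite K] {x : K} (h : ∀ t, C.T (t * x) = 0) : x = 0 :=
  C.T_nd fun t => mul_comm t x ▸ h t

theorem cm_J (h : g ∈ J C) (k : U C) : ⁅g, k⁆ ∈ Y C := by
  simp [mem_Y, comm_y, (mem_J.1 h).1, (mem_J.1 h).2]

theorem cm_Y (h : g ∈ Y C) (k : U C) : ⁅g, k⁆ ∈ W C := by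
  obtain ⟨h1, h2, h3⟩ := mem_Y.1 h
  simp [mem_W, comm_y, comm_x, *]

theorem cm_W (h : g ∈ W C) (k : U C) : ⁅g, k⁆ = xz C (g.a * k.u) := by
  obtain ⟨h1, h2, h3, h4⟩ := mem_W.1 h
  ext <;> simp [xz, comm_y, comm_x, comm_a, comm_z, *]
  ring

theorem xz_mem (z : F) : xz C z ∈ Z C := ⟨rfl, rfl, rfl, rfl, rfl⟩

theorem xz_zero : xz C 0 = 1 := rfl

theorem cm_Z (h : g ∈ Z C) (k : U C) : ⁅g, k⁆ = 1 := by
  obtain ⟨h1, h2, h3, h4, h5⟩ := mem_Z.1 h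
  rw [cm_W ⟨h1, h2, h3, h4⟩, h5, zero_mul, xz_zero]

theorem cm_WE (h : g ∈ W C) {k : U C} (hk : k ∈ E C) : ⁅g, k⁆ = 1 := by
  rw [cm_W h, mem_E.1 hk, mul_zero, xz_zero]

theorem Z_le_W : Z C ≤ W C := fun _ h => ⟨h.1, h.2.1, h.2.2.1, h.2.2.2.1⟩
theorem W_le_Y : W C ≤ Y C := fun _ h => ⟨h.1, h.2.1, h.2.2.1⟩
theorem Y_le_J : Y C ≤ J C := fun _ h => ⟨h.1, h.2.1⟩
theorem Y_le_E : Y C ≤ E C := fun _ h => h.2.1
theorem W_le_E : W C ≤ E C := fun _ h => h.2.1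

/-- commutators of `E` with `Y` -/
theorem cm_EY (h : g ∈ E C) {k : U C} (hk : k ∈ Y C) :
    ⁅g, k⁆ = xw C (C.T (g.t * k.x)) (C.T (g.y * k.x)) := by
  obtain ⟨h1, h2, h3⟩ := mem_Y.1 hk
  have h4 := mem_E.1 h
  ext <;> simp [xw, comm_y, comm_x, comm_a, comm_z_E h4 h2, *]

theorem J_of (h : ∀ k, ⁅g, k⁆ ∈ Y C) : g ∈ J C :=
  ⟨by simpa [comm_y, xu, mem_Q] using (mem_Y.1 (h (xu C 1))).2.2,
    by simpa [comm_y, xt, mem_E] using (mem_Y.1 (h (xt C 1))).2.2⟩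

theorem E_of (h : ∀ k ∈ W C, ⁅k, g⁆ = 1) : g ∈ E C := by
  have := h (xa C 1) ⟨rfl, rfl, rfl, rfl⟩
  rw [cm_W ⟨rfl, rfl, rfl, rfl⟩] at this
  simpa [xz, xa, mem_E] using congrArg U.z this

variable [Finite K]

theorem Y_ofE (hg : g ∈ E C) (h : ∀ k ∈ E C, ⁅g, k⁆ ∈ W C) : g ∈ Y C :=
  ⟨cr_nd (C := C) fun t => by simpa [comm_x, xy, C.cr_comm t] using (h (xy C t) rfl).2.2.2, hg,
    cr_nd (C := C) fun t => by simpa [comm_x, xt, mem_E.1 hg] using (h (xt C t) rfl).2.2.2⟩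

theorem W_ofE (hg : g ∈ Y C) (h : ∀ k ∈ E C, ⁅g, k⁆ ∈ Z C) : g ∈ W C := by
  obtain ⟨h1, h2, h3⟩ := mem_Y.1 hg
  exact ⟨h1, h2, h3, T_nd' (C := C) fun t => by
    simpa [comm_a, xt, h1, h2, h3] using (h (xt C t) rfl).2.2.2.2⟩

theorem Y_of (h : ∀ k, ⁅g, k⁆ ∈ W C) : g ∈ Y C :=
  Y_ofE (J_of fun k => W_le_Y (h k)).2 fun k _ => h k

theorem W_of (h : ∀ k, ⁅g, k⁆ ∈ Z C) : g ∈ W C :=
  W_ofE (Y_of fun k => Z_le_W (h k)) fun k _ => h k

theorem Z_ofQ (hg : g ∈ Q C) (h : ∀ k ∈ Q C, ⁅g, k⁆ = 1) : g ∈ Z C := by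
  have e : ∀ k ∈ Q C, om C (br g) (br k) = 0 := fun k hk => by
    have := h k hk
    rw [comm_Q hg hk] at this
    exact congrArg U.z this
  exact ⟨hg, by simpa [om, br, xa] using e (xa C 1) rfl,
    C.T_nd fun t => by simpa [om, br, xx] using e (xx C t) rfl,
    C.T_nd fun t => by simpa [om, br, xy] using e (xy C t) rfl, by simpa [om, br, xu] using e (xu C 1) rfl⟩

theorem Z_of (h : ∀ k : U C, ⁅g, k⁆ = 1) : g ∈ Z C :=
  Z_ofQ (W_of fun k => h k ▸ one_mem _).1 fun k _ => h k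

theorem Q_of (h : ∀ k ∈ Y C, ⁅g, k⁆ ∈ Z C) : g ∈ Q C :=
  C.T_nd fun x => by simpa [comm_a, xx] using (h (xx C x) ⟨rfl, rfl, rfl⟩).2.2.2.2

omit [Finite K] in
theorem cm_aut (β : MulAut (U C)) (g k : U C) : ⁅β g, k⁆ = β ⁅g, β⁻¹ k⁆ := by
  rw [map_commutatorElement, MulAut.apply_inv_self]

theorem chZ (β : MulAut (U C)) (h : g ∈ Z C) : β g ∈ Z C := Z_of fun k => by
  rw [cm_aut, cm_Z h, map_one]

theorem chW (β : MulAut (U C)) (h : g ∈ W C) : β g ∈ W C := W_of fun k => by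
  rw [cm_aut, cm_W h]; exact chZ β (xz_mem _)

theorem chY (β : MulAut (U C)) (h : g ∈ Y C) : β g ∈ Y C := Y_of fun k => by
  rw [cm_aut]; exact chW β (cm_Y h _)

theorem chJ (β : MulAut (U C)) (h : g ∈ J C) : β g ∈ J C := J_of fun k => by
  rw [cm_aut]; exact chY β (cm_J h _)

theorem chE (β : MulAut (U C)) (h : g ∈ E C) : β g ∈ E C := E_of fun k hk => by
  rw [← commutatorElement_inv, cm_aut, ← commutatorElement_inv, cm_WE (chW β⁻¹ hk) h]; simp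

theorem chQ (β : MulAut (U C)) (h : g ∈ Q C) : β g ∈ Q C := Q_of fun k hk => by
  rw [cm_aut, comm_Q h (chY β⁻¹ hk).1]; exact chZ β (xz_mem _)

theorem chEW : Ch (E C) (W C) := Ch.of_iff IvS.one.commP fun g =>
  ⟨fun h => ⟨W_le_E h, fun _ hk => cm_WE h hk⟩, fun ⟨hg, h⟩ =>
    have h' : ∀ k ∈ E C, ⁅g, k⁆ ∈ Z C := fun k hk => by rw [show ⁅g, k⁆ = 1 from h k hk]; exact one_mem _
    W_ofE (Y_ofE hg fun k hk => Z_le_W (h' k hk)) h'⟩

theorem chEY : Ch (E C) (Y C) := Ch.of_iff chEW.2.commP fun _ =>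
  ⟨fun h => ⟨Y_le_E h, fun k _ => cm_Y h k⟩, fun ⟨hg, h⟩ => Y_ofE hg h⟩

theorem chQZ : Ch (Q C) (Z C) := Ch.of_iff IvS.one.commP fun _ =>
  ⟨fun h => ⟨h.1, fun k _ => cm_Z h k⟩, fun ⟨hg, h⟩ => Z_ofQ hg h⟩

/-- two independent elements have prescribed traces -/
theorem exists_T2 {t y : K} (h : ∀ c d : F, c • t + d • y = 0 → c = 0 ∧ d = 0) (a z : F) :
    ∃ x, C.T (t * x) = a ∧ C.T (y * x) = z := by
  have ht : t ≠ 0 := fun e => one_ne_zero (h 1 0 (by simp [e])).1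
  obtain ⟨x1, h1⟩ := C.T_onto ht 1
  have hy : y - C.T (y * x1) • t ≠ 0 := fun e =>
    one_ne_zero (h (-C.T (y * x1)) 1 (by rw [← e, neg_smul, one_smul]; ring)).2
  obtain ⟨x, hx⟩ := C.T_onto hy (z - a * C.T (y * x1))
  refine ⟨x + (a - C.T (t * x)) • x1, ?_, ?_⟩
  · rw [mul_add, mul_smul_comm, map_add, map_smul, h1, smul_eq_mul]; ring
  · rw [sub_mul, smul_mul_assoc, map_sub, map_smul, smul_eq_mul] at hx
    rw [mul_add, mul_smul_comm, map_add, map_smul, smul_eq_mul]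
    linear_combination hx

omit [Finite K] in
theorem xw_eq {w : U C} (h : w ∈ W C) : xw C w.a w.z = w := by
  obtain ⟨h1, h2, h3, h4⟩ := mem_W.1 h
  ext <;> simp [xw, *]

omit [Finite K] in
theorem xw_mem (a z : F) : xw C a z ∈ W C := ⟨rfl, rfl, rfl, rfl⟩

theorem np_iff (g : U C) : NP g ↔ g ∈ E C ∧ ∀ w ∈ W C, ∃ y ∈ Y C, ⁅g, y⁆ = w := by
  refine and_congr_right fun hg => ⟨fun h w hw => ?_, fun h c d e => ?_⟩
  · obtain ⟨x, h1, h2⟩ := exists_T2 (C := C) h w.a w.z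
    refine ⟨xx C x, ⟨rfl, rfl, rfl⟩, ?_⟩
    rw [cm_EY hg ⟨rfl, rfl, rfl⟩, ← xw_eq hw, ← h1, ← h2]; rfl
  · have k : ∀ a z, c * a + d * z = 0 := fun a z => by
      obtain ⟨y, hy, e'⟩ := h _ (xw_mem a z)
      rw [cm_EY hg hy] at e'
      have e1 : C.T (g.t * y.x) = a := congrArg U.a e'
      have e2 : C.T (g.y * y.x) = z := congrArg U.z e'
      have := congrArg (fun s => C.T (s * y.x)) e
      simpa [add_mul, e1, e2] using this
    exact ⟨by simpa using k 1 0, by simpa using k 0 1⟩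

theorem chs : ChS C where
  q β _ := chQ β
  e β _ := chE β
  j β _ := chJ β
  y β _ := chY β
  w β _ := chW β
  z β _ := chZ β
  ew := chEW
  ey := chEY
  qz := chQZ
  np := np_iff
  ce _ h := E_of fun k hk => commutatorElement_eq_one_iff_mul_comm.2 (h k (W_le_E hk))
  cq _ h := Q_of fun k hk => by
    rw [commutatorElement_eq_one_iff_mul_comm.2 (h k hk.1).symm]; exact one_mem _

end Cfsg.Agent.H4.D4
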