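import Mathlib
import Cfsg.Agent.H4.HHCore
import Cfsg.Agent.H4.CoprimeGen
import Cfsg.Agent.H3.Frattini
import Cfsg.Agent.H3.Fitting

/-! Linear algebra for bounding the `p`-length by the derived length of a Sylow `p`-subgroup. -/

set_option autoImplicit false

namespace Cfsg.Agent.H4

open Subgroup Module HH
open scoped commutatorElement

section Series

variable {G : Type*} [Group G]

/-- The derived series of a subgroup, in the ambient group. -/
def dS (P : Subgroup G) : ℕ → Subgroup G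
  | 0 => P
  | n + 1 => ⁅dS P n, dS P n⁆

theorem dS_succ_le (P : Subgroup G) (n : ℕ) : dS P (n + 1) ≤ dS P n := commutator_le_self _

theorem dS_anti (P : Subgroup G) {m n : ℕ} (h : m ≤ n) : dS P n ≤ dS P m :=
  antitone_nat_of_succ_le (dS_succ_le P) h

theorem dS_le (P : Subgroup G) (n : ℕ) : dS P n ≤ P := dS_anti P (Nat.zero_le n)

theorem map_dS {A : Type*} [Group A] (f : G →* A) (P : Subgroup G) (n : ℕ) :
    (dS P n).map f = dS (P.map f) n := by
  induction n with
  | zero => rfl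
  | succ n ih => rw [dS, map_commutator, ih, dS]

theorem le_normalizer_dS {B P : Subgroup G} (h : B ≤ normalizer (P : Set G)) (n : ℕ) :
    B ≤ normalizer (dS P n : Set G) := by
  induction n with
  | zero => exact h
  | succ n ih => exact le_normalizer_commutator ih ih

theorem dS_eq (P : Subgroup G) (n : ℕ) : dS P n = (derivedSeries P n).map P.subtype := by
  induction n with
  | zero => rw [derivedSeries_zero, ← MonoidHom.range_eq_map, range_subtype]; rfl
  | succ n ih => rw [derivedSeries_succ, map_commutator, ← ih, dS]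

/-- The series `[D, P, P', …]`. -/
def cS (P D : Subgroup G) : ℕ → Subgroup G
  | 0 => D
  | n + 1 => ⁅dS P n, cS P D n⁆

theorem le_normalizer_cS {P D : Subgroup G} (h : P ≤ normalizer (D : Set G)) (n : ℕ) :
    P ≤ normalizer (cS P D n : Set G) := by
  induction n with
  | zero => exact h
  | succ n ih => exact le_normalizer_commutator (le_normalizer_dS le_normalizer n) ih

theorem cS_succ_le {P D : Subgroup G} (h : P ≤ normalizer (D : Set G)) (n : ℕ) :
    cS P D (n + 1) ≤ cS P D n := by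
  rw [cS, commutator_comm]
  exact commutator_le_left_of_le_normalizer ((dS_le P n).trans (le_normalizer_cS h n))

theorem cS_anti {P D : Subgroup G} (h : P ≤ normalizer (D : Set G)) {m n : ℕ} (hmn : m ≤ n) :
    cS P D n ≤ cS P D m := antitone_nat_of_succ_le (cS_succ_le h) hmn

theorem cS_le_dS {P D : Subgroup G} (h : D ≤ P) (n : ℕ) : cS P D n ≤ dS P n := by
  induction n with
  | zero => exact h
  | succ n ih => exact commutator_mono le_rfl ih

theorem cS_mono {P D D' : Subgroup G} (h : D ≤ D') (n : ℕ) : cS P D n ≤ cS P D' n := by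
  induction n with
  | zero => exact h
  | succ n ih => exact commutator_mono le_rfl ih

theorem map_cS {A : Type*} [Group A] (f : G →* A) (P D : Subgroup G) (n : ℕ) :
    (cS P D n).map f = cS (P.map f) (D.map f) n := by
  induction n with
  | zero => rfl
  | succ n ih => rw [cS, map_commutator, ih, map_dS, cS]

theorem le_of_le_commutator_sup [Finite G] {p : ℕ} [Fact p.Prime] {A D E : Subgroup G}
    (hA : IsPGroup p A) (hD : IsPGroup p D) (hAD : A ≤ normalizer (D : Set G))
    (hAE : A ≤ normalizer (E : Set G)) (hDE : D ≤ normalizer (E : Set G)) (h : D ≤ ⁅A, D⁆ ⊔ E) :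
    D ≤ E := by
  set L := normalizer (E : Set G)
  haveI : (E.subgroupOf L).Normal := normal_in_normalizer
  set π := QuotientGroup.mk' (E.subgroupOf L)
  have h1 : (D.subgroupOf L).map π = ⊥ := by
    by_contra h0
    have h2 := commutator_lt_of_isPGroup (P := (A.subgroupOf L).map π) (U := (D.subgroupOf L).map π)
      (hA.comap_subtype.map _) (hD.comap_subtype.map _)
      ((map_mono ((comap_mono hAD).trans (le_normalizer_comap _))).trans (le_normalizer_map _)) h0
    refine h2.not_ge ?_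
    have h3 : D.subgroupOf L ≤ ⁅D.subgroupOf L, A.subgroupOf L⁆ ⊔ E.subgroupOf L := by
      rw [← map_le_map_iff_of_injective L.subtype_injective, Subgroup.map_sup, map_commutator,
        map_subgroupOf_eq_of_le hAE, map_subgroupOf_eq_of_le hDE,
        map_subgroupOf_eq_of_le le_normalizer, commutator_comm]
      exact h
    have := map_mono (f := π) h3
    rwa [Subgroup.map_sup, map_commutator, QuotientGroup.map_mk'_self, sup_bot_eq] at this
  rw [Subgroup.map_eq_bot_iff, QuotientGroup.ker_mk'] at h1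
  exact fun x hx => h1 (show (⟨x, hDE hx⟩ : L) ∈ D.subgroupOf L from hx)

end Series

section RKil

variable {G : Type*} [Group G] {R : Type*} [Ring R]

/-- `L` is killed by all products `(u_{i+n-1} - 1) ⋯ (u_i - 1)` with `u_j ∈ P^{(j)}`. -/
def RKil (σ : G →* R) (P : Subgroup G) : ℕ → ℕ → R → Prop
  | 0, _, L => L = 0
  | n + 1, i, L => ∀ u ∈ dS P i, RKil σ P n (i + 1) ((σ u - 1) * L)

variable {σ : G →* R} {P : Subgroup G}

theorem RKil.mul_right {n i : ℕ} {L : R} (h : RKil σ P n i L) (X : R) : RKil σ P n i (L * X) := by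
  induction n generalizing i L with
  | zero => rw [RKil] at h ⊢; rw [h, zero_mul]
  | succ n ih => exact fun u hu => mul_assoc (σ u - 1) L X ▸ ih (h u hu)

theorem RKil.add {n i : ℕ} {L L' : R} (h : RKil σ P n i L) (h' : RKil σ P n i L') :
    RKil σ P n i (L + L') := by
  induction n generalizing i L L' with
  | zero => rw [RKil] at h h' ⊢; rw [h, h', add_zero]
  | succ n ih => exact fun u hu => mul_add (σ u - 1) L L' ▸ ih (h u hu) (h' u hu)

theorem RKil.zero (n i : ℕ) : RKil σ P n i 0 := by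
  induction n generalizing i with
  | zero => rfl
  | succ n ih => exact fun u _ => (mul_zero (σ u - 1)).symm ▸ ih _

theorem RKil.map {S : Type*} [Ring S] (φ : R →+* S) {n i : ℕ} {L : R} (h : RKil σ P n i L) :
    RKil ((φ : R →* S).comp σ) P n i (φ L) := by
  induction n generalizing i L with
  | zero => rw [RKil] at h ⊢; rw [h, map_zero]
  | succ n ih =>
    intro u hu
    have := ih (h u hu)
    rwa [map_mul, map_sub, map_one] at this

theorem RKil.of_comp {A : Type*} [Group A] {f : G →* A} {τ : A →* R} {n i : ℕ} {L : R}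
    (h : RKil (τ.comp f) P n i L) : RKil τ (P.map f) n i L := by
  induction n generalizing i L with
  | zero => exact h
  | succ n ih =>
    intro u hu
    rw [← map_dS] at hu
    obtain ⟨u, hu, rfl⟩ := hu
    exact ih (h u hu)

theorem RKil.sub_one {n : ℕ} (i : ℕ) (h : RKil σ P (n + i) 0 1) :
    ∀ u ∈ dS P i, RKil σ P n i (σ u - 1) := by
  induction i generalizing n with
  | zero => exact fun u _ => by simpa using h.mul_right (σ u - 1)
  | succ i ih =>
    have h1 := ih (n := n + 1) (by rwa [add_right_comm])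
    intro u hu
    rw [dS, Subgroup.commutator_def] at hu
    induction hu using closure_induction with
    | mem u hu =>
      obtain ⟨a, ha, b, hb, rfl⟩ := hu
      have := ((h1 b hb a ha).add ((h1 a ha b hb).mul_right (-1))).mul_right (σ (a⁻¹ * b⁻¹))
      convert this using 1
      have e : (σ a - 1) * (σ b - 1) + (σ b - 1) * (σ a - 1) * -1 = σ (a * b) - σ (b * a) := by
        rw [map_mul, map_mul]; noncomm_ring
      rw [e, sub_mul, ← map_mul, ← map_mul, commutatorElement_def]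
      congr 1
      · congr 1; group
      · rw [show b * a * (a⁻¹ * b⁻¹) = 1 by group, map_one]
    | one => rw [map_one, sub_self]; exact RKil.zero _ _
    | mul a b _ _ ha hb =>
      convert (ha.mul_right (σ b)).add hb using 1
      rw [map_mul]; noncomm_ring
    | inv a _ ha =>
      convert ha.mul_right (-σ a⁻¹) using 1
      rw [sub_mul, mul_neg, ← map_mul, mul_inv_cancel, map_one]; noncomm_ring

open Classical in
/-- The sum of the elements of a subgroup. -/
noncomputable def nrm [Finite G] (σ : G →* R) (F : Subgroup G) : R :=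
  ∑ g ∈ (Set.toFinite (F : Set G)).toFinset, σ g

theorem nrm_bot [Finite G] : nrm σ ⊥ = 1 := by
  have : (Set.toFinite ((⊥ : Subgroup G) : Set G)).toFinset = {1} := by ext; simp
  rw [nrm, this, Finset.sum_singleton, map_one]

theorem nrm_sup [Finite G] {F : Subgroup G} {u : G} (hu : u ∉ F) (hu2 : u * u = 1)
    (hn : u ∈ normalizer (F : Set G)) : nrm σ (F ⊔ zpowers u) = nrm σ F * (1 + σ u) := by
  classical
  have e : (Set.toFinite ((F ⊔ zpowers u : Subgroup G) : Set G)).toFinset =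
      (Set.toFinite (F : Set G)).toFinset ∪
        (Set.toFinite (F : Set G)).toFinset.image (· * u) := by
    ext g
    simp only [Set.Finite.mem_toFinset, SetLike.mem_coe, Finset.mem_union, Finset.mem_image]
    rw [mem_sup_iff_of_le_normalizer (zpowers_le.2 hn)]
    constructor
    · rintro ⟨k, hk, _, ⟨n, rfl⟩, rfl⟩
      have h2 : u ^ (2 : ℤ) = 1 := by rw [zpow_two, hu2]
      obtain ⟨m, rfl | rfl⟩ := Int.even_or_odd' n
      · left; simpa [zpow_mul, h2] using hk
      · right; exact ⟨k, hk, by simp [zpow_add, zpow_mul, h2]⟩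
    · rintro (h | ⟨k, hk, rfl⟩)
      · exact ⟨g, h, 1, one_mem _, mul_one g⟩
      · exact ⟨k, hk, u, mem_zpowers u, rfl⟩
  rw [nrm, e, Finset.sum_union, Finset.sum_image (fun _ _ _ _ h => mul_right_cancel h), nrm,
    mul_add, mul_one, Finset.sum_mul]
  · simp only [map_mul]
  · rw [Finset.disjoint_left]
    simp only [Set.Finite.mem_toFinset, SetLike.mem_coe, Finset.mem_image]
    rintro _ h ⟨k, hk, rfl⟩
    exact hu ((mul_mem_cancel_left hk).1 h)

theorem commute_nrm [Finite G] {F : Subgroup G} {u : G} (hu : u ∈ centralizer (F : Set G)) :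
    Commute (σ u) (nrm σ F) :=
  Commute.sum_right _ _ _ fun g hg =>
    Commute.map (hu g ((Set.Finite.mem_toFinset _).1 hg)).symm σ

end RKil

section Weights

variable {K : Type*} [Field K] {V : Type*} [AddCommGroup V] [Module K V]
variable {G : Type*} [Group G] {ρ : Representation K G V}

theorem nrm_mem [Finite G] {F : Subgroup G} {U : Submodule K V} (h : Inv ρ F U) {w : V}
    (hw : w ∈ U) : nrm ρ F w ∈ U := by
  rw [nrm, LinearMap.sum_apply]
  exact U.sum_mem fun g hg => h g ((Set.Finite.mem_toFinset _).1 hg) w hw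

variable (ρ) in
/-- Weight space. -/
def wt (Z : Subgroup G) (χ : G → K) : Submodule K V where
  carrier := {v | ∀ z ∈ Z, ρ z v = χ z • v}
  zero_mem' := by simp
  add_mem' := fun {a b} ha hb z hz => by rw [map_add, ha z hz, hb z hz, smul_add]
  smul_mem' := fun c a ha z hz => by rw [map_smul, ha z hz, smul_comm]

variable (ρ) in
/-- The sum of the weight spaces outside an orbit. -/
def wtOut (Z A : Subgroup G) (χ : G → K) : Submodule K V :=
  ⨆ (γ : G → K) (_ : ∀ a ∈ A, ¬ ∀ z ∈ Z, γ z = χ (a⁻¹ * z * a)), wt ρ Z γ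

/-- The stabilizer of a weight. -/
def wtStab (Z : Subgroup G) (χ : G → K) : Subgroup G where
  carrier := {g | g ∈ normalizer (Z : Set G) ∧ ∀ z ∈ Z, χ (g⁻¹ * z * g) = χ z}
  one_mem' := ⟨one_mem _, by simp⟩
  mul_mem' := fun {a b} ha hb => ⟨mul_mem ha.1 hb.1, fun z hz => by
    rw [← ha.2 z hz, ← hb.2 _ (inv_conj_mem_of_mem_normalizer ha.1 hz)]
    congr 1; group⟩
  inv_mem' := fun {a} ha => ⟨inv_mem ha.1, fun z hz => by
    rw [inv_inv, ← ha.2 _ (conj_mem_of_mem_normalizer ha.1 hz)]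
    congr 1; group⟩

variable {Z : Subgroup G} {χ : G → K}

theorem centralizer_le_wtStab : centralizer (Z : Set G) ≤ wtStab Z χ := fun g hg =>
  ⟨centralizer_le_normalizer _ hg, fun z hz => by rw [mul_assoc, hg z hz, inv_mul_cancel_left]⟩

theorem rep_mem_wt {g : G} (hg : g ∈ normalizer (Z : Set G)) {w : V} (hw : w ∈ wt ρ Z χ) :
    ρ g w ∈ wt ρ Z fun z => χ (g⁻¹ * z * g) := fun z hz => by
  rw [← map_smul, ← hw _ (inv_conj_mem_of_mem_normalizer hg hz), ← rep_mul_apply, ← rep_mul_apply]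
  congr 2; group

theorem inv_wt {A : Subgroup G} (h : A ≤ wtStab Z χ) : Inv ρ A (wt ρ Z χ) :=
  fun g hg _ hw z hz => by rw [rep_mem_wt (h hg).1 hw z hz, ← (h hg).2 z hz]

theorem wtOut_anti {A B : Subgroup G} (h : B ≤ A) : wtOut ρ Z A χ ≤ wtOut ρ Z B χ :=
  iSup₂_le fun γ hγ => le_iSup₂_of_le γ (fun a ha => hγ a (h ha)) le_rfl

theorem inv_wtOut {A B : Subgroup G} (hB : B ≤ normalizer (Z : Set G))
    (h : ∀ b ∈ B, ∀ a ∈ A, ∃ a' ∈ A, ∀ z ∈ Z, χ (a⁻¹ * (b * z * b⁻¹) * a) = χ (a'⁻¹ * z * a')) :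
    Inv ρ B (wtOut ρ Z A χ) := fun b hb w hw => by
  have : wtOut ρ Z A χ ≤ (wtOut ρ Z A χ).comap (ρ b) := by
    refine iSup₂_le fun γ hγ v hv => ?_
    refine Submodule.mem_iSup_of_mem _ (Submodule.mem_iSup_of_mem ?_ (rep_mem_wt (hB hb) hv))
    intro a ha h1
    obtain ⟨a', ha', h2⟩ := h b hb a ha
    refine hγ a' ha' fun z hz => ?_
    rw [← h2 z hz, ← h1 _ (conj_mem_of_mem_normalizer (hB hb) hz)]
    congr 1; group
  exact this hw

theorem disjoint_wtOut [IsMulCommutative Z] : Disjoint (wt ρ Z χ) (wtOut ρ Z ⊥ χ) := by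
  have h := End.independent_iInf_maxGenEigenspace_of_forall_mapsTo (fun z : Z => ρ z)
    fun i j φ => End.mapsTo_maxGenEigenspace_of_comm
      (Commute.map (congrArg Subtype.val (mul_comm' j i)) ρ) φ
  have hle : ∀ γ : G → K, wt ρ Z γ ≤ ⨅ z : Z, End.maxGenEigenspace (ρ z) (γ z) := fun γ v hv =>
    (Submodule.mem_iInf _).2 fun z => End.eigenspace_le_maxGenEigenspace
      (End.mem_eigenspace_iff.2 (hv z z.2))
  refine (h fun z => χ z).mono (hle χ) (iSup₂_le fun γ hγ => ?_)
  refine le_iSup₂_of_le (fun z : Z => γ z) (fun h => hγ 1 (one_mem _) fun z hz => ?_) (hle γ)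
  simpa using congrFun h ⟨z, hz⟩

theorem exists_RKil_wt [Finite G] {p : ℕ} [Fact p.Prime] {P : Subgroup G} (hP : IsPGroup p P)
    (hPZ : P ≤ normalizer (Z : Set G)) (i : ℕ) : ∀ n, RKil ρ P (n + i) 0 1 →
    (∀ j < i, ¬ dS P j ≤ wtStab Z χ) → ∃ T : End K V, RKil ρ P n i T ∧ ∃ c : K, c ≠ 0 ∧
      ∀ w ∈ wt ρ Z χ, T w - c • w ∈ wtOut ρ Z (dS P i) χ := by
  induction i with
  | zero => exact fun n h _ => ⟨1, h, 1, one_ne_zero, fun w _ => by simp⟩
  | succ i ih =>
    intro n h hj
    obtain ⟨T, hT, c, hc, h1⟩ := ih (n + 1) (by rwa [add_right_comm])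
      fun j hji => hj j (hji.trans i.lt_succ_self)
    have hA := (dS_le P i).trans hPZ
    obtain ⟨x, hx, h2⟩ : ∃ x ∈ dS P i, ∀ a ∈ dS P (i + 1),
        ¬ ∀ z ∈ Z, χ (x⁻¹ * z * x) = χ (a⁻¹ * z * a) := by
      by_contra h3
      push Not at h3
      refine hj i i.lt_succ_self (eq_of_frattini_mul fun x hx => ?_)
      obtain ⟨a, ha, h4⟩ := h3 x hx
      refine ⟨a, H3.commutator_le_map_frattini (hP.to_le (dS_le P i)) ha, a⁻¹ * x,
        ⟨hA (mul_mem (inv_mem (dS_succ_le P i ha)) hx), fun z hz => ?_⟩, by group⟩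
      have := h4 _ (conj_mem_of_mem_normalizer (hA (dS_succ_le P i ha)) hz)
      convert this using 2 <;> group
    refine ⟨(ρ x - 1) * T, hT x hx, -c, neg_ne_zero.2 hc, fun w hw => ?_⟩
    have e : ((ρ x - 1) * T) w - -c • w = ρ x (T w - c • w) - (T w - c • w) + c • ρ x w := by
      simp only [End.mul_apply, LinearMap.sub_apply, End.one_apply, map_sub, map_smul, neg_smul]
      abel
    rw [e]
    refine add_mem (wtOut_anti (dS_succ_le P i) (sub_mem (inv_wtOut hA ?_ x hx _ (h1 w hw))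
      (h1 w hw))) (Submodule.smul_mem _ _ (Submodule.mem_iSup_of_mem _
        (Submodule.mem_iSup_of_mem h2 (rep_mem_wt (hA hx) hw))))
    intro b hb a ha
    exact ⟨b⁻¹ * a, mul_mem (inv_mem hb) ha, fun z _ => by congr 1; group⟩

theorem exists_level [Finite G] [IsMulCommutative Z] {p : ℕ} [Fact p.Prime] {P : Subgroup G}
    (hP : IsPGroup p P) (hPZ : P ≤ normalizer (Z : Set G)) {d : ℕ} (h : RKil ρ P d 0 1)
    (h0 : wt ρ Z χ ≠ ⊥) : ∃ j n, n + 1 + j = d ∧ dS P j ≤ wtStab Z χ ∧
      ∀ L : End K V, (∀ w ∈ wt ρ Z χ, L w ∈ wt ρ Z χ) →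
        (∀ w ∈ wtOut ρ Z ⊥ χ, L w ∈ wtOut ρ Z ⊥ χ) →
        (∀ T, RKil ρ P (n + 1) j T → L * T = 0) → ∀ w ∈ wt ρ Z χ, L w = 0 := by
  classical
  have hex : ∃ j, dS P j ≤ wtStab Z χ ∨ j = d := ⟨d, Or.inr rfl⟩
  obtain ⟨n, hn⟩ := Nat.exists_eq_add_of_le' (Nat.find_min' hex (Or.inr rfl))
  obtain ⟨T, hT, c, hc, h1⟩ := exists_RKil_wt (χ := χ) hP hPZ _ n (hn ▸ h)
    fun j hj h2 => Nat.find_min hex hj (Or.inl h2)
  have key : ∀ L : End K V, (∀ w ∈ wt ρ Z χ, L w ∈ wt ρ Z χ) →
      (∀ w ∈ wtOut ρ Z ⊥ χ, L w ∈ wtOut ρ Z ⊥ χ) → L * T = 0 → ∀ w ∈ wt ρ Z χ, L w = 0 := by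
    intro L h2 h3 h4 w hw
    have h5 := h3 _ (wtOut_anti bot_le (h1 w hw))
    rw [map_sub, ← End.mul_apply, h4, LinearMap.zero_apply, zero_sub, neg_mem_iff, map_smul,
      Submodule.smul_mem_iff _ hc] at h5
    exact (Submodule.disjoint_def.1 disjoint_wtOut) _ (h2 w hw) h5
  cases n with
  | zero =>
    refine absurd (eq_bot_iff.2 fun w hw => key 1 (fun _ h => h) (fun _ h => h) ?_ w hw) h0
    rw [RKil] at hT
    rw [hT, mul_zero]
  | succ n =>
    refine ⟨_, n, hn.symm, (Nat.find_spec hex).resolve_right (by omega), fun L h2 h3 h4 => ?_⟩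
    exact key L h2 h3 (h4 T hT)

theorem wt_mul (h0 : wt ρ Z χ ≠ ⊥) {a b : G} (ha : a ∈ Z) (hb : b ∈ Z) :
    χ (a * b) = χ a * χ b := by
  obtain ⟨w, hw, hw0⟩ := Submodule.exists_mem_ne_zero_of_ne_bot h0
  refine smul_left_injective K hw0 ?_
  simp only
  rw [← hw _ (mul_mem ha hb), rep_mul_apply, hw b hb, map_smul, hw a ha, smul_smul, mul_comm]

theorem wt_one (h0 : wt ρ Z χ ≠ ⊥) : χ 1 = 1 := by
  obtain ⟨w, hw, hw0⟩ := Submodule.exists_mem_ne_zero_of_ne_bot h0
  refine smul_left_injective K hw0 ?_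
  simp only
  rw [← hw _ (one_mem _), map_one, one_smul, End.one_apply]

theorem wt_mul_inv (h0 : wt ρ Z χ ≠ ⊥) {a : G} (ha : a ∈ Z) : χ a * χ a⁻¹ = 1 := by
  rw [← wt_mul h0 ha (inv_mem ha), mul_inv_cancel, wt_one h0]

theorem eq_of_forall_wt [IsAlgClosed K] [FiniteDimensional K V] [Finite G] [IsMulCommutative Z]
    (hρ : Function.Injective ρ) (hq : (Nat.card Z : K) ≠ 0) {a b : G} (ha : a ∈ Z) (hb : b ∈ Z)
    (h : ∀ χ : G → K, wt ρ Z χ ≠ ⊥ → χ a = χ b) : a = b := by
  classical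
  by_contra hne
  have hc := mul_mem ha (inv_mem hb)
  have hcZ := zpowers_le.2 hc
  have hq' : (Nat.card (zpowers (a * b⁻¹)) : K) ≠ 0 := by
    obtain ⟨k, hk⟩ := card_dvd_of_le hcZ
    intro h0
    rw [hk, Nat.cast_mul, h0, zero_mul] at hq
    exact hq rfl
  have h1 : ¬ zpowers (a * b⁻¹) ≤ kerOn ρ ⊤ := fun h1 => hne <| mul_inv_eq_one.1 <| hρ <| by
    ext w
    rw [map_one]
    exact h1 (mem_zpowers _) w trivial
  have h2 : Inv ρ Z (aug ρ (zpowers (a * b⁻¹)) ⊤) := fun t ht =>
    map_mem_aug ρ (U := ⊤) (fun _ _ => trivial) (centralizer_le_normalizer _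
      (le_normalizer_of_le_of_isMulCommutative hcZ ht))
  obtain ⟨W, hW, hWs⟩ := exists_simple_le ρ (aug_ne_bot ρ (U := ⊤) (fun _ _ _ _ => trivial) h1) h2
  have h3 : ∀ z : G, ∃ c : K, z ∈ Z → ∀ w ∈ W, ρ z w = c • w := fun z => by
    by_cases hz : z ∈ Z
    · obtain ⟨c, -, hc⟩ := hWs.le_scal_of_comm ρ (hWs.2.1 z hz) fun t ht w _ => by
        rw [← rep_mul_apply, ← rep_mul_apply, le_normalizer_of_le_of_isMulCommutative le_rfl hz t ht]
      exact ⟨c, fun _ => hc⟩
    · exact ⟨0, fun h => absurd h hz⟩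
  choose γ hγ using h3
  have h4 : W ≤ wt ρ Z γ := fun w hw z hz => hγ z hz w hw
  have h5 : wt ρ Z γ ≠ ⊥ := fun h0 => hWs.1 (le_bot_iff.1 (h0 ▸ h4))
  refine not_le_kerOn_of_le_aug ρ hq' hW hWs.1 (zpowers_le.2 fun w hw => ?_)
  rw [hγ _ hc w hw, wt_mul h5 ha (inv_mem hb), h γ h5, wt_mul_inv h5 hb, one_smul]

/-- The last term of the derived series centralizes invariant abelian subgroups. -/
theorem dS_le_centralizer [IsAlgClosed K] [FiniteDimensional K V] [Finite G] [IsMulCommutative Z]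
    (hρ : Function.Injective ρ) (hq : (Nat.card Z : K) ≠ 0) {p : ℕ} [Fact p.Prime]
    {P : Subgroup G} (hP : IsPGroup p P) (hPZ : P ≤ normalizer (Z : Set G)) {e : ℕ}
    (h : RKil ρ P (e + 1) 0 1) : dS P e ≤ centralizer (Z : Set G) := fun a ha z hz => by
  have := eq_of_forall_wt hρ hq (inv_conj_mem_of_mem_normalizer (hPZ (dS_le P e ha)) hz) hz
    fun χ h0 => by
      obtain ⟨j, n, h1, h2, -⟩ := exists_level hP hPZ h h0
      exact (h2 (dS_anti P (by omega) ha)).2 z hz
  rw [mul_assoc, inv_mul_eq_iff_eq_mul] at this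
  exact this

end Weights

end Cfsg.Agent.H4
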