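import Mathlib
import Cfsg.Agent.H4.DerLin
import Cfsg.Agent.H4.HHLinear

/-! The regular module lemma and the local analysis for the bound `l_2 ≤ d_2`. -/

set_option autoImplicit false

namespace Cfsg.Agent.H4

open Subgroup Module HH
open scoped commutatorElement

variable {K : Type*} [Field K] {V : Type*} [AddCommGroup V] [Module K V]
variable {G : Type*} [Group G] {ρ : Representation K G V}

theorem eq_one_of_mul_self [CharP K 2] {c : K} (h : c * c = 1) : c = 1 := by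
  rcases mul_self_eq_one_iff.1 h with h | h
  · exact h
  · rw [h, CharTwo.neg_eq]

theorem natCast_ne_zero_of_coprime_two [CharP K 2] {n : ℕ} (h : n.Coprime 2) : (n : K) ≠ 0 :=
  fun h0 => (Nat.Prime.coprime_iff_not_dvd Nat.prime_two).1 h.symm
    ((CharP.cast_eq_zero_iff K 2 n).1 h0)

theorem mul_comm_of_mul_self {F : Subgroup G} (h : ∀ f ∈ F, f * f = 1) : IsMulCommutative F :=
  le_centralizer_iff_isMulCommutative.1 fun a ha b hb => by
    rw [eq_inv_of_mul_eq_one_left (h _ (mul_mem hb ha)), mul_inv_rev,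
      ← eq_inv_of_mul_eq_one_left (h a ha), ← eq_inv_of_mul_eq_one_left (h b hb)]

/-- The regular module lemma. -/
theorem exists_nrm_ne_zero [IsAlgClosed K] [FiniteDimensional K V] [Finite G] [CharP K 2]
    (F : Subgroup G) : ∀ (Q : Subgroup G) (U : Submodule K V), (∀ f ∈ F, f * f = 1) →
      F ≤ normalizer (Q : Set G) → (Nat.card Q).Coprime 2 → U ≠ ⊥ → Inv ρ Q U → Inv ρ F U →
      (∀ x ∈ Q, ∀ y ∈ Q, ⁅x, y⁆ ∈ scal ρ U) →
      (∀ f ∈ F, f ≠ 1 → ∃ x ∈ Q, ∃ x' ∈ Q, f * x * f⁻¹ = x⁻¹ ∧ f * x' * f⁻¹ = x'⁻¹ ∧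
        ⁅x, x'⁆ ∉ kerOn ρ U) → ∃ w ∈ U, nrm ρ F w ≠ 0 := by
  induction F using WellFoundedLT.induction with
  | ind F ih =>
  intro Q U hF hFQ hQ hU0 hQU hFU hsc hfa
  by_cases h0 : F = ⊥
  · obtain ⟨w, hw, hw0⟩ := U.exists_mem_ne_zero_of_ne_bot hU0
    exact ⟨w, hw, by rwa [h0, nrm_bot]⟩
  haveI := mul_comm_of_mul_self hF
  have hF2 : IsPGroup 2 F := fun f => ⟨1, Subtype.ext (by simpa [sq] using hF f f.2)⟩
  have hne : ¬ Q ≤ centOn ρ U F := fun h => by
    obtain ⟨⟨f, hf⟩, hf1⟩ := ne_bot_iff_exists_ne_one.1 h0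
    obtain ⟨x, hx, x', hx', h1, -, h2⟩ := hfa f hf fun h => hf1 (Subtype.ext h)
    have h3 : x ^ 2 ∈ kerOn ρ U := by
      have := (commutator_mem_kerOn_iff ρ (hQU x hx) (hFU f hf)).2
        fun w hw => ((h hx).2 f hf w hw).symm
      rwa [commutatorElement_def, mul_assoc, mul_assoc, ← mul_assoc f, ← inv_inv (f * x⁻¹ * f⁻¹),
        show (f * x⁻¹ * f⁻¹)⁻¹ = f * x * f⁻¹ by group, h1, inv_inv, ← sq] at this
    obtain ⟨m, hm⟩ := exists_pow_eq_self_of_coprime (x := x) (n := 2)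
      (hQ.coprime_dvd_left (Subgroup.orderOf_dvd_natCard Q hx)).symm
    have h4 : x ∈ kerOn ρ U := hm ▸ pow_mem h3 m
    exact h2 ((commutator_mem_kerOn_iff ρ (hQU x hx) (hQU x' hx')).2 fun w hw => by
      rw [h4 w hw, h4 _ (hQU x' hx' w hw)])
  obtain ⟨B, hBF, ⟨u, hu, hBu⟩, hB⟩ : ∃ B ≤ F, (∃ u ∈ F, B ⊔ zpowers u = F) ∧
      ¬ Q ⊓ centralizer (B : Set G) ≤ centOn ρ U F := by
    by_contra h
    push Not at h
    exact hne (le_of_centralizer_cocyclic_le hFQ (H3.coprime_card_of_isPGroup hF2 hQ.symm) h)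
  obtain ⟨t, ht, htF⟩ := SetLike.not_le_iff_exists.1 hB
  have huB := le_normalizer_of_le_of_isMulCommutative hBF hu
  set y := ⁅t, u⁆ with hy
  have hyQ : y ∈ Q := by
    rw [hy, commutatorElement_def, mul_assoc, mul_assoc, ← mul_assoc u]
    exact mul_mem ht.1 (conj_mem_of_mem_normalizer (hFQ hu) (inv_mem ht.1))
  have hyB : y ∈ centralizer (B : Set G) :=
    commutator_le_self _ (commutator_mem_commutator ht.2 huB)
  have hyU : y ∉ kerOn ρ U := fun h => htF ⟨hQU t ht.1, fun f hf w hw => by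
    have h1 : F ≤ centOn ρ U {t} := by
      rw [← hBu]
      refine sup_le (fun b hb => (mem_centOn_singleton ρ).2 ⟨hFU b (hBF hb), fun w _ => ?_⟩)
        (zpowers_le.2 ((mem_centOn_singleton ρ).2 ⟨hFU u hu,
          (commutator_mem_kerOn_iff ρ (hQU t ht.1) (hFU u hu)).1 h⟩))
      rw [← rep_mul_apply, ← rep_mul_apply, ht.2 b hb]
    exact (((mem_centOn_singleton ρ).1 (h1 hf)).2 w hw).symm⟩
  have huB' : u ∉ B := fun h => hyU (by
    rw [hy, commutatorElement_eq_one_iff_mul_comm.2 (ht.2 u h).symm]; exact one_mem _)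
  have hui : u⁻¹ = u := (eq_inv_of_mul_eq_one_left (hF u hu)).symm
  have hyu : y * u = u * y⁻¹ := by
    rw [hy, commutatorElement_inv, commutatorElement_def, commutatorElement_def, hui]
    calc t * u * t⁻¹ * u * u = (u * u) * t * u * t⁻¹ := by
          rw [mul_assoc _ u u, hF u hu, mul_one, one_mul]
      _ = _ := by simp only [mul_assoc]
  have hyz : Inv ρ (zpowers y) U := fun s hs => hQU s (zpowers_le.2 hyQ hs)
  obtain ⟨c, w₀, hw₀, hw0, hc⟩ := exists_eigenvector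
    (aug_ne_bot ρ hyz fun h => hyU (h (mem_zpowers y))) (ρ y)
    (map_mem_aug ρ (hQU y hyQ) (le_normalizer (mem_zpowers y)))
  have hc1 : c ≠ 1 := fun h => hw0 (eq_zero_of_mem_aug ρ (natCast_ne_zero_of_coprime_two
    (H3.coprime_card_of_le (zpowers_le.2 hyQ) hQ)) hw₀ fun l hl => by
      have : zpowers y ≤ kerOn ρ (Submodule.span K {w₀}) := zpowers_le.2 fun w hw => by
        obtain ⟨a, rfl⟩ := Submodule.mem_span_singleton.1 hw
        rw [map_smul, hc, h, one_smul]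
      exact this hl w₀ (Submodule.mem_span_singleton_self _))
  set U' := U ⊓ End.eigenspace (ρ y) c with hU'
  have hinv : ∀ g ∈ centOn ρ U {y}, ∀ w ∈ U', ρ g w ∈ U' := fun g hg w hw => by
    obtain ⟨h1, h2⟩ := (mem_centOn_singleton ρ).1 hg
    exact ⟨h1 w hw.1, End.mem_eigenspace_iff.2 (by
      rw [h2 w hw.1, End.mem_eigenspace_iff.1 hw.2, map_smul])⟩
  have hBc : B ≤ centOn ρ U {y} := fun b hb => (mem_centOn_singleton ρ).2
    ⟨hFU b (hBF hb), fun w _ => by rw [← rep_mul_apply, ← rep_mul_apply, hyB b hb]⟩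
  have hU'0 : U' ≠ ⊥ := fun h => hw0 (by
    rw [← Submodule.mem_bot K, ← h]
    exact ⟨aug_le ρ _ _ hw₀, End.mem_eigenspace_iff.2 hc⟩)
  obtain ⟨w, hw, hwB⟩ := ih B (lt_of_le_of_ne hBF fun h => huB' (h ▸ hu)) (Q ⊓ centOn ρ U {y}) U'
    (fun f hf => hF f (hBF hf))
    (le_normalizer_inf (hBF.trans hFQ) (hBc.trans le_normalizer))
    (H3.coprime_card_of_le inf_le_left hQ) hU'0 (fun g hg => hinv g hg.2)
    (fun g hg => hinv g (hBc hg)) (fun a ha b hb => by
      obtain ⟨c, hc0, h⟩ := hsc a ha.1 b hb.1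
      exact ⟨c, hc0, fun w hw => h w hw.1⟩) fun f hf hf1 => by
      have key : ∀ x ∈ Q, f * x * f⁻¹ = x⁻¹ → x ∈ Q ⊓ centOn ρ U {y} := fun x hx h1 => by
        obtain ⟨a, ha0, ha⟩ := hsc x hx y hyQ
        obtain ⟨v, hv, hv0⟩ := U.exists_mem_ne_zero_of_ne_bot hU0
        have e : ⁅x, y⁆ * x * f * ⁅x, y⁆ = x * f := by
          have e1 : f * ⁅x, y⁆ * f⁻¹ = x⁻¹ * ⁅x, y⁆⁻¹ * x := by
            rw [conjugate_commutatorElement, h1, hyB f hf, mul_inv_cancel_right]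
            simp only [commutatorElement_def]; group
          calc ⁅x, y⁆ * x * f * ⁅x, y⁆ = ⁅x, y⁆ * x * (f * ⁅x, y⁆ * f⁻¹) * f := by group
            _ = _ := by rw [e1]; group
        have h2 := congrArg (fun g => ρ g v) e
        simp only [rep_mul_apply] at h2
        have h3 := hQU x hx _ (hFU f (hBF hf) v hv)
        rw [ha v hv, map_smul, map_smul, map_smul, ha _ h3, smul_smul] at h2
        have h4 : a * a = 1 := smul_left_injective K (fun h => hv0 (rep_injective ρ f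
          (rep_injective ρ x (h.trans (by simp))))) (h2.trans (one_smul K _).symm)
        refine ⟨hx, (mem_centOn_singleton ρ).2 ⟨hQU x hx, fun w hw => ?_⟩⟩
        exact ((commutator_mem_kerOn_iff ρ (hQU x hx) (hQU y hyQ)).1
          (fun w hw => by rw [ha w hw, eq_one_of_mul_self h4, one_smul]) w hw).symm
      obtain ⟨x, hx, x', hx', h1, h2, h3⟩ := hfa f (hBF hf) hf1
      refine ⟨x, key x hx h1, x', key x' hx' h2, h1, h2, fun h => h3 fun v hv => ?_⟩
      obtain ⟨a, -, ha⟩ := hsc x hx x' hx'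
      obtain ⟨v', hv', hv0⟩ := U'.exists_mem_ne_zero_of_ne_bot hU'0
      have : a = 1 := smul_left_injective K hv0
        ((ha v' hv'.1).symm.trans ((h v' hv').trans (one_smul K _).symm))
      rw [ha v hv, this, one_smul]
  refine ⟨w, hw.1, fun h => hwB ?_⟩
  have h1 := End.mem_eigenspace_iff.1 (nrm_mem (fun g hg => hinv g (hBc hg)) hw).2
  rw [← hBu, nrm_sup huB' (hF u hu) (centralizer_le_normalizer _ huB), mul_add, mul_one,
    ← commute_nrm huB, LinearMap.add_apply, End.mul_apply] at h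
  set v := nrm ρ B w
  have h2 := congrArg (fun s => ρ y (ρ u (ρ y s))) h
  have h3 : ρ u v = -v := eq_neg_of_add_eq_zero_right h
  have h4 : ρ y (ρ u (ρ y v)) = ρ u v := by
    rw [← rep_mul_apply, ← rep_mul_apply, hyu, inv_mul_cancel_right]
  rw [h1, map_smul, map_smul, h3, map_neg, h1, smul_neg, smul_smul, neg_inj] at h4
  by_contra hv
  exact hc1 (eq_one_of_mul_self (smul_left_injective K hv (h4.trans (one_smul K _).symm)))

/-- The kernel of the action on the symplectic space attached to a weight. -/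
def wtKer (Q : Subgroup G) (χ : G → K) : Subgroup G where
  carrier := {g | g ∈ normalizer (Q : Set G) ∧ ∀ x ∈ Q, ∀ t ∈ Q, χ ⁅g * x * g⁻¹, t⁆ = χ ⁅x, t⁆}
  one_mem' := ⟨one_mem _, by simp⟩
  mul_mem' := fun {a b} ha hb => ⟨mul_mem ha.1 hb.1, fun x hx t ht => by
    rw [← hb.2 x hx t ht, ← ha.2 _ (conj_mem_of_mem_normalizer hb.1 hx) t ht]
    congr 2; group⟩
  inv_mem' := fun {a} ha => ⟨inv_mem ha.1, fun x hx t ht => by
    rw [inv_inv, ← ha.2 _ (inv_conj_mem_of_mem_normalizer ha.1 hx) t ht]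
    congr 2; group⟩

variable {Q : Subgroup G} {χ : G → K}

theorem commutator_mem_center (hcl : ⁅Q, Q⁆ ≤ centralizer (Q : Set G)) {x t : G} (hx : x ∈ Q)
    (ht : t ∈ Q) : ⁅x, t⁆ ∈ Q ⊓ centralizer (Q : Set G) :=
  ⟨commutator_le_self Q (commutator_mem_commutator hx ht), hcl (commutator_mem_commutator hx ht)⟩

theorem mem_normalizer_wtKer [Finite G] (hcl : ⁅Q, Q⁆ ≤ centralizer (Q : Set G)) {g : G}
    (hg : g ∈ normalizer (Q : Set G)) (hχ : g ∈ wtStab (Q ⊓ centralizer (Q : Set G)) χ) :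
    g ∈ normalizer (wtKer Q χ : Set G) := by
  refine mem_normalizer_of_conj_mem fun k hk => ⟨mul_mem (mul_mem hg hk.1) (inv_mem hg), ?_⟩
  intro x hx t ht
  have h1 := mul_mem (mul_mem hg hk.1) (inv_mem hg)
  rw [← hχ.2 _ (commutator_mem_center hcl (conj_mem_of_mem_normalizer h1 hx) ht),
    ← hχ.2 _ (commutator_mem_center hcl hx ht)]
  have := hk.2 _ (inv_conj_mem_of_mem_normalizer hg hx) _ (inv_conj_mem_of_mem_normalizer hg ht)
  convert this using 2 <;> simp only [commutatorElement_def] <;> group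

instance isMulCommutative_inf_centralizer (Q : Subgroup G) :
    IsMulCommutative (Q ⊓ centralizer (Q : Set G) : Subgroup G) :=
  le_centralizer_iff_isMulCommutative.1 (inf_le_right.trans (H3.centralizer_anti inf_le_left))

theorem le_centralizer_of_wtKer [IsAlgClosed K] [FiniteDimensional K V] [Finite G]
    (hρ : Function.Injective ρ) (hq : (Nat.card Q : K) ≠ 0)
    (hcl : ⁅Q, Q⁆ ≤ centralizer (Q : Set G)) {A : Subgroup G} (hAQ : A ≤ normalizer (Q : Set G))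
    (hcop : (Nat.card A).Coprime (Nat.card Q))
    (hAZ : A ≤ centralizer ((Q ⊓ centralizer (Q : Set G) : Subgroup G) : Set G))
    (h : ∀ χ : G → K, wt ρ (Q ⊓ centralizer (Q : Set G)) χ ≠ ⊥ → A ≤ wtKer Q χ) :
    A ≤ centralizer (Q : Set G) := by
  have hq' : (Nat.card (Q ⊓ centralizer (Q : Set G) : Subgroup G) : K) ≠ 0 := by
    obtain ⟨k, hk⟩ := card_dvd_of_le (inf_le_left : Q ⊓ centralizer (Q : Set G) ≤ Q)
    intro h0
    rw [hk, Nat.cast_mul, h0, zero_mul] at hq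
    exact hq rfl
  refine le_centralizer_iff.1 (le_centralizer_of_stable (coprime_of_le_right hcop inf_le_left)
    (le_centralizer_iff.1 hAZ) (commutator_le.2 fun x hx a ha => ?_))
  have h1 := conj_mem_of_mem_normalizer (hAQ ha) (inv_mem hx)
  refine mem_inf.2 ⟨?_, fun t ht => ?_⟩
  · rw [commutatorElement_def, mul_assoc, mul_assoc, ← mul_assoc a]
    exact mul_mem hx h1
  · have h2 := eq_of_forall_wt hρ hq' (commutator_mem_center hcl h1 ht)
      (commutator_mem_center hcl (inv_mem hx) ht) fun χ h0 => (h χ h0 ha).2 _ (inv_mem hx) t ht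
    calc t * ⁅x, a⁆ = x * ⁅x⁻¹, t⁆ * t * (a * x⁻¹ * a⁻¹) := by
          simp only [commutatorElement_def]; group
      _ = _ := by rw [← h2]; simp only [commutatorElement_def]; group

theorem exists_nrm_ne_zero_wt [IsAlgClosed K] [FiniteDimensional K V] [Finite G] [CharP K 2]
    (hQ : (Nat.card Q).Coprime 2) (hcl : ⁅Q, Q⁆ ≤ centralizer (Q : Set G))
    (h0 : wt ρ (Q ⊓ centralizer (Q : Set G)) χ ≠ ⊥) {F : Subgroup G} (hF : ∀ f ∈ F, f * f = 1)
    (hFQ : F ≤ normalizer (Q : Set G))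
    (hFZ : F ≤ centralizer ((Q ⊓ centralizer (Q : Set G) : Subgroup G) : Set G))
    (hFK : F ⊓ wtKer Q χ = ⊥) : ∃ w ∈ wt ρ (Q ⊓ centralizer (Q : Set G)) χ, nrm ρ F w ≠ 0 := by
  have hc := fun {x t : G} (hx : x ∈ Q) (ht : t ∈ Q) => commutator_mem_center hcl hx ht
  refine exists_nrm_ne_zero F Q _ hF hFQ hQ h0
    (inv_wt ((le_centralizer_iff.1 inf_le_right).trans centralizer_le_wtStab))
    (inv_wt (hFZ.trans centralizer_le_wtStab))
    (fun x hx y hy => mem_scal_of_forall ρ fun w hw => hw _ (hc hx hy)) fun f hf hf1 => ?_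
  have hr : ∀ x ∈ Q, ∀ s ∈ Q, ∀ t ∈ Q, χ ⁅x, s * t⁆ = χ ⁅x, s⁆ * χ ⁅x, t⁆ :=
    fun x hx s hs t ht => by
      rw [← wt_mul h0 (hc hx hs) (hc hx ht)]
      congr 1
      calc ⁅x, s * t⁆ = ⁅x, s⁆ * (s * ⁅x, t⁆) * s⁻¹ := by simp only [commutatorElement_def]; group
        _ = _ := by rw [(hc hx ht).2 s hs]; group
  have hl : ∀ x ∈ Q, ∀ s ∈ Q, ∀ t ∈ Q, χ ⁅x * s, t⁆ = χ ⁅s, t⁆ * χ ⁅x, t⁆ :=
    fun x hx s hs t ht => by
      rw [← wt_mul h0 (hc hs ht) (hc hx ht)]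
      congr 1
      calc ⁅x * s, t⁆ = (x * ⁅s, t⁆) * x⁻¹ * ⁅x, t⁆ := by simp only [commutatorElement_def]; group
        _ = _ := by rw [(hc hs ht).2 x hx]; group
  obtain ⟨x, hx, t, ht, hxt⟩ : ∃ x ∈ Q, ∃ t ∈ Q, χ ⁅f * x * f⁻¹, t⁆ ≠ χ ⁅x, t⁆ := by
    by_contra h
    push Not at h
    exact hf1 (mem_bot.1 (hFK ▸ mem_inf.2 ⟨hf, hFQ hf, h⟩))
  have hff : ∀ s : G, f * (f * s * f⁻¹) * f⁻¹ = s := fun s => by
    calc f * (f * s * f⁻¹) * f⁻¹ = (f * f) * s * (f * f)⁻¹ := by group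
      _ = s := by rw [hF f hf]; group
  have hi : ∀ s : G, f * (s * (f * s * f⁻¹)⁻¹) * f⁻¹ = (s * (f * s * f⁻¹)⁻¹)⁻¹ := fun s => by
    calc f * (s * (f * s * f⁻¹)⁻¹) * f⁻¹ = f * s * f⁻¹ * (f * (f * s * f⁻¹) * f⁻¹)⁻¹ := by group
      _ = _ := by rw [hff]; group
  have hx1 := conj_mem_of_mem_normalizer (hFQ hf) hx
  have ht1 := conj_mem_of_mem_normalizer (hFQ hf) ht
  set y := x * (f * x * f⁻¹)⁻¹ with hy
  have hyQ : y ∈ Q := mul_mem hx (inv_mem hx1)
  refine ⟨y, hyQ, _, mul_mem ht (inv_mem ht1), hi x, hi t, fun h => hxt ?_⟩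
  obtain ⟨w, hw, hw0⟩ := Submodule.exists_mem_ne_zero_of_ne_bot h0
  have h1 : χ ⁅y, t * (f * t * f⁻¹)⁻¹⁆ = 1 := smul_left_injective K hw0
    ((hw _ (hc hyQ (mul_mem ht (inv_mem ht1)))).symm.trans ((h w hw).trans (one_smul K _).symm))
  have h2 := hr y hyQ _ (mul_mem ht (inv_mem ht1)) _ ht1
  rw [inv_mul_cancel_right, h1, one_mul] at h2
  have h3 : ⁅y, f * t * f⁻¹⁆ = ⁅y⁻¹, t⁆ := by
    have := hFZ hf _ (hc (inv_mem hyQ) ht)
    rw [← mul_inv_eq_iff_eq_mul.2 this.symm, conjugate_commutatorElement, ← hi x, hff]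
  have h4 := hl y hyQ _ (inv_mem hyQ) t ht
  rw [mul_inv_cancel, commutatorElement_one_left, wt_one h0, ← h3, ← h2] at h4
  have h5 := hl y hyQ _ hx1 t ht
  rwa [eq_one_of_mul_self h4.symm, mul_one, hy, inv_mul_cancel_right, eq_comm] at h5

theorem nrm_mem_wtOut [Finite G] {Z F : Subgroup G} (hF : F ≤ centralizer (Z : Set G)) {w : V}
    (hw : w ∈ wtOut ρ Z ⊥ χ) : nrm ρ F w ∈ wtOut ρ Z ⊥ χ :=
  nrm_mem (inv_wtOut (hF.trans (centralizer_le_normalizer _)) fun b hb a ha =>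
    ⟨a, ha, fun z hz => by rw [← hF hb z hz, mul_inv_cancel_right]⟩) hw

theorem cS_le_wtKer [IsAlgClosed K] [FiniteDimensional K V] [Finite G] [CharP K 2]
    (hQ : (Nat.card Q).Coprime 2) (hcl : ⁅Q, Q⁆ ≤ centralizer (Q : Set G))
    (h0 : wt ρ (Q ⊓ centralizer (Q : Set G)) χ ≠ ⊥) {P D : Subgroup G} (hP : IsPGroup 2 P)
    (hPQ : P ≤ normalizer (Q : Set G)) (hDP : D ≤ P) (hPD : P ≤ normalizer (D : Set G))
    (hD : ∀ f ∈ D, f * f = 1)
    (hDZ : D ≤ centralizer ((Q ⊓ centralizer (Q : Set G) : Subgroup G) : Set G)) {e : ℕ}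
    (h : RKil ρ P (e + 1) 0 1) : cS P D e ≤ wtKer Q χ := by
  by_contra hne
  obtain ⟨j, n, hjn, hj, hL⟩ := exists_level hP
    (le_normalizer_inf hPQ (le_normalizer_centralizer hPQ)) h h0
  have hD0 : ∀ i, cS P D i ≤ D := fun i => cS_anti hPD (Nat.zero_le i)
  haveI := mul_comm_of_mul_self hD
  have key : ∀ m i, m + i = e + 1 → j ≤ i → ∃ F ≤ cS P D i, F ⊓ wtKer Q χ = ⊥ ∧
      ∀ T, RKil ρ P m i T → nrm ρ F * T = 0 := by
    intro m
    induction m with
    | zero => exact fun i _ _ => ⟨⊥, bot_le, bot_inf_eq _, fun T hT => by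
        rw [RKil] at hT; rw [hT, mul_zero]⟩
    | succ m ih =>
      intro i hi hji
      obtain ⟨F, hF, hFK, hT⟩ := ih (i + 1) (by omega) (by omega)
      have h1 : ¬ cS P D i ≤ cS P D (i + 1) ⊔ wtKer Q χ := fun h1 => hne
        ((cS_anti hPD (by omega)).trans (le_of_le_commutator_sup (hP.to_le (dS_le P i))
          (hP.to_le ((hD0 i).trans hDP)) ((dS_le P i).trans (le_normalizer_cS hPD i))
          (fun g hg => mem_normalizer_wtKer hcl (hPQ (dS_le P i hg)) (hj (dS_anti P hji hg)))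
          (fun g hg => mem_normalizer_wtKer hcl (hPQ (hDP (hD0 i hg)))
            (centralizer_le_wtStab (hDZ (hD0 i hg)))) h1))
      obtain ⟨u, hu, hu'⟩ := SetLike.not_le_iff_exists.1 h1
      have huF : u ∉ F := fun h => hu' (mem_sup_left (hF h))
      have huD := hD0 i hu
      have hun := centralizer_le_normalizer _
        (le_normalizer_of_le_of_isMulCommutative (hF.trans (hD0 _)) huD)
      refine ⟨F ⊔ zpowers u, sup_le (hF.trans (cS_succ_le hPD i)) (zpowers_le.2 hu), ?_,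
        fun T hT' => ?_⟩
      · rw [eq_bot_iff, ← hFK]
        rintro g ⟨hg, hgK⟩
        obtain ⟨k, hk, _, ⟨r, rfl⟩, rfl⟩ := (mem_sup_iff_of_le_normalizer (zpowers_le.2 hun)).1 hg
        have h2 : u ^ (2 : ℤ) = 1 := by rw [zpow_two, hD u huD]
        obtain ⟨s, rfl | rfl⟩ := Int.even_or_odd' r
        · exact ⟨by simpa [zpow_mul, h2] using hk, hgK⟩
        · refine absurd ((mul_mem_cancel_left (mem_sup_left (hF hk))).1 (mem_sup_right ?_)) hu'
          simpa [zpow_add, zpow_mul, h2] using hgK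
      · have h2 : (1 + ρ u : End K V) = ρ u - 1 := by
          have h3 : (1 : End K V) + 1 = 0 := by
            rw [← two_smul K, CharTwo.two_eq_zero, zero_smul]
          rw [eq_sub_iff_add_eq, add_right_comm, h3, zero_add]
        rw [nrm_sup huF (hD u huD) hun, h2, mul_assoc]
        exact hT _ (hT' u (cS_le_dS hDP i hu))
  obtain ⟨F, hF, hFK, hT⟩ := key (n + 1) j hjn le_rfl
  have hFD := hF.trans (hD0 j)
  obtain ⟨w, hw, hw0⟩ := exists_nrm_ne_zero_wt hQ hcl h0 (fun f hf => hD f (hFD hf))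
    (hFD.trans (hDP.trans hPQ)) (hFD.trans hDZ) hFK
  exact hw0 (hL _ (fun _ => nrm_mem (inv_wt ((hFD.trans hDZ).trans centralizer_le_wtStab)))
    (fun _ => nrm_mem_wtOut (hFD.trans hDZ)) hT w hw)

theorem mul_self_of_RKil [CharP K 2] (hρ : Function.Injective ρ) {P : Subgroup G} {e : ℕ}
    (h : RKil ρ P (e + 1) 0 1) : ∀ a ∈ dS P e, a * a = 1 := fun a ha => hρ <| by
  have h1 : (ρ a - 1) * (ρ a - 1) = 0 := RKil.sub_one (n := 1) e (by rwa [add_comm]) a ha a ha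
  have := sub_one_pow_char_pow K 2 (ρ a) 1
  rwa [pow_one, sq, h1, sq, eq_comm, sub_eq_zero, ← map_mul, ← map_one ρ] at this

theorem mul_mem_wtKer [IsAlgClosed K] [FiniteDimensional K V] [Finite G] [CharP K 2]
    (hρ : Function.Injective ρ) (hQ : (Nat.card Q).Coprime 2)
    (hcl : ⁅Q, Q⁆ ≤ centralizer (Q : Set G))
    (h0 : wt ρ (Q ⊓ centralizer (Q : Set G)) χ ≠ ⊥) {P : Subgroup G} (hP : IsPGroup 2 P)
    (hPQ : P ≤ normalizer (Q : Set G)) {e : ℕ} (h : RKil ρ P (e + 1) 0 1) {a b : G}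
    (ha : a ∈ dS P e) (hb : b ∈ dS P e) (haK : a ∉ wtKer Q χ) (hbK : b ∉ wtKer Q χ) :
    a * b ∈ wtKer Q χ := by
  by_contra hab
  have hA := mul_self_of_RKil hρ h
  haveI := mul_comm_of_mul_self hA
  have hAZ := dS_le_centralizer hρ (natCast_ne_zero_of_coprime_two
    (H3.coprime_card_of_le inf_le_left hQ)) hP
    (le_normalizer_inf hPQ (le_normalizer_centralizer hPQ)) h
  have hz : ∀ u ∈ dS P e, ∀ g ∈ zpowers u, g = 1 ∨ g = u := by
    rintro u hu _ ⟨r, rfl⟩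
    have h2 : u ^ (2 : ℤ) = 1 := by rw [zpow_two, hA u hu]
    obtain ⟨s, rfl | rfl⟩ := Int.even_or_odd' r
    · left; simp [zpow_mul, h2]
    · right; simp [zpow_add, zpow_mul, h2]
  have hb' : b ∉ zpowers a := fun h => by
    rcases hz a ha b h with rfl | rfl
    · exact hbK (one_mem _)
    · exact hab (hA b hb ▸ one_mem _)
  have hn := centralizer_le_normalizer _
    (le_normalizer_of_le_of_isMulCommutative (zpowers_le.2 ha) hb)
  have hF : zpowers a ⊔ zpowers b ≤ dS P e := sup_le (zpowers_le.2 ha) (zpowers_le.2 hb)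
  obtain ⟨w, -, hw0⟩ := exists_nrm_ne_zero_wt hQ hcl h0 (fun f hf => hA f (hF hf))
    (hF.trans ((dS_le P e).trans hPQ)) (hF.trans hAZ) (by
      rw [eq_bot_iff]
      rintro g ⟨hg, hgK⟩
      obtain ⟨k, hk, l, hl, rfl⟩ := (mem_sup_iff_of_le_normalizer (zpowers_le.2 hn)).1 hg
      rcases hz a ha k hk with rfl | rfl <;> rcases hz b hb l hl with rfl | rfl
      · simp
      · exact absurd (by simpa using hgK) hbK
      · exact absurd (by simpa using hgK) haK
      · exact absurd hgK hab)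
  have h2 : ∀ u : G, (1 + ρ u : End K V) = ρ u - 1 := fun u => by
    have h3 : (1 : End K V) + 1 = 0 := by
      rw [← two_smul K, CharTwo.two_eq_zero, zero_smul]
    rw [eq_sub_iff_add_eq, add_right_comm, h3, zero_add]
  refine hw0 ?_
  rw [nrm_sup hb' (hA b hb) hn, ← bot_sup_eq (zpowers a), nrm_sup (F := ⊥) (fun h => haK
    (by rw [mem_bot.1 h]; exact one_mem _)) (hA a ha) (by rw [normalizer_eq_top]; trivial), nrm_bot, one_mul,
    h2, h2, show (ρ a - 1) * (ρ b - 1) = 0 from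
      RKil.sub_one (n := 1) e (by rwa [add_comm]) b hb a ha, LinearMap.zero_apply]

end Cfsg.Agent.H4
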