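import Mathlib
import Cfsg.Agent.H4.DerLoc
import Cfsg.Agent.H4.Bryuk

/-! Bryukhanova's theorem `l_2 ≤ d_2`. -/

set_option autoImplicit false

namespace Cfsg.Agent.H4

open Subgroup HH
open scoped commutatorElement Pointwise

universe u

/-- If `[M, P, P', …]` vanishes on a chief factor, the group induced on it has bounded
`p`-length. -/
def DChief (p n e : ℕ) : Prop :=
  ∀ (G : Type u) [Group G] [Finite G], IsPSolvable p G → ∀ (P : Sylow p G) (M : Subgroup G)
    [M.Normal], IsElementaryAbelian p M → (∀ K : Subgroup G, K.Normal → K ≤ M → K = ⊥ ∨ K = M) →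
    cS P M n = ⊥ → PLengthLE p e (G ⧸ centralizer (M : Set G))

/-- There is a normal subgroup with quotient of `p`-length at most `e` whose `p'`-elements
centralize `M`. -/
def StabLE (p e : ℕ) {G : Type*} [Group G] (M : Subgroup G) : Prop :=
  ∃ (C : Subgroup G) (_ : C.Normal), PLengthLE p e (G ⧸ C) ∧
    ∀ x ∈ C, (orderOf x).Coprime p → x ∈ centralizer (M : Set G)

section

variable {p : ℕ} [Fact p.Prime] {G : Type u} [Group G] [Finite G]

theorem StabLE.trans {e : ℕ} {M₀ M : Subgroup G} [M₀.Normal] (hM₀ : IsPGroup p M₀)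
    (h1 : StabLE p e M₀) (h2 : StabLE p e (M.map (QuotientGroup.mk' M₀))) : StabLE p e M := by
  obtain ⟨C, _, hC, hC'⟩ := h1
  obtain ⟨D, _, hD, hD'⟩ := h2
  refine ⟨C ⊓ D.comap (QuotientGroup.mk' M₀), inferInstance, pLengthLE_of_inf_le
    (QuotientGroup.mk' C) ((QuotientGroup.mk' D).comp (QuotientGroup.mk' M₀))
    (QuotientGroup.mk'_surjective _) ?_ hC hD, fun x hx hxp => ?_⟩
  · rw [← MonoidHom.comap_ker, QuotientGroup.ker_mk', QuotientGroup.ker_mk', QuotientGroup.ker_mk']
  · have h3 := hD' _ hx.2 (hxp.coprime_dvd_left (orderOf_map_dvd _ x))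
    refine le_centralizer_iff.1 (le_centralizer_of_stable (A := zpowers x) (N := M₀)
      (H3.coprime_card_of_isPGroup hM₀ (by rw [Nat.card_zpowers]; exact hxp.symm)).symm
      (le_centralizer_iff.1 (zpowers_le.2 (hC' x hx.1 hxp))) ?_) (mem_zpowers x)
    rw [← QuotientGroup.ker_mk' M₀, ← Subgroup.map_eq_bot_iff, map_commutator,
      commutator_eq_bot_iff_le_centralizer, le_centralizer_iff, MonoidHom.map_zpowers, zpowers_le]
    exact h3

theorem exists_minimal_elementary_le {M : Subgroup G} [M.Normal] (hM : IsPGroup p M)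
    (h0 : M ≠ ⊥) : ∃ M₀ : Subgroup G, M₀.Normal ∧ M₀ ≠ ⊥ ∧ M₀ ≤ M ∧ IsElementaryAbelian p M₀ ∧
      ∀ K : Subgroup G, K.Normal → K ≤ M₀ → K = ⊥ ∨ K = M₀ := by
  obtain ⟨M₀, r, hr, hM₀n, hM₀, hle, hea, hmin⟩ :=
    H3.exists_minimal_normal_elementary_le M (isSolvable_of_isPGroup hM) h0
  have hrp : r = p := by
    obtain ⟨⟨x, hx⟩, hx1⟩ := (ne_bot_iff_exists_ne_one).1 hM₀
    obtain ⟨k, hk⟩ := hM ⟨x, hle hx⟩
    have h1 : orderOf x ∣ r := orderOf_dvd_of_pow_eq_one (hea.2 x hx)
    have h2 : orderOf x ∣ p ^ k := orderOf_dvd_of_pow_eq_one (congrArg Subtype.val hk)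
    rcases (Nat.dvd_prime hr).1 h1 with h3 | h3
    · exact absurd (Subtype.ext (orderOf_eq_one_iff.1 h3)) hx1
    · rw [h3] at h2
      exact (Nat.prime_dvd_prime_iff_eq hr Fact.out).1 (hr.dvd_of_dvd_pow h2)
  subst hrp
  exact ⟨M₀, hM₀n, hM₀, hle, hea, hmin⟩

end

theorem DChief.stabLE {p : ℕ} [Fact p.Prime] {n e : ℕ} (hX : DChief.{u} p n e) (c : ℕ) :
    ∀ (G : Type u) [Group G] [Finite G], IsPSolvable p G → ∀ (P : Sylow p G) (M : Subgroup G)
    [M.Normal], Nat.card M = c → IsPGroup p M → cS P M n = ⊥ → StabLE p e M := by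
  induction c using Nat.strong_induction_on with
  | _ c ih =>
  intro G _ _ hG P M _ hc hM hyp
  by_cases h0 : M = ⊥
  · haveI := QuotientGroup.subsingleton_quotient_top (G := G)
    exact ⟨⊤, inferInstance, pLengthLE_of_subsingleton _, fun x _ _ => by
      rw [h0]; simp [mem_centralizer_iff]⟩
  obtain ⟨M₀, hM₀n, hM₀, hle, hea, hmin⟩ := exists_minimal_elementary_le hM h0
  haveI : (M.map (QuotientGroup.mk' M₀)).Normal :=
    Subgroup.Normal.map inferInstance _ (QuotientGroup.mk'_surjective _)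
  refine StabLE.trans (hM.to_le hle) ⟨_, inferInstance,
    hX G hG P M₀ hea hmin (le_bot_iff.1 (hyp ▸ cS_mono hle n)), fun x hx _ => hx⟩
    (ih _ ?_ (G ⧸ M₀) (H53.isPSolvable_quotient hG _)
      (P.mapSurjective (QuotientGroup.mk'_surjective _)) _ rfl (hM.map _) ?_)
  · rw [H3.card_map_mk', ← hc, ← H3.card_mul_relIndex hle]
    have h1 : 1 < Nat.card M₀ := (one_lt_card_iff_ne_bot M₀).2 hM₀
    have h2 : 0 < M₀.relIndex M := Nat.pos_of_ne_zero index_ne_zero_of_finite
    nlinarith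
  · rw [Sylow.coe_mapSurjective, ← map_cS, hyp, Subgroup.map_bot]

theorem DChief.of_dS {p : ℕ} [Fact p.Prime] {n e : ℕ} (hX : DChief.{u} p n e) (c : ℕ) :
    ∀ (G : Type u) [Group G] [Finite G], Nat.card G = c → IsPSolvable p G → ∀ P : Sylow p G,
      dS (P : Subgroup G) n = ⊥ → PLengthLE p (e + 1) G := by
  induction c using Nat.strong_induction_on with
  | _ c ih =>
  intro G _ _ hc hG P hE
  by_cases h0 : (⊤ : Subgroup G) = ⊥
  · haveI : Subsingleton G := ⟨fun a b => by
      have ha : a = 1 := mem_bot.1 (h0 ▸ mem_top a)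
      have hb : b = 1 := mem_bot.1 (h0 ▸ mem_top b)
      rw [ha, hb]⟩
    exact pLengthLE_of_subsingleton _
  have hq : ∀ (M : Subgroup G) [M.Normal], M ≠ ⊥ → PLengthLE p (e + 1) (G ⧸ M) := fun M _ hM => by
    refine ih _ ?_ (G ⧸ M) rfl (H53.isPSolvable_quotient hG _)
      (P.mapSurjective (QuotientGroup.mk'_surjective _))
      (by rw [Sylow.coe_mapSurjective, ← map_dS, hE, Subgroup.map_bot])
    rw [← hc, card_eq_card_quotient_mul_card_subgroup M]
    have h1 : 1 < Nat.card M := (one_lt_card_iff_ne_bot M).2 hM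
    have h2 : 0 < Nat.card (G ⧸ M) := Nat.card_pos
    nlinarith
  obtain ⟨M, hMn, -, hM, hMp | hMp⟩ := H53.exists_normal_le_of_isPSolvable hG ⊤ h0
  · obtain ⟨M₀, hM₀n, hM₀, hle, hea, hmin⟩ := exists_minimal_elementary_le hMp hM
    exact pLengthLE_succ_of_centralizer M₀ hea (hq M₀ hM₀) (hX G hG P M₀ hea hmin (le_bot_iff.1
      (hE ▸ cS_le_dS ((H3.le_pCore (hMp.to_le hle)).trans (H3.pCore_le_sylow P)) n)))
  · exact pLengthLE_of_coprime_ker (QuotientGroup.mk'_surjective M)
      (by rwa [QuotientGroup.ker_mk']) (hq M hM)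

section

variable {G : Type u} [Group G] [Finite G]

theorem relIndex_dvd_index_of_normal_right (P N : Subgroup G) [N.Normal] :
    P.relIndex N ∣ P.index := by
  have h1 := H3.card_sup_mul_card_inf P N
  rw [← H3.card_mul_relIndex (le_sup_left : P ≤ P ⊔ N), ← H3.card_inf_mul_relIndex P N,
    mul_assoc, mul_comm (P.relIndex _)] at h1
  rw [← Nat.eq_of_mul_eq_mul_left Nat.card_pos (Nat.eq_of_mul_eq_mul_left Nat.card_pos h1)]
  exact relIndex_dvd_index_of_le le_sup_left

/-- To see that a subgroup of `P` is trivial, test it on invariant subgroups of class two. -/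
theorem eq_bot_of_forall_class_two {p : ℕ} [Fact p.Prime] (hG : IsPSolvable p G)
    (hO : pCore p G = ⊥) {P P₀ C : Subgroup G} (hP : IsPGroup p P) (hP₀ : P₀ ≤ P) (hC : C ≤ P)
    (h : ∀ Q : Subgroup G, ∀ q : ℕ, q.Prime → q ≠ p → IsPGroup q Q →
      ⁅Q, Q⁆ ≤ centralizer (Q : Set G) → P ≤ normalizer (Q : Set G) →
      (∀ g ∈ normalizer (P₀ : Set G), ∃ c ∈ centralizer (P₀ : Set G),
        c⁻¹ * g ∈ normalizer (Q : Set G)) → C ≤ centralizer (Q : Set G)) : C = ⊥ := by
  set H := pPrimeCore p G with hH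
  have hHc : (Nat.card H).Coprime p := H3.pPrimeCore_coprime p G
  have hcop : (Nat.card P).Coprime (Nat.card H) := H3.coprime_card_of_isPGroup hP hHc.symm
  have hn : ∀ A : Subgroup G, A ≤ normalizer (H : Set G) := fun A => by
    rw [normalizer_eq_top]; exact le_top
  rw [eq_bot_iff, ← H3.inf_eq_bot_of_isPGroup_of_coprime hP hHc]
  refine le_inf hC ((le_centralizer_iff.1 (le_of_forall_sylow_le fun q hq => ?_)).trans
    (H53.centralizer_pPrimeCore_le hG hO))
  obtain ⟨S, hS⟩ := exists_invariant_sylow (hn P) hcop (Or.inl (isSolvable_of_isPGroup hP)) q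
  refine ⟨S, ?_⟩
  set S' := (S : Subgroup H).map H.subtype with hS'
  have hS'p : IsPGroup q S' := S.isPGroup'.map _
  by_cases hq2 : q = p
  · subst hq2
    have := H3.inf_eq_bot_of_isPGroup_of_coprime hS'p hHc
    rw [inf_eq_left.2 (map_subtype_le _)] at this
    exact this.le.trans bot_le
  obtain ⟨D, hDc, -, hD1, hD2, -⟩ := H7.exists_critical hS'p
  have hSD := H3.normalizer_le_normalizer_map_of_characteristic S' D
  have h1 := h (D.map S'.subtype) q hq.out hq2 ((hS'p.to_subgroup D).map _) (by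
    rw [← map_commutator]
    rintro _ ⟨y, hy, rfl⟩ _ ⟨t, ht, rfl⟩
    exact congrArg Subtype.val ((hD1 (commutator_mono le_rfl le_top hy)).2 t ht))
    (hS.trans hSD) fun g hg => by
      obtain ⟨k, hk, e⟩ := exists_conj_sylow_map_eq S (hn ⊤ (mem_top g))
      obtain ⟨c, hc, e'⟩ := exists_centralizer_conj_eq (hn P₀) (coprime_of_le_left hcop hP₀)
        (Or.inl (isSolvable_of_isPGroup (hP.to_le hP₀))) hk (hP₀.trans hS) (by
        rw [← e]
        intro a ha
        rw [mem_normalizer_iff_conj_smul, conj_smul_conj_smul,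
          show a * g = g * (g⁻¹ * a * g) by group, ← conj_smul_conj_smul,
          mem_normalizer_iff_conj_smul.1 (hS (hP₀ (inv_conj_mem_of_mem_normalizer hg ha)))])
      refine ⟨c, hc.2, hSD (mem_normalizer_iff_conj_smul.2 ?_)⟩
      rw [← conj_smul_conj_smul, e, ← e', conj_smul_conj_smul, inv_mul_cancel, map_one, one_smul]
  refine le_centralizer_iff.1 fun x hx => ?_
  obtain ⟨j, hj⟩ := hP ⟨x, hC hx⟩
  have h3 := H7.aut_eq_one_of_fixes_self_centralizing hS'p hD2 (cjA (hS (hC hx))) (by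
    have : orderOf (cjA (hS (hC hx))) ∣ p ^ j := orderOf_dvd_of_pow_eq_one (by
      rw [← cjA_pow]
      ext t
      rw [coe_cjA, show x ^ p ^ j = 1 from congrArg Subtype.val hj]
      simp)
    exact Nat.Coprime.coprime_dvd_left this
      (((Nat.coprime_primes Fact.out hq.out).2 (Ne.symm hq2)).pow_left j)) fun t ht =>
    Subtype.ext (mul_inv_eq_iff_eq_mul.2 (h1 hx t ⟨t, ht, rfl⟩).symm)
  intro t ht
  have := congrArg (fun γ : MulAut S' => (γ ⟨t, ht⟩ : G)) h3
  simp only [coe_cjA, MulAut.one_apply] at this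
  exact (mul_inv_eq_iff_eq_mul.1 this).symm

theorem pLengthLE_succ_of_stabLE {p : ℕ} [Fact p.Prime] {A : Type*} [Group A] [Finite A]
    (hA : IsPSolvable p A) (hO : pPrimeCore p A = ⊥) {f : G →* A} (hf : Function.Surjective f)
    {P₀ : Subgroup G} (hP₀ : P₀.map f = pCore p A) {e : ℕ} (h : StabLE p e P₀) :
    PLengthLE p (e + 1) A := by
  obtain ⟨C, _, hC, hC'⟩ := h
  haveI := Subgroup.Normal.map (inferInstance : C.Normal) _ hf
  refine pLengthLE_succ_of_ker_le (QuotientGroup.mk'_surjective (C.map f)) ?_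
    (pLengthLE_of_ker_le (QuotientGroup.mk'_surjective C)
      (g := (QuotientGroup.mk' _).comp f) ((QuotientGroup.mk'_surjective _).comp hf) ?_ hC)
  · rw [QuotientGroup.ker_mk']
    refine (H3.le_pCore ?_).trans (H3.pCore_le_pPrimePCore p A)
    rintro ⟨_, c, hc, rfl⟩
    obtain ⟨j, m, hm, hn⟩ := Nat.exists_eq_pow_mul_and_not_dvd (orderOf_pos c).ne' p
      (Fact.out : p.Prime).one_lt.ne'
    have h1 := hC' _ (pow_mem hc (p ^ j)) (Nat.Coprime.coprime_dvd_left
      (orderOf_dvd_of_pow_eq_one (by rw [← pow_mul, ← hn, pow_orderOf_eq_one]))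
      ((Nat.Prime.coprime_iff_not_dvd Fact.out).2 hm).symm)
    have h2 : f (c ^ p ^ j) ∈ pCore p A := H53.centralizer_pCore_le hA hO (by
      rw [← hP₀]
      rintro _ ⟨y, hy, rfl⟩
      rw [← map_mul, h1 y hy, map_mul])
    obtain ⟨k, hk⟩ := H3.pCore_isPGroup p A ⟨_, h2⟩
    refine ⟨j + k, Subtype.ext ?_⟩
    have := congrArg Subtype.val hk
    simpa [pow_add, pow_mul] using this
  · rw [← MonoidHom.comap_ker, QuotientGroup.ker_mk', QuotientGroup.ker_mk']
    exact le_comap_map _ _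

variable {K : Type*} [Field K] {V : Type*} [AddCommGroup V] [Module K V]
variable {ρ : Representation K G V} [IsAlgClosed K] [FiniteDimensional K V] [CharP K 2]

theorem pLengthLE_of_RKil {e : ℕ} (hX : DChief.{u} 2 (e + 1) e)
    (hρ : Function.Injective ρ) (hG : IsPSolvable 2 G) (hO : pCore 2 G = ⊥) (S : Sylow 2 G)
    (hK : RKil ρ S (e + 1 + 1) 0 1) : PLengthLE 2 (e + 1) G := by
  set H := pPrimeCore 2 G with hH
  set π := QuotientGroup.mk' H with hπ'
  have hπ : Function.Surjective π := QuotientGroup.mk'_surjective H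
  refine pLengthLE_of_coprime_ker hπ
    (by rw [QuotientGroup.ker_mk']; exact H3.pPrimeCore_coprime 2 G) ?_
  set P := (S : Subgroup G) with hPS
  have hP : IsPGroup 2 P := S.isPGroup'
  set P₀ := P ⊓ (pCore 2 (G ⧸ H)).comap π with hP₀
  have hP₀π : P₀.map π = pCore 2 (G ⧸ H) := by
    refine le_antisymm (map_le_iff_le_comap.2 inf_le_right) fun b hb => ?_
    obtain ⟨x, hx, rfl⟩ := H3.pCore_le_sylow (S.mapSurjective hπ) hb
    exact ⟨x, ⟨hx, hb⟩, rfl⟩
  set L := normalizer (P₀ : Set G) with hL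
  have hPL : P ≤ L := le_normalizer_inf le_normalizer (by rw [normalizer_eq_top]; exact le_top)
  have hLπ : Function.Surjective (π.comp L.subtype) := by
    have h1 := H3.frattini_argument (p := 2) (inf_le_right : P₀ ≤ _) hP.to_inf_left (by
      rw [inf_relIndex_right]
      exact fun h => S.not_dvd_index (h.trans (relIndex_dvd_index_of_normal_right _ _)))
    rw [← MonoidHom.range_eq_top, ← MonoidHom.map_range, range_subtype, eq_top_iff,
      ← map_top_of_surjective π hπ, ← h1, Subgroup.map_sup, map_comap_eq_self_of_surjective hπ]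
    exact sup_le le_rfl (hP₀π.ge.trans (map_mono le_normalizer))
  set M := closure {x | ∃ g ∈ L, ∃ a ∈ dS P (e + 1) ⊓ P₀, x = g * a * g⁻¹} with hM
  have hMP₀ : M ≤ P₀ := (closure_le _).2 (by
    rintro _ ⟨g, hg, a, ha, rfl⟩; exact conj_mem_of_mem_normalizer hg ha.2)
  have hMP : M ≤ P := hMP₀.trans inf_le_left
  have hLM : L ≤ normalizer (M : Set G) := fun l hl => mem_normalizer_of_conj_mem fun x hx => by
    have : M.map (MulAut.conj l).toMonoidHom ≤ M := by
      rw [hM, MonoidHom.map_closure]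
      refine closure_mono ?_
      rintro _ ⟨_, ⟨g, hg, a, ha, rfl⟩, rfl⟩
      exact ⟨l * g, mul_mem hl hg, a, ha, by simp [mul_assoc]⟩
    exact this ⟨x, hx, rfl⟩
  have hcq : ∀ {Q : Subgroup G} {q : ℕ}, q.Prime → q ≠ 2 → IsPGroup q Q →
      (Nat.card Q).Coprime 2 := fun hq hq2 hQ =>
    H3.coprime_card_of_isPGroup hQ ((Nat.coprime_primes hq Nat.prime_two).2 hq2)
  have hAZ : ∀ {Q : Subgroup G}, (Nat.card Q).Coprime 2 → P ≤ normalizer (Q : Set G) →
      dS P (e + 1) ≤ centralizer ((Q ⊓ centralizer (Q : Set G) : Subgroup G) : Set G) :=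
    fun hQ hPQ => dS_le_centralizer hρ (natCast_ne_zero_of_coprime_two
      (H3.coprime_card_of_le inf_le_left hQ)) hP
      (le_normalizer_inf hPQ (le_normalizer_centralizer hPQ)) hK
  have hMZ : ∀ {Q : Subgroup G}, (Nat.card Q).Coprime 2 → P ≤ normalizer (Q : Set G) →
      (∀ g ∈ L, ∃ c ∈ centralizer (P₀ : Set G), c⁻¹ * g ∈ normalizer (Q : Set G)) →
      M ≤ centralizer ((Q ⊓ centralizer (Q : Set G) : Subgroup G) : Set G) :=
    fun hQ hPQ hc => (closure_le _).2 (by
      rintro _ ⟨g, hg, a, ha, rfl⟩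
      obtain ⟨c, hc, h1⟩ := hc g hg
      have e1 : g * a * g⁻¹ = (c⁻¹ * g) * a * (c⁻¹ * g)⁻¹ := by
        have := hc _ (conj_mem_of_mem_normalizer hg ha.2)
        calc g * a * g⁻¹ = c⁻¹ * (c * (g * a * g⁻¹)) := by group
          _ = _ := by rw [← this]; group
      rw [e1]
      exact conj_mem_of_mem_normalizer (le_normalizer_centralizer (le_normalizer_inf le_rfl
        (le_normalizer_centralizer le_rfl)) h1) (hAZ hQ hPQ ha.1))
  have htriv : ∀ C ≤ M, (∀ Q : Subgroup G, (Nat.card Q).Coprime 2 →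
      ⁅Q, Q⁆ ≤ centralizer (Q : Set G) → P ≤ normalizer (Q : Set G) →
      M ≤ centralizer ((Q ⊓ centralizer (Q : Set G) : Subgroup G) : Set G) →
      ∀ χ : G → K, wt ρ (Q ⊓ centralizer (Q : Set G)) χ ≠ ⊥ → C ≤ wtKer Q χ) → C = ⊥ :=
    fun C hC h => eq_bot_of_forall_class_two hG hO hP inf_le_left (hC.trans hMP)
      fun Q q hq hq2 hQ hcl hPQ hc => le_centralizer_of_wtKer hρ
        (natCast_ne_zero_of_coprime_two (hcq hq hq2 hQ)) hcl ((hC.trans hMP).trans hPQ)
        (H3.coprime_card_of_isPGroup (hP.to_le (hC.trans hMP)) (hcq hq hq2 hQ).symm)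
        (hC.trans (hMZ (hcq hq hq2 hQ) hPQ hc))
        (h Q (hcq hq hq2 hQ) hcl hPQ (hMZ (hcq hq hq2 hQ) hPQ hc))
  have hAM : dS P (e + 1) ⊓ P₀ ≤ M := fun a ha => subset_closure ⟨1, one_mem _, a, ha, by simp⟩
  have hc1 : dS P (e + 1) ⊓ P₀ ≤ centralizer (M : Set G) := fun a ha s hs => by
    have := htriv (zpowers ⁅a, s⁆) (zpowers_le.2 (commutator_le_self M
      (commutator_mem_commutator (hAM ha) hs))) fun Q hQ hcl hPQ hMZ χ h0 => zpowers_le.2 (by
      have h1 := mem_normalizer_wtKer (χ := χ) hcl (hPQ (hMP hs)) (centralizer_le_wtStab (hMZ hs))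
      rw [commutatorElement_def, mul_assoc, mul_assoc, ← mul_assoc s]
      by_cases h2 : a ∈ wtKer Q χ
      · exact mul_mem h2 (conj_mem_of_mem_normalizer h1 (inv_mem h2))
      · exact mul_mem_wtKer hρ hQ hcl h0 hP hPQ hK ha.1
          (conj_mem_of_mem_normalizer (le_normalizer_dS le_normalizer _ (hMP hs)) (inv_mem ha.1))
          h2 fun h3 => h2 (inv_mem_iff.1 ((mem_normalizer_iff.1 h1 _).2 h3)))
    exact (commutatorElement_eq_one_iff_mul_comm.1 (zpowers_eq_bot.1 this)).symm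
  have hc2 : M ≤ centralizer (M : Set G) := (closure_le _).2 (by
    rintro _ ⟨g, hg, a, ha, rfl⟩
    exact conj_mem_of_mem_normalizer (le_normalizer_centralizer hLM hg) (hc1 ha))
  have hM2 : ∀ f ∈ M, f * f = 1 := fun f hf => by
    induction hf using closure_induction with
    | mem x hx =>
      obtain ⟨g, -, a, ha, rfl⟩ := hx
      calc g * a * g⁻¹ * (g * a * g⁻¹) = g * (a * a) * g⁻¹ := by group
        _ = 1 := by rw [mul_self_of_RKil hρ hK a ha.1]; group
    | one => exact mul_one 1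
    | mul a b ha hb h1 h2 =>
      rw [mul_assoc, ← mul_assoc b, hc2 ha b hb, mul_assoc, h2, mul_one, h1]
    | inv a _ h1 => rw [← mul_inv_rev, h1, inv_one]
  have hc3 : cS P M (e + 1) = ⊥ := htriv _ (cS_anti (hPL.trans hLM) (Nat.zero_le _))
    fun Q hQ hcl hPQ hMZ χ h0 => cS_le_wtKer hQ hcl h0 hP hPQ hMP (hPL.trans hLM) hM2 hMZ hK
  have hGL := H53.isPSolvable_subgroup hG L
  haveI : (M.subgroupOf L).Normal := normal_subgroupOf_of_le_normalizer hLM
  haveI : (P₀.subgroupOf L).Normal := normal_in_normalizer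
  haveI := Subgroup.Normal.map (inferInstance : (P₀.subgroupOf L).Normal) _
    (QuotientGroup.mk'_surjective (M.subgroupOf L))
  refine pLengthLE_succ_of_stabLE (H53.isPSolvable_quotient hG H)
    (H3.pPrimeCore_quotient_pPrimeCore 2 G) hLπ (P₀ := P₀.subgroupOf L)
    (by rw [← map_map, map_subgroupOf_eq_of_le le_normalizer, hP₀π])
    (StabLE.trans (M₀ := M.subgroupOf L) (hP.to_le hMP).comap_subtype
      (hX.stabLE _ L hGL (S.subtype hPL) _ rfl (hP.to_le hMP).comap_subtype ?_)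
      (hX.stabLE _ _ (H53.isPSolvable_quotient hGL _)
        ((S.subtype hPL).mapSurjective (QuotientGroup.mk'_surjective _)) _ rfl
        (hP.to_inf_left.comap_subtype.map _) ?_))
  · rw [← map_eq_bot_iff_of_injective _ L.subtype_injective, map_cS, Sylow.coe_subtype,
      map_subgroupOf_eq_of_le hPL, map_subgroupOf_eq_of_le (hMP.trans hPL), hc3]
  · rw [Sylow.coe_mapSurjective, ← map_cS, Subgroup.map_eq_bot_iff, QuotientGroup.ker_mk',
      ← map_le_map_iff_of_injective L.subtype_injective, map_cS, Sylow.coe_subtype,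
      map_subgroupOf_eq_of_le hPL, map_subgroupOf_eq_of_le (hMP.trans hPL),
      map_subgroupOf_eq_of_le le_normalizer]
    exact (le_inf (cS_le_dS inf_le_left _) (cS_anti hPL (Nat.zero_le _))).trans hAM

omit [Finite G] in
theorem RKil_conjRep {p : ℕ} [Fact p.Prime] {M : Subgroup G} [M.Normal]
    (h : IsElementaryAbelian p M) {P : Subgroup G} (n : ℕ) :
    ∀ (i : ℕ) (L : Module.End (ZMod p) (EA h)), (∀ v, (L v).val ∈ cS P M i) →
      cS P M (n + i) = ⊥ → RKil (EA.conjRep h) P n i L := by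
  induction n with
  | zero =>
    intro i L h1 h2
    ext v
    rw [zero_add] at h2
    exact EA.val_eq_one.1 (mem_bot.1 (h2 ▸ h1 v))
  | succ n ih =>
    intro i L h1 h2 u hu
    refine ih _ _ (fun v => ?_) (by rwa [add_right_comm] at h2)
    rw [Module.End.mul_apply, LinearMap.sub_apply, EA.val_sub, EA.val_conjRep, Module.End.one_apply]
    exact commutator_mem_commutator hu (h1 v)

omit [Finite G] in
theorem RKil_baseRep {p : ℕ} [Fact p.Prime] {M : Subgroup G} [M.Normal]
    (h : IsElementaryAbelian p M) {P : Subgroup G} {n : ℕ} (h1 : cS P M n = ⊥) (K : Type*)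
    [Field K] [Algebra (ZMod p) K] :
    RKil (R := Module.End K (TensorProduct (ZMod p) K (EA h))) (baseRep (centRep h) K)
      (P.map (QuotientGroup.mk' _)) n 0 1 := by
  have h2 : RKil (centRep h) (P.map (QuotientGroup.mk' _)) n 0 1 :=
    RKil.of_comp (RKil_conjRep h n 0 1 (fun v => v.val_mem) h1)
  have := h2.map (S := Module.End K (TensorProduct (ZMod p) K (EA h)))
    (Module.End.baseChangeHom (ZMod p) K (EA h)).toRingHom
  rwa [map_one] at this

end

theorem dChief_zero (p : ℕ) [Fact p.Prime] : DChief.{u} p 1 0 := by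
  intro G _ _ _ P M _ _ _ hyp
  refine pLengthLE_zero_iff.2 ((Nat.Prime.coprime_iff_not_dvd Fact.out).2 fun h =>
    P.not_dvd_index (h.trans (index_dvd_of_le ?_))).symm
  exact commutator_eq_bot_iff_le_centralizer.1 hyp

theorem dChief_two (e : ℕ) : DChief.{u} 2 (e + 1) e := by
  induction e with
  | zero => exact dChief_zero 2
  | succ e ih =>
    intro G _ _ hG P M _ hM hmin hyp
    haveI : Module.Finite (ZMod 2) (EA hM) := Module.Finite.of_finite
    exact pLengthLE_of_RKil (ρ := baseRep (centRep hM) (AlgebraicClosure (ZMod 2))) ih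
      (fun a b h => centRep_injective hM (baseChangeHom_injective _ h))
      (H53.isPSolvable_quotient hG _) (pCore_quotient_centralizer_eq_bot
        (fun x => ⟨1, Subtype.ext (by simpa using hM.2 x x.2)⟩) hmin)
      (P.mapSurjective (QuotientGroup.mk'_surjective _)) (RKil_baseRep hM hyp _)

/-- Bryukhanova's theorem: `l_2 ≤ d_2`. -/
theorem pLengthLE_two_of_dS {G : Type*} [Group G] [Finite G] (hG : IsPSolvable 2 G)
    (P : Sylow 2 G) {d : ℕ} (h : dS (P : Subgroup G) d = ⊥) : PLengthLE 2 d G := by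
  cases d with
  | zero =>
    refine pLengthLE_zero_iff.2 ((Nat.Prime.coprime_iff_not_dvd Nat.prime_two).2 fun h1 =>
      P.not_dvd_index ?_).symm
    rwa [show (P : Subgroup G) = ⊥ from h, index_bot]
  | succ e => exact (dChief_two e).of_dS _ G rfl hG P h

end Cfsg.Agent.H4
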