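import Cfsg.Agent.H56.HLDefs
import Cfsg.Agent.H79.TTActL2
import Cfsg.Agent.S4028

/-!
# No 2-transitive group of degree 22 has a two point stabilizer of order 8 or 16
-/

set_option autoImplicit false

namespace Cfsg.Agent.H4.HlB6

open MulAction Subgroup Cfsg.Agent.H56.TT

universe u v

theorem divs (n : ℕ) (h1 : n ∣ 672) (h2 : n % 11 = 1) : n = 1 ∨ n = 12 ∨ n = 56 ∨ n = 672 := by
  have h3 : n ∈ Nat.divisors 672 := Nat.mem_divisors.2 ⟨h1, by norm_num⟩
  revert h2
  revert n
  have : ∀ n ∈ Nat.divisors 672, n % 11 = 1 → n = 1 ∨ n = 12 ∨ n = 56 ∨ n = 672 := by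
    decide +kernel
  exact fun n _ h3 h2 => this n h3 h2

theorem b6 : Cfsg.Agent.H56.HL.B6Stmt.{u, v} := by
  intro G Ω _ _ _ _ _ h2 hΩ a b hab hc
  obtain ⟨m, hm, hD⟩ : ∃ m, (m = 8 ∨ m = 16) ∧ Nat.card (DD G a b) = m := ⟨_, hc, rfl⟩
  have hS0 : Nat.card (stabilizer G a) = 21 * m := by rw [H79.TT.card_stab h2 hab, hΩ, hD]
  have hG : Nat.card G = 22 * (21 * m) := by rw [H79.TT.card_eq_stab h2 a, hΩ, hS0]
  have hS : ∀ c : Ω, Nat.card (stabilizer G c) = 21 * m := fun c => by
    have := H79.TT.card_eq_stab h2 c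
    rw [hΩ, hG] at this
    omega
  have hDD : ∀ c d : Ω, c ≠ d → Nat.card (DD G c d) = m := fun c d hcd => by
    have := H79.TT.card_stab h2 hcd
    rw [hΩ, hS] at this
    omega
  haveI : Fact (Nat.Prime 11) := ⟨by norm_num⟩
  obtain ⟨P⟩ : Nonempty (Sylow 11 G) := inferInstance
  have hP : Nat.card (P : Subgroup G) = 11 := by
    rw [P.card_eq_multiplicity, hG]
    rcases hm with rfl | rfl
    · rw [show (22 * (21 * 8) : ℕ).factorization 11 = 1 by decide +kernel]; rfl
    · rw [show (22 * (21 * 16) : ℕ).factorization 11 = 1 by decide +kernel]; rfl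
  obtain ⟨x0, hx0⟩ := exists_prime_orderOf_dvd_card' (G := (P : Subgroup G)) 11 (by rw [hP])
  have hx : orderOf (x0 : G) = 11 := by rw [Subgroup.orderOf_coe, hx0]
  have hzx : zpowers (x0 : G) = P := by
    refine Subgroup.eq_of_le_of_card_ge (zpowers_le.2 x0.2) ?_
    rw [hP, Nat.card_zpowers, hx]
  have hmove : ∀ c : Ω, (x0 : G) • c ≠ c := fun c hc => by
    have := (stabilizer G c).orderOf_dvd_natCard (x := (x0 : G)) hc
    rw [hx, hS] at this
    rcases hm with rfl | rfl <;> omega
  have key : ∀ r : ℕ, r = 3 ∨ r = 7 → ¬ r ∣ Nat.card (normalizer (P : Set G)) := by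
    intro r hr hd
    haveI : Fact r.Prime := ⟨by rcases hr with rfl | rfl <;> norm_num⟩
    obtain ⟨g0, hg0⟩ := exists_prime_orderOf_dvd_card' r hd
    have hg : orderOf (g0 : G) = r := by rw [Subgroup.orderOf_coe, hg0]
    have hcm := S4028.commute_of_coprime (x := (x0 : G)) (g := (g0 : G)) (by
      rw [hzx]; exact g0.2) (by
      rw [hg, hx, Nat.totient_prime (by norm_num)]
      rcases hr with rfl | rfl <;> norm_num)
    have hcm' : (x0 : G) * g0 = g0 * x0 := mem_centralizer_iff.1 hcm _ rfl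
    have hpg : IsPGroup r (zpowers (g0 : G)) :=
      IsPGroup.of_card (n := 1) (by rw [Nat.card_zpowers, hg, pow_one])
    obtain ⟨c, hc⟩ := hpg.nonempty_fixed_point_of_prime_not_dvd_card Ω (by
      rw [hΩ]; rcases hr with rfl | rfl <;> norm_num)
    have h1 : (g0 : G) • c = c := hc ⟨g0, mem_zpowers _⟩
    have h3 : (g0 : G) • (x0 : G) • c = (x0 : G) • c := by
      rw [← mul_smul, ← hcm', mul_smul, h1]
    have := (DD G c ((x0 : G) • c)).orderOf_dvd_natCard (x := (g0 : G)) ⟨h1, h3⟩
    rw [hg, hDD _ _ (hmove c).symm] at this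
    rcases hm with rfl | rfl <;> rcases hr with rfl | rfl <;> omega
  have hn := (normalizer (P : Set G)).card_mul_index
  rw [← P.card_eq_index_normalizer, hG] at hn
  have hmod : Nat.card (Sylow 11 G) % 11 = 1 := card_sylow_modEq_one 11 G
  have hdv : Nat.card (Sylow 11 G) ∣ 672 := by
    have h1 := P.card_dvd_index
    have h3 := (P : Subgroup G).card_mul_index
    rw [hP, hG] at h3
    refine h1.trans ?_
    rcases hm with rfl | rfl
    · rw [show (P : Subgroup G).index = 336 by omega]; norm_num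
    · rw [show (P : Subgroup G).index = 672 by omega]
  have k3 := key 3 (Or.inl rfl)
  have k7 := key 7 (Or.inr rfl)
  have hN : Nat.card (normalizer (P : Set G)) = 11 ∧ m = 16 := by
    rcases divs _ hdv hmod with h | h | h | h <;> rw [h] at hn <;> rcases hm with rfl | rfl <;>
      omega
  obtain ⟨hN, rfl⟩ := hN
  have hNP : normalizer (P : Set G) = P :=
    (Subgroup.eq_of_le_of_card_ge (H := (P : Subgroup G)) (K := normalizer (P : Set G))
      le_normalizer (by rw [hN, hP])).symm
  have hC : normalizer (P : Set G) ≤ centralizer (P : Set G) := by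
    rw [hNP]
    haveI : IsCyclic (P : Subgroup G) := isCyclic_of_prime_card hP
    exact le_centralizer _
  have hle : ∀ c : Ω, stabilizer G c ≤ (MonoidHom.transferSylow P hC).ker := fun c g hg => by
    rw [MonoidHom.mem_ker, ← orderOf_eq_one_iff]
    have h1 := orderOf_dvd_natCard (MonoidHom.transferSylow P hC g)
    have h3 := (stabilizer G c).orderOf_dvd_natCard hg
    rw [hP] at h1
    rw [hS] at h3
    exact Nat.eq_one_of_dvd_coprimes (by norm_num) h1 ((orderOf_map_dvd _ g).trans h3)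
  obtain ⟨c, hc1, hc2⟩ : ∃ c : Ω, c ≠ a ∧ c ≠ (x0 : G) • a := by
    by_contra h
    push Not at h
    have h1 : (Set.univ : Set Ω) ⊆ {a, (x0 : G) • a} := fun c _ => by
      by_cases h3 : c = a
      · exact Or.inl h3
      · exact Or.inr (h c h3)
    have h3 := Set.ncard_le_ncard h1
    have h4 := Set.ncard_insert_le a {(x0 : G) • a}
    rw [Set.ncard_univ, hΩ] at h3
    rw [Set.ncard_singleton] at h4
    omega
  obtain ⟨g, hg1, hg2⟩ := h2 c a c _ hc1 hc2
  have h1 : g⁻¹ * x0 ∈ stabilizer G a := by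
    rw [mem_stabilizer_iff, mul_smul, ← hg2, inv_smul_smul]
  have h3 : (x0 : G) ∈ (MonoidHom.transferSylow P hC).ker := by
    have := mul_mem (hle c hg1) (hle a h1)
    rwa [mul_inv_cancel_left] at this
  have h4 := Subgroup.orderOf_dvd_natCard _ h3
  rw [hx] at h4
  exact MonoidHom.not_dvd_card_ker_transferSylow P hC h4

end Cfsg.Agent.H4.HlB6
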