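import Cfsg.Agent.H44.K5Defs

set_option autoImplicit false

namespace Cfsg.Agent.H4.K5Nei

open Cfsg.Agent.H44.K5 Matrix

theorem ev (p w0 w1 w2 w3 w4 : ℤ) (hp : p % 2 = 1) (h0 : w0 % 2 = 1)
    (h : w1 ^ 2 + w2 ^ 2 + w3 ^ 2 + w4 ^ 2 + w0 ^ 2 = p ^ 2) :
    w1 % 2 = 0 ∧ w2 % 2 = 0 ∧ w3 % 2 = 0 ∧ w4 % 2 = 0 := by
  have k : ∀ w : ℤ, (w % 2 = 1 ∧ w ^ 2 % 8 = 1) ∨ (w % 2 = 0 ∧ w ^ 2 % 4 = 0) := by
    intro w
    rcases Int.emod_two_eq_zero_or_one w with h | h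
    · right
      obtain ⟨m, rfl⟩ : ∃ m, w = 2 * m := ⟨w / 2, by omega⟩
      refine ⟨h, ?_⟩
      have : (2 * m) ^ 2 = 4 * (m ^ 2) := by ring
      omega
    · left
      obtain ⟨m, rfl⟩ : ∃ m, w = 2 * m + 1 := ⟨w / 2, by omega⟩
      refine ⟨h, ?_⟩
      obtain ⟨r, hr⟩ := Int.even_mul_succ_self m
      have : (2 * m + 1) ^ 2 = 8 * r + 1 := by linear_combination 4 * hr
      omega
  have a := k p; have a0 := k w0; have a1 := k w1; have a2 := k w2; have a3 := k w3; have a4 := k w4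
  generalize p ^ 2 = P at *; generalize w0 ^ 2 = A at *; generalize w1 ^ 2 = B at *
  generalize w2 ^ 2 = C at *; generalize w3 ^ 2 = D at *; generalize w4 ^ 2 = E at *
  omega

theorem core (uni : UniStmt) (p x y z t c k n : ℤ) (hp0 : p ≠ 0) (hp : p % 2 = 1) (hc : c * x = 1 + p * k)
    (hn : 1 + x ^ 2 + y ^ 2 + z ^ 2 + t ^ 2 = p ^ 2 * n) : ∃ u0 u1 u2 u3 u4 : ℤ,
    (u0 * (c + p * k * x) - p * (y * u1 + z * u2 + t * u3) + p ^ 2 * u4) % 2 = 1 ∧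
    u0 ^ 2 + (u0 * c * y + p * u1) ^ 2 + (u0 * c * z + p * u2) ^ 2 + (u0 * c * t + p * u3) ^ 2 +
      (u0 * (c + p * k * x) - p * (y * u1 + z * u2 + t * u3) + p ^ 2 * u4) ^ 2 = p ^ 2 := by
  let B : Matrix (Fin 5) (Fin 5) ℤ := !![1, c * y, c * z, c * t, c + p * k * x; 0, p, 0, 0, -(p * y);
    0, 0, p, 0, -(p * z); 0, 0, 0, p, -(p * t); 0, 0, 0, 0, p ^ 2]
  let A : Matrix (Fin 5) (Fin 5) ℤ := !![k ^ 2 + k ^ 2 * x ^ 2 + c ^ 2 * n, -(k * x * y), -(k * x * z), -(k * x * t), c + p * k * x;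
    -(k * x * y), y ^ 2 + 1, y * z, y * t, -(p * y);
    -(k * x * z), y * z, z ^ 2 + 1, z * t, -(p * z);
    -(k * x * t), y * t, z * t, t ^ 2 + 1, -(p * t);
    c + p * k * x, -(p * y), -(p * z), -(p * t), p ^ 2]
  have hB : B * Bᵀ = (p ^ 2) • A := by
    ext i j
    fin_cases i <;> fin_cases j <;> simp [A, B, Matrix.mul_apply, Fin.sum_univ_five] <;>
      first | ring1 | linear_combination c ^ 2 * hn + (p * k - c * x - 1) * hc
  have hd : B.det = p ^ 5 := by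
    rw [Matrix.det_of_upperTriangular]
    · simp [B, Fin.prod_univ_five]; ring
    · intro i j h
      fin_cases i <;> fin_cases j <;> simp [B] at h ⊢
  have hp2 : (0 : ℤ) < p ^ 2 := by positivity
  have hA : A.det = 1 := by
    have h1 := congrArg Matrix.det hB
    rw [det_mul, det_transpose, hd, det_smul] at h1
    simp only [Fintype.card_fin] at h1
    have h2 : p ^ 10 * (A.det - 1) = 0 := by linear_combination -h1
    rcases mul_eq_zero.1 h2 with h | h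
    · exact absurd h (pow_ne_zero _ hp0)
    · linarith
  have hs : Aᵀ = A := by
    ext i j; fin_cases i <;> fin_cases j <;> rfl
  have hpos : ∀ v : Fin 5 → ℤ, v ≠ 0 → 0 < v ⬝ᵥ A *ᵥ v := by
    intro v hv
    have h1 : p ^ 2 * (v ⬝ᵥ A *ᵥ v) = (Bᵀ *ᵥ v) ⬝ᵥ (Bᵀ *ᵥ v) := by
      have : (Bᵀ *ᵥ v) ⬝ᵥ (Bᵀ *ᵥ v) = v ⬝ᵥ (B * Bᵀ) *ᵥ v := by
        rw [← mulVec_mulVec, dotProduct_mulVec v B, mulVec_transpose]
      rw [this, hB, smul_mulVec, dotProduct_smul, smul_eq_mul]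
    have h2 : Bᵀ *ᵥ v ≠ 0 := fun h => hv (Matrix.eq_zero_of_mulVec_eq_zero
      (by rw [det_transpose, hd]; exact pow_ne_zero _ hp0) h)
    have h3 : 0 < (Bᵀ *ᵥ v) ⬝ᵥ (Bᵀ *ᵥ v) :=
      lt_of_le_of_ne (Finset.sum_nonneg fun i _ => mul_self_nonneg _)
        (fun h => h2 (dotProduct_self_eq_zero.1 h.symm))
    rw [← h1] at h3
    exact (pos_iff_pos_of_mul_pos h3).1 hp2
  obtain ⟨U, hU⟩ := uni 5 le_rfl A hs hpos hA
  set W := Uᵀ * B with hW
  have h1 : W * Wᵀ = (p ^ 2) • (1 : Matrix (Fin 5) (Fin 5) ℤ) := by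
    rw [hW, transpose_mul, transpose_transpose, Matrix.mul_assoc, ← Matrix.mul_assoc B, hB,
      ← Matrix.mul_assoc, Matrix.mul_smul, Matrix.smul_mul, hU]
  have hdW : W.det ≠ 0 := by
    intro h
    have := congrArg Matrix.det h1
    rw [det_mul, h, det_smul, det_one, zero_mul, mul_one] at this
    exact pow_ne_zero _ hp2.ne' this.symm
  have h2 : Wᵀ * W = (p ^ 2) • (1 : Matrix (Fin 5) (Fin 5) ℤ) := by
    have h3 : W * (Wᵀ * W - (p ^ 2) • (1 : Matrix (Fin 5) (Fin 5) ℤ)) = 0 := by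
      rw [Matrix.mul_sub, ← Matrix.mul_assoc, h1, Matrix.smul_mul, Matrix.mul_smul, Matrix.one_mul,
        Matrix.mul_one, sub_self]
    have h4 := congrArg (fun X => W.adjugate * X) h3
    simp only [← Matrix.mul_assoc, adjugate_mul, Matrix.mul_zero] at h4
    rw [Matrix.smul_mul, Matrix.one_mul] at h4
    exact sub_eq_zero.1 ((smul_eq_zero.1 h4).resolve_left hdW)
  have hex : ∃ i, W i 4 % 2 = 1 := by
    by_contra hne
    push Not at hne
    have h5 := congrFun (congrFun h2 4) 4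
    simp only [Matrix.mul_apply, transpose_apply, Fin.sum_univ_five, Matrix.smul_apply, one_apply_eq,
      smul_eq_mul, mul_one] at h5
    have e : ∀ i, Even (W i 4 * W i 4) := fun i =>
      (Int.even_iff.2 (by have := hne i; omega)).mul_right _
    have ho : Odd (p ^ 2) := (Int.odd_iff.2 hp).pow
    rw [← h5] at ho
    exact Int.not_odd_iff_even.2 (((((e 0).add (e 1)).add (e 2)).add (e 3)).add (e 4)) ho
  obtain ⟨i, hi⟩ := hex
  have h6 := congrFun (congrFun h1 i) i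
  simp only [Matrix.mul_apply, transpose_apply, Fin.sum_univ_five, Matrix.smul_apply, one_apply_eq,
      smul_eq_mul, mul_one] at h6
  have w0 : W i 0 = U 0 i := by simp [hW, B, Matrix.mul_apply, Fin.sum_univ_five]
  have w1 : W i 1 = U 0 i * c * y + p * U 1 i := by simp [hW, B, Matrix.mul_apply, Fin.sum_univ_five]; ring
  have w2 : W i 2 = U 0 i * c * z + p * U 2 i := by simp [hW, B, Matrix.mul_apply, Fin.sum_univ_five]; ring
  have w3 : W i 3 = U 0 i * c * t + p * U 3 i := by simp [hW, B, Matrix.mul_apply, Fin.sum_univ_five]; ring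
  have w4 : W i 4 = U 0 i * (c + p * k * x) - p * (y * U 1 i + z * U 2 i + t * U 3 i) + p ^ 2 * U 4 i := by
    simp [hW, B, Matrix.mul_apply, Fin.sum_univ_five]; ring
  refine ⟨U 0 i, U 1 i, U 2 i, U 3 i, U 4 i, w4 ▸ hi, ?_⟩
  rw [← w1, ← w2, ← w3, ← w4, ← w0]; linear_combination h6

theorem zer (a b c d w p : ℤ) (h : a ^ 2 + b ^ 2 + c ^ 2 + d ^ 2 + w ^ 2 = p ^ 2) (h1 : p ^ 2 ≤ w ^ 2) :
    a = 0 ∧ b = 0 ∧ c = 0 ∧ d = 0 := by
  have := sq_nonneg a; have := sq_nonneg b; have := sq_nonneg c; have := sq_nonneg d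
  exact ⟨pow_eq_zero_iff two_ne_zero |>.1 (by linarith), pow_eq_zero_iff two_ne_zero |>.1 (by linarith),
    pow_eq_zero_iff two_ne_zero |>.1 (by linarith), pow_eq_zero_iff two_ne_zero |>.1 (by linarith)⟩

set_option maxHeartbeats 800000 in
theorem nei (uni : UniStmt) : NeiStmt := by
  intro p hp hp2 x0 y z t hx ⟨n0, hn0⟩
  have hP : Prime (p : ℤ) := Nat.prime_iff_prime_int.1 hp
  have hodd : (p : ℤ) % 2 = 1 := by have := hp.eq_two_or_odd.resolve_left hp2; omega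
  have hp1 : (2 : ℤ) ≤ p := by exact_mod_cast hp.two_le
  have h2 : ¬ (p : ℤ) ∣ 2 := fun h => by have := Int.le_of_dvd two_pos h; omega
  have hc2 : IsCoprime (2 * x0) (p : ℤ) :=
    ((hP.irreducible.coprime_iff_not_dvd).2 fun h => (hP.dvd_or_dvd h).elim h2 hx).symm
  obtain ⟨α, β, hab⟩ := hc2
  obtain ⟨u0, u1, u2, u3, u4, ho, hs⟩ := core uni p (x0 - p * (n0 * α)) y z t (2 * α)
    (-β - 2 * α * n0 * α) (n0 * β + (n0 * α) ^ 2) hP.ne_zero hodd (by linear_combination hab)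
    (by linear_combination hn0 - p * n0 * hab)
  obtain ⟨e1, e2, e3, e4⟩ := ev _ _ _ _ _ _ hodd ho hs
  set w := u0 * (2 * α + p * (-β - 2 * α * n0 * α) * (x0 - p * (n0 * α))) - p * (y * u1 + z * u2 + t * u3) +
    p ^ 2 * u4 with hw
  obtain ⟨a, ha⟩ : ∃ a, (p : ℤ) + w = 2 * a := ⟨(p + w) / 2, by omega⟩
  obtain ⟨b, hb⟩ : ∃ b, u0 = 2 * b := ⟨u0 / 2, by omega⟩
  obtain ⟨c, hc⟩ := Int.dvd_of_emod_eq_zero e2
  obtain ⟨d, hd⟩ := Int.dvd_of_emod_eq_zero e3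
  obtain ⟨e, he⟩ := Int.dvd_of_emod_eq_zero e4
  obtain ⟨r, hr⟩ : ∃ r, w = u0 * (2 * α) + p * r :=
    ⟨u0 * ((-β - 2 * α * n0 * α) * (x0 - p * (n0 * α))) - (y * u1 + z * u2 + t * u3) + p * u4, by rw [hw]; ring⟩
  have dv : ∀ s : ℤ, (p : ℤ) ∣ 2 * s → (p : ℤ) ∣ s := fun s h => (hP.dvd_or_dvd h).resolve_left h2
  refine ⟨a, b, c, d, e, ?_, dv _ ⟨u0 * β - x0 - r * x0, ?_⟩, dv _ ⟨u1 - y - r * y, ?_⟩,
    dv _ ⟨u2 - z - r * z, ?_⟩, dv _ ⟨u3 - t - r * t, ?_⟩, ?_⟩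
  · rintro ⟨m, hm⟩
    have hwp : w = p * (2 * m - 1) := by linear_combination ha + 2 * hm
    have hm1 : 1 ≤ (2 * m - 1) ^ 2 := by
      have : 2 * m - 1 ≠ 0 := by omega
      have := sq_pos_of_ne_zero this
      omega
    have hpp : (p : ℤ) ^ 2 ≤ w ^ 2 := by
      rw [hwp, mul_pow]; exact le_mul_of_one_le_right (sq_nonneg _) hm1
    obtain ⟨z0, q1, q2, q3⟩ := zer _ _ _ _ _ _ hs hpp
    rw [z0] at hs hw q1 q2 q3
    simp only [zero_mul, zero_add] at hs hw q1 q2 q3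
    have hw2 : w = p ^ 2 * u4 := by linear_combination hw - y * q1 - z * q2 - t * q3
    rw [q1, q2, q3, hw2] at hs
    have h7 : (p : ℤ) ^ 2 * ((p * u4) * (p * u4) - 1) = 0 := by linear_combination hs
    have h8 : (p * u4) * (p * u4) = (1 : ℤ) := by
      have := (mul_eq_zero.1 h7).resolve_left (pow_ne_zero _ hP.ne_zero); linarith
    exact hP.not_unit (isUnit_of_mul_isUnit_left (IsUnit.of_mul_eq_one _ h8))
  · linear_combination -hb + x0 * ha - x0 * hr - u0 * hab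
  · linear_combination -hc + y * ha - y * hr
  · linear_combination -hd + z * ha - z * hr
  · linear_combination -he + t * ha - t * hr
  · rw [hc, hd, he, hb] at hs
    have : w = 2 * a - p := by linarith
    rw [this] at hs
    linarith [hs, show (2 * b) ^ 2 + (2 * c) ^ 2 + (2 * d) ^ 2 + (2 * e) ^ 2 + (2 * a - (p : ℤ)) ^ 2 =
      4 * (a ^ 2 + b ^ 2 + c ^ 2 + d ^ 2 + e ^ 2) - 4 * (p * a) + p ^ 2 by ring]

end Cfsg.Agent.H4.K5Nei
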