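import Cfsg.Agent.H40.L3K0

/-! Project L33: a computational model of `SD₁₆ = ⟨y, a⟩` and of its extensions by a central
involution or by the automorphism `y ↦ y⁵, a ↦ a`. -/

set_option autoImplicit false
set_option linter.unusedSectionVars false

noncomputable section

namespace Cfsg.Agent.H4.L3

open Subgroup Cfsg.Agent.H40.L3

/-- `d`: `D = SD₁₆`; `c`: `D × ⟨g⟩`; `g`: `D⟨g⟩` with `y ^ g = y⁵`; `f`: `D⟨g⟩ × ⟨t⟩` -/
inductive K | d | c | g | f

def K.sz (k : K) : Nat := @K.rec (fun _ => Nat) 16 32 32 64 k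
def K.fl (k : K) : Nat := @K.rec (fun _ => Nat) 0 0 1 1 k

theorem K.pos (k : K) : 0 < k.sz := by cases k <;> decide

/-- normal form `y ^ i * a ^ a * g ^ g * t ^ t` -/
@[ext] structure Y (k : K) where
  v : Nat
  h : v < k.sz

namespace Y
variable {k : K}

def ex (k : K) (m : Nat) : Nat :=
  Nat.mul (Nat.add 1 (Nat.mul 2 (Nat.land (Nat.shiftRight m 3) 1)))
    (Nat.add 1 (Nat.mul 4 (Nat.land (Nat.shiftRight m 4) k.fl)))
def mulN (k : K) (m n : Nat) : Nat := fn m fun m => fn n fun n =>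
  Nat.add (Nat.land (Nat.add m (Nat.mul (ex k m) n)) 7) (Nat.land (Nat.xor m n) 56)
def invN (k : K) (m : Nat) : Nat := fn m fun m =>
  Nat.add (Nat.land (Nat.mul 7 (Nat.mul (ex k m) m)) 7) (Nat.land m 56)

def of (k : K) (n : Nat) : Y k := ⟨Nat.mod n k.sz, Nat.mod_lt _ k.pos⟩

theorem of_v (m : Y k) : of k m.v = m := Y.ext (Nat.mod_eq_of_lt m.h)

instance : Mul (Y k) := ⟨fun m n => of k (mulN k m.v n.v)⟩
instance : One (Y k) := ⟨⟨0, k.pos⟩⟩
instance : Inv (Y k) := ⟨fun m => of k (invN k m.v)⟩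

instance : DecidableEq (Y k) := fun a b =>
  decidable_of_iff (Nat.beq a.v b.v = true) ⟨fun h => Y.ext (Nat.eq_of_beq_eq_true h),
    fun h => h ▸ Nat.beq_refl _⟩

instance (priority := high) decAll (p : Y k → Prop) [DecidablePred p] : Decidable (∀ m, p m) :=
  decidable_of_iff (allN (fun n => decide (p (of k n))) k.sz = true) (by
    rw [allN_iff]
    refine ⟨fun h m => ?_, fun h n _ => decide_eq_true (h _)⟩
    have := of_decide_eq_true (h m.v m.h)
    rwa [of_v] at this)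

instance (priority := high) decEx (p : Y k → Prop) [DecidablePred p] : Decidable (∃ m, p m) :=
  decidable_of_iff (¬ ∀ m, ¬ p m) (by simp)

def Y1 : Y k := of k 1
def W : Y k := of k 2
def Z : Y k := of k 4
def A : Y k := of k 8
def Q : Y k := of k 9
def G : Y k := of k 16
def T : Y k := of k 32
def i (m : Y k) : Nat := Nat.land m.v 7
def a (m : Y k) : Bool := bit m.v 8
def g (m : Y k) : Bool := bit m.v 16
def t (m : Y k) : Bool := bit m.v 32

theorem assoc_gen (k : K) (u : Y k) (hu : u ∈ ([Y1, W, Z, A, G, T] : List (Y k))) :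
    ∀ x y : Y k, x * y * u = x * (y * u) := by
  simp only [List.mem_cons, List.not_mem_nil, or_false] at hu
  cases k <;> rcases hu with rfl | rfl | rfl | rfl | rfl | rfl <;> decide +kernel

def rb (x u : Y k) (c : Bool) : Y k := bif c then x * u else x

theorem nf0 (k : K) : ∀ m : Y k, m = rb (rb (rb (rb (rb (rb 1 Y1 (bit m.v 1)) W (bit m.v 2)) Z
    (bit m.v 4)) A m.a) G m.g) T m.t := by
  cases k <;> decide +kernel

theorem mul_one' (k : K) : ∀ m : Y k, m * 1 = m := by cases k <;> decide +kernel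
theorem one_mul' (k : K) : ∀ m : Y k, 1 * m = m := by cases k <;> decide +kernel
theorem inv_mul' (k : K) : ∀ m : Y k, m⁻¹ * m = 1 := by cases k <;> decide +kernel

theorem assoc (x y u : Y k) : x * y * u = x * (y * u) := by
  have key : ∀ (v w : Y k) (c : Bool), w ∈ ([Y1, W, Z, A, G, T] : List (Y k)) →
      (∀ x y, x * y * v = x * (y * v)) → ∀ x y, x * y * rb v w c = x * (y * rb v w c) := by
    intro v w c hw h x y
    cases c
    · exact h x y
    · show x * y * (v * w) = x * (y * (v * w))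
      rw [← assoc_gen k w hw, h, assoc_gen k w hw, assoc_gen k w hw]
  rw [nf0 k u]
  revert x y
  repeat refine key _ _ _ (by simp) ?_
  intro x y
  rw [mul_one', mul_one']

instance : Group (Y k) := Group.ofLeftAxioms assoc (one_mul' k) (inv_mul' k)

instance : Finite (Y k) :=
  Finite.of_injective (fun m : Y k => (⟨m.v, m.h⟩ : Fin k.sz)) fun _ _ h =>
    Y.ext (congrArg Fin.val h)

/-- a subgroup given by a Boolean predicate -/
def sub (p : Y k → Bool) (h : p 1 = true ∧ ∀ m, p m = true → ∀ n, p n = true → p (m * n⁻¹) = true) :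
    Subgroup (Y k) where
  carrier := {m | p m = true}
  one_mem' := h.1
  inv_mem' := fun {m} hm => by simpa using h.2 1 h.1 m hm
  mul_mem' := fun {m n} hm hn => by
    have := h.2 m hm n⁻¹ (by simpa using h.2 1 h.1 n hn)
    rwa [inv_inv] at this

instance (p : Y k → Bool) (h) (m : Y k) : Decidable (m ∈ sub p h) :=
  inferInstanceAs (Decidable (p m = true))

theorem mem_sub {p : Y k → Bool} {h} {m : Y k} : m ∈ sub p h ↔ p m = true := Iff.rfl

theorem card_pred (p : Y k → Bool) :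
    Nat.card {m // p m = true} = cntN (fun n => p (of k n)) k.sz := by
  rw [cntN_eq, ← Nat.card_eq_finsetCard]
  refine Nat.card_congr ⟨fun m => ⟨m.1.v, by simp [m.1.h, of_v, m.2]⟩,
    fun n => ⟨of k n.1, (Finset.mem_filter.1 n.2).2⟩, fun m => Subtype.ext (of_v _), fun n => ?_⟩
  exact Subtype.ext (Nat.mod_eq_of_lt (Finset.mem_range.1 (Finset.mem_filter.1 n.2).1))

theorem card_sub (p : Y k → Bool) (h) :
    Nat.card (sub p h) = cntN (fun n => p (of k n)) k.sz := card_pred p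

theorem card_all : Nat.card (Y k) = k.sz := by
  rw [← Nat.card_fin k.sz]
  exact Nat.card_congr ⟨fun m => ⟨m.v, m.h⟩, fun n => ⟨n.1, n.2⟩, fun _ => rfl, fun _ => rfl⟩

theorem two : IsPGroup 2 (Y k) := by
  have : ∀ m : Y k, m ^ 2 ^ 3 = 1 := by cases k <;> decide +kernel
  exact fun m => ⟨3, this m⟩

/-- `D = ⟨y, a⟩` -/
abbrev sD : Subgroup (Y k) := sub (fun m => !m.g && !m.t) (by cases k <;> decide +kernel)
/-- `D⟨g⟩` -/
abbrev sG : Subgroup (Y k) := sub (fun m => !m.t) (by cases k <;> decide +kernel)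
/-- `D⟨t⟩` -/
abbrev sT : Subgroup (Y k) := sub (fun m => !m.g) (by cases k <;> decide +kernel)
/-- `V = ⟨z, a⟩` -/
abbrev sV : Subgroup (Y k) :=
  sub (fun m => !m.g && !m.t && !bit m.v 1 && !bit m.v 2) (by cases k <;> decide +kernel)
/-- `Q = ⟨w, q⟩` -/
abbrev sQ : Subgroup (Y k) :=
  sub (fun m => !m.g && !m.t && (bit m.v 1 == m.a)) (by cases k <;> decide +kernel)

theorem coords (k : K) : ∀ m n : Y k,
    (m * n).i = (m.i + ((bif m.a then 3 else 1) * (bif m.g then 1 + 4 * k.fl else 1)) * n.i) % 8 ∧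
    (m * n).a = (m.a ^^ n.a) ∧ (m * n).g = (m.g ^^ n.g) ∧ (m * n).t = (m.t ^^ n.t) := by
  cases k <;> decide +kernel

theorem nf (k : K) : ∀ m : Y k, m = Y1 ^ m.i * bp A m.a * bp G m.g * bp T m.t := by
  cases k <;> decide +kernel

end Y

variable {X : Type*} [Group X]

/-- the defining relations -/
structure Rel (k : K) (y a g t : X) : Prop where
  y8 : y ^ 8 = 1
  aa : a * a = 1
  ay : a * y * a = y ^ 3
  gg : g * g = 1
  gy : g * y * g⁻¹ = y ^ (1 + 4 * k.fl)
  ga : g * a = a * g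
  tt : t * t = 1
  ty : t * y = y * t
  ta : t * a = a * t
  tg : t * g = g * t

theorem bp_mul {x : X} (h : x * x = 1) (b c : Bool) : bp x b * bp x c = bp x (b ^^ c) := by
  cases b <;> cases c <;> simp [bp, h]

theorem bp_comm {x y : X} (h : x * y = y * x) (b : Bool) : bp x b * y = y * bp x b := by
  cases b <;> simp [bp, h]

theorem bp_comm2 {x y : X} (h : x * y = y * x) (b c : Bool) : bp x b * bp y c = bp y c * bp x b := by
  cases b <;> cases c <;> simp [bp, h]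

theorem bp_pow {x y : X} {e : ℕ} (h : x * y * x⁻¹ = y ^ e) (b : Bool) (n : ℕ) :
    bp x b * y ^ n = y ^ ((bif b then e else 1) * n) * bp x b := by
  cases b
  · simp [bp]
  · show x * y ^ n = y ^ (e * n) * x
    rw [pow_mul, ← h, conj_pow]; group

theorem exists_hom0 {k : K} {y a g t : X} (h : Rel k y a g t) :
    ∃ ι : Y k →* X, ∀ m, ι m = y ^ m.i * bp a m.a * bp g m.g * bp t m.t := by
  refine ⟨MonoidHom.mk' (fun m => y ^ m.i * bp a m.a * bp g m.g * bp t m.t) fun m n => ?_,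
    fun _ => rfl⟩
  obtain ⟨c1, c2, c3, c4⟩ := Y.coords k m n
  have ai : a⁻¹ = a := inv_eq_of_mul_eq_one_right h.aa
  have ay : a * y * a⁻¹ = y ^ 3 := by rw [ai, h.ay]
  have ty : t * y * t⁻¹ = y ^ 1 := by rw [h.ty]; group
  have e1 : ∀ (b : Bool) (j : ℕ), bp t b * y ^ j = y ^ j * bp t b := fun b j => by
    rw [bp_pow ty]; cases b <;> simp
  simp only [c1, c2, c3, c4]
  rw [← pow_eq_pow_mod _ h.y8, pow_add, ← bp_mul h.aa, ← bp_mul h.gg, ← bp_mul h.tt, mul_assoc (bif m.a then 3 else 1)]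
  generalize m.i = i1; generalize n.i = i2
  calc y ^ i1 * y ^ ((bif m.a then 3 else 1) * ((bif m.g then 1 + 4 * k.fl else 1) * i2)) *
        (bp a m.a * bp a n.a) * (bp g m.g * bp g n.g) * (bp t m.t * bp t n.t)
      = y ^ i1 * (y ^ ((bif m.a then 3 else 1) * ((bif m.g then 1 + 4 * k.fl else 1) * i2)) *
        bp a m.a) * (bp a n.a * bp g m.g) * (bp g n.g * bp t m.t) * bp t n.t := by group
    _ = y ^ i1 * bp a m.a * (y ^ ((bif m.g then 1 + 4 * k.fl else 1) * i2) * bp g m.g) *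
        (bp a n.a * bp t m.t) * bp g n.g * bp t n.t := by
      rw [← bp_pow ay, ← bp_comm2 h.ga, ← bp_comm2 h.tg]; group
    _ = y ^ i1 * bp a m.a * bp g m.g * (y ^ i2 * bp t m.t) * bp a n.a * bp g n.g * bp t n.t := by
      rw [← bp_pow h.gy, ← bp_comm2 h.ta]; group
    _ = _ := by rw [← e1]; group

theorem gen_coords (k : K) :
    ((Y.Y1 : Y k).i = 1 ∧ (Y.Y1 : Y k).a = false ∧ (Y.Y1 : Y k).g = false ∧ (Y.Y1 : Y k).t = false) ∧
    ((Y.A : Y k).i = 0 ∧ (Y.A : Y k).a = true ∧ (Y.A : Y k).g = false ∧ (Y.A : Y k).t = false) ∧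
    (k ≠ .d → (Y.G : Y k).i = 0 ∧ (Y.G : Y k).a = false ∧ (Y.G : Y k).g = true ∧
      (Y.G : Y k).t = false) ∧
    (k = .f → (Y.T : Y k).i = 0 ∧ (Y.T : Y k).a = false ∧ (Y.T : Y k).g = false ∧
      (Y.T : Y k).t = true) := by
  cases k <;> simp only [ne_eq, not_true_eq_false, reduceCtorEq, not_false_eq_true, false_imp_iff,
    true_imp_iff, and_true] <;> decide +kernel

theorem exists_hom {k : K} {y a g t : X} (h : Rel k y a g t) :
    ∃ ι : Y k →* X, ι .Y1 = y ∧ ι .A = a ∧ (k ≠ .d → ι .G = g) ∧ (k = .f → ι .T = t) := by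
  obtain ⟨ι, e⟩ := exists_hom0 h
  obtain ⟨⟨a1, a2, a3, a4⟩, ⟨b1, b2, b3, b4⟩, c, d⟩ := gen_coords k
  refine ⟨ι, by rw [e, a1, a2, a3, a4]; simp [bp], by rw [e, b1, b2, b3, b4]; simp [bp],
    fun hk => ?_, fun hk => ?_⟩
  · obtain ⟨c1, c2, c3, c4⟩ := c hk
    rw [e, c1, c2, c3, c4]; simp [bp]
  · obtain ⟨c1, c2, c3, c4⟩ := d hk
    rw [e, c1, c2, c3, c4]; simp [bp]

namespace Y
variable {k : K}

theorem W_eq : (W : Y k) = Y1 ^ 2 := by cases k <;> decide +kernel
theorem Z_eq : (Z : Y k) = Y1 ^ 4 := by cases k <;> decide +kernel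
theorem Q_eq : (Q : Y k) = Y1 * A := by cases k <;> decide +kernel

theorem closure_D : closure ({Y1, A} : Set (Y k)) = sD := by
  refine le_antisymm ((closure_le _).2 ?_) fun m hm => ?_
  · rintro _ (rfl | rfl) <;> (show _ ∈ sD; cases k <;> decide +kernel)
  · have : ∀ m : Y k, m ∈ sD → m = Y1 ^ m.i * bp A m.a := by cases k <;> decide +kernel
    rw [this m hm]
    refine mul_mem (pow_mem (subset_closure (by simp)) _) ?_
    cases m.a
    · exact one_mem _
    · exact subset_closure (by simp [bp])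

theorem map_D (ι : Y k →* X) : sD.map ι = closure {ι Y1, ι A} := by
  rw [← closure_D, MonoidHom.map_closure, Set.image_pair]

theorem sD_d : (sD : Subgroup (Y .d)) = ⊤ := by
  have : ∀ m : Y .d, m ∈ sD := by decide +kernel
  exact eq_top_iff.2 fun m _ => this m

theorem range_d (ι : Y .d →* X) : ι.range = closure {ι Y1, ι A} := by
  rw [← map_D, sD_d, MonoidHom.range_eq_map]

theorem ker_aux (k : K) : ∀ m : Y k, (∀ n, m * n = n * m) ∨ ∃ u ∈ ([Y1, A, G] : List (Y k)),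
    m * u * m⁻¹ * u⁻¹ = Z ∨ (m * u * m⁻¹ * u⁻¹) ^ 2 = Z := by
  cases k <;> decide +kernel

/-- the kernel is central -/
theorem ker_center (ι : Y k →* X) (hz : ι Z ≠ 1) {m : Y k} (hm : ι m = 1) (n : Y k) :
    m * n = n * m := by
  rcases ker_aux k m with h | ⟨u, -, h | h⟩
  · exact h n
  · exact absurd (by rw [← h]; simp [hm]) hz
  · exact absurd (by rw [← h]; simp [hm]) hz

theorem inj_d (ι : Y .d →* X) (hz : ι Z ≠ 1) : Function.Injective ι := by
  rw [injective_iff_map_eq_one]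
  intro m hm
  have : ∀ m : Y .d, (∀ n, m * n = n * m) → m = 1 ∨ m = Z := by decide +kernel
  rcases this m (ker_center ι hz hm) with h | h
  · exact h
  · exact absurd (h ▸ hm) hz

theorem inj_g (ι : Y .g →* X) (hz : ι Z ≠ 1) : Function.Injective ι := by
  rw [injective_iff_map_eq_one]
  intro m hm
  have : ∀ m : Y .g, (∀ n, m * n = n * m) → m = 1 ∨ m = Z := by decide +kernel
  rcases this m (ker_center ι hz hm) with h | h
  · exact h
  · exact absurd (h ▸ hm) hz

theorem inj_c (ι : Y .c →* X) (hz : ι Z ≠ 1) (h1 : ι G ≠ 1) (h2 : ι G ≠ ι Z) :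
    Function.Injective ι := by
  rw [injective_iff_map_eq_one]
  intro m hm
  have : ∀ m : Y .c, (∀ n, m * n = n * m) → m = 1 ∨ m = Z ∨ m = G ∨ m = G * Z⁻¹ := by
    decide +kernel
  rcases this m (ker_center ι hz hm) with h | h | h | h
  · exact h
  · exact absurd (h ▸ hm) hz
  · exact absurd (h ▸ hm) h1
  · exact absurd (by rw [h, map_mul, map_inv, mul_inv_eq_one] at hm; exact hm) h2

theorem inj_f (ι : Y .f →* X) (hz : ι Z ≠ 1) (h1 : ι T ≠ 1) (h2 : ι T ≠ ι Z) :
    Function.Injective ι := by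
  rw [injective_iff_map_eq_one]
  intro m hm
  have : ∀ m : Y .f, (∀ n, m * n = n * m) → m = 1 ∨ m = Z ∨ m = T ∨ m = T * Z⁻¹ := by
    decide +kernel
  rcases this m (ker_center ι hz hm) with h | h | h | h
  · exact h
  · exact absurd (h ▸ hm) hz
  · exact absurd (h ▸ hm) h1
  · exact absurd (by rw [h, map_mul, map_inv, mul_inv_eq_one] at hm; exact hm) h2

end Y

theorem z_ne {y : X} (h : orderOf y = 8) : y ^ 4 ≠ 1 := fun e => by
  have := orderOf_dvd_of_pow_eq_one e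
  rw [h] at this; omega

/-- the model of `⟨y, a⟩` -/
theorem exists_d {y a : X} (h8 : orderOf y = 8) (aa : a * a = 1) (ay : a * y * a = y ^ 3) :
    ∃ ι : Y .d →* X, Function.Injective ι ∧ ι .Y1 = y ∧ ι .A = a := by
  obtain ⟨ι, h1, h2, -⟩ := exists_hom (k := .d) (y := y) (a := a) (g := 1) (t := 1)
    ⟨h8 ▸ pow_orderOf_eq_one y, aa, ay, by simp, by simp [K.fl], by simp, by simp, by simp, by simp,
      by simp⟩
  exact ⟨ι, Y.inj_d ι (by rw [Y.Z_eq, map_pow, h1]; exact z_ne h8), h1, h2⟩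

/-- the model of `⟨y, a⟩ × ⟨u⟩` -/
theorem exists_c {y a u : X} (h8 : orderOf y = 8) (aa : a * a = 1) (ay : a * y * a = y ^ 3)
    (uu : u * u = 1) (uy : u * y = y * u) (ua : u * a = a * u) (u1 : u ≠ 1) (uz : u ≠ y ^ 4) :
    ∃ ι : Y .c →* X, Function.Injective ι ∧ ι .Y1 = y ∧ ι .A = a ∧ ι .G = u := by
  obtain ⟨ι, h1, h2, h3, -⟩ := exists_hom (k := .c) (y := y) (a := a) (g := u) (t := 1)
    ⟨h8 ▸ pow_orderOf_eq_one y, aa, ay, uu, by simp [K.fl, uy], ua, by simp, by simp, by simp,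
      by simp⟩
  have h3 := h3 (by simp)
  have hz : ι .Z = y ^ 4 := by rw [Y.Z_eq, map_pow, h1]
  exact ⟨ι, Y.inj_c ι (hz ▸ z_ne h8) (h3 ▸ u1) (by rw [h3, hz]; exact uz), h1, h2, h3⟩

/-- the model of `⟨y, a, g⟩` -/
theorem exists_g {y a g : X} (h8 : orderOf y = 8) (aa : a * a = 1) (ay : a * y * a = y ^ 3)
    (gg : g * g = 1) (gy : g * y * g⁻¹ = y ^ 5) (ga : g * a = a * g) :
    ∃ ι : Y .g →* X, Function.Injective ι ∧ ι .Y1 = y ∧ ι .A = a ∧ ι .G = g := by
  obtain ⟨ι, h1, h2, h3, -⟩ := exists_hom (k := .g) (y := y) (a := a) (g := g) (t := 1)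
    ⟨h8 ▸ pow_orderOf_eq_one y, aa, ay, gg, gy, ga, by simp, by simp, by simp, by simp⟩
  exact ⟨ι, Y.inj_g ι (by rw [Y.Z_eq, map_pow, h1]; exact z_ne h8), h1, h2, h3 (by simp)⟩

/-- the model of `⟨y, a, g⟩ × ⟨t⟩` -/
theorem exists_f {y a g t : X} (h8 : orderOf y = 8) (aa : a * a = 1) (ay : a * y * a = y ^ 3)
    (gg : g * g = 1) (gy : g * y * g⁻¹ = y ^ 5) (ga : g * a = a * g) (tt : t * t = 1)
    (ty : t * y = y * t) (ta : t * a = a * t) (tg : t * g = g * t) (t1 : t ≠ 1) (tz : t ≠ y ^ 4) :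
    ∃ ι : Y .f →* X, Function.Injective ι ∧ ι .Y1 = y ∧ ι .A = a ∧ ι .G = g ∧ ι .T = t := by
  obtain ⟨ι, h1, h2, h3, h4⟩ := exists_hom (k := .f) (y := y) (a := a) (g := g) (t := t)
    ⟨h8 ▸ pow_orderOf_eq_one y, aa, ay, gg, gy, ga, tt, ty, ta, tg⟩
  have h4 := h4 rfl
  have hz : ι .Z = y ^ 4 := by rw [Y.Z_eq, map_pow, h1]
  exact ⟨ι, Y.inj_f ι (hz ▸ z_ne h8) (h4 ▸ t1) (by rw [h4, hz]; exact tz), h1, h2, h3 (by simp), h4⟩

end Cfsg.Agent.H4.L3
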