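import Cfsg.Agent.H53.MWDefs2

/-!
Fixed spaces of the linear elements of a primitive solvable linear group.
-/

set_option autoImplicit false

namespace Cfsg.Agent.H4.Mw

open MulAction Module Cfsg.Agent.H12.RO Cfsg.Agent.H53.MW
open scoped commutatorElement

variable {G V K W : Type*} [Group G] [AddCommGroup V] [DistribMulAction G V] [Field K]
  [Module K V] [AddCommGroup W] [DistribMulAction G W] {σ : G →* RingAut K}
  {U To E M : Subgroup G} {π : G → W} {b : W → W → Kˣ} {e : ℕ}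

/-- eigenspace of a linear element -/
noncomputable def eg (h : Str G V K σ U To E) (g : G) (hg : σ g = 1) (μ : K) : Submodule K V :=
  (h.toEnd g hg).eigenspace μ

theorem mem_eg {h : Str G V K σ U To E} {g : G} {hg : σ g = 1} {μ : K} {v : V} :
    v ∈ eg h g hg μ ↔ g • v = μ • v := Module.End.mem_eigenspace_iff

theorem rk_mv [Module.Finite K V] (h : Str G V K σ U To E) {s : G} (hs : σ s = 1)
    {A B : Submodule K V} (hAB : ∀ v ∈ A, s • v ∈ B) : finrank K A ≤ finrank K B := by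
  refine LinearMap.finrank_le_finrank_of_injective
    (f := (h.toEnd s hs).restrict (p := A) (q := B) hAB) fun x y hxy => ?_
  have : s • (x : V) = s • (y : V) := congrArg Subtype.val hxy
  exact Subtype.ext (smul_left_cancel s this)

theorem rk_two [Module.Finite K V] {A B C : Submodule K V} (h : A ⊓ B ≤ C) :
    finrank K A + finrank K B ≤ finrank K V + finrank K C := by
  rw [← Submodule.finrank_sup_add_finrank_inf_eq]
  exact add_le_add (Submodule.finrank_le _) (Submodule.finrank_mono h)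

theorem eg_disj (h : Str G V K σ U To E) (g : G) (hg : σ g = 1) {μ ν : K} (hne : μ ≠ ν) :
    eg h g hg μ ⊓ eg h g hg ν = ⊥ := by
  rw [eq_bot_iff]
  rintro v ⟨h1, h2⟩
  have h3 : (μ - ν) • v = 0 := by rw [sub_smul, ← mem_eg.1 h1, ← mem_eg.1 h2, sub_self]
  exact (smul_eq_zero.1 h3).resolve_left (sub_ne_zero.2 hne)

theorem eg_three [Module.Finite K V] (h : Str G V K σ U To E) (g : G) (hg : σ g = 1) {a c d : K}
    (h1 : a ≠ c) (h2 : a ≠ d) (h3 : c ≠ d) :
    finrank K (eg h g hg a) + finrank K (eg h g hg c) + finrank K (eg h g hg d) ≤ finrank K V := by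
  have i1 := Submodule.finrank_sup_add_finrank_inf_eq (eg h g hg a) (eg h g hg c)
  rw [eg_disj h g hg h1, finrank_bot, add_zero] at i1
  have i2 : (eg h g hg a ⊔ eg h g hg c) ⊓ eg h g hg d ≤ ⊥ := by
    have := (h.toEnd g hg).eigenspaces_iSupIndep d
    rw [inf_comm, le_bot_iff, ← disjoint_iff]
    refine this.mono_right (sup_le ?_ ?_)
    · exact le_iSup₂_of_le (f := fun j (_ : j ≠ d) => (h.toEnd g hg).eigenspace j) a h2 le_rfl
    · exact le_iSup₂_of_le (f := fun j (_ : j ≠ d) => (h.toEnd g hg).eigenspace j) c h3 le_rfl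
  have i3 := rk_two i2
  rw [finrank_bot] at i3
  omega

theorem ncard_fix [Finite K] [Module.Finite K V] (h : Str G V K σ U To E) (g : G) (hg : σ g = 1) :
    {v : V | g • v = v}.ncard = Nat.card K ^ finrank K (eg h g hg 1) := by
  rw [← Module.natCard_eq_pow_finrank, ← Nat.card_coe_set_eq]
  refine Nat.card_congr (Equiv.subtypeEquivRight fun v => ?_)
  rw [mem_eg, one_smul]; rfl

theorem U_le_M (h : Pk G V K W σ U To E M π b e) : U ≤ M := h.M_eq ▸ le_sup_left

theorem comm_mem_U (h : Pk G V K W σ U To E M π b e) {s t : G} (hs : s ∈ M) (ht : t ∈ M) :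
    ⁅s, t⁆ ∈ U := by
  have h1 := M.mul_mem hs ht
  have h2 := M.mul_mem h1 (M.inv_mem hs)
  rw [commutatorElement_def, ← h.sec.ker _ (M.mul_mem h2 (M.inv_mem ht)), h.sec.mul _ h2 _ (M.inv_mem ht),
    h.sec.mul _ h1 _ (M.inv_mem hs), h.sec.mul _ hs _ ht, h.sec.inv hs, h.sec.inv ht]
  abel

/-- a non-scalar element of `M` has a partner moving its eigenspaces -/
theorem exists_partner [Nontrivial V] (h : Pk G V K W σ U To E M π b e) {t : G} (ht : t ∈ M)
    (hU : t ∉ U) : ∃ s ∈ M, ∃ ζ : K, ζ ≠ 1 ∧ ζ ≠ 0 ∧ (∀ v : V, ⁅t, s⁆ • v = ζ • v) ∧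
      ∀ μ : K, ∀ v ∈ eg h.toStr t (h.σM t ht) μ, s • v ∈ eg h.toStr t (h.σM t ht) (ζ * μ) := by
  have h0 : π t ≠ 0 := fun e0 => hU ((h.sec.ker t ht).1 e0)
  obtain ⟨y, hy⟩ := not_forall.1 (mt (h.b_nd _) h0)
  obtain ⟨s, hs, rfl⟩ := h.sec.surj y
  refine ⟨s, hs, _, fun e1 => hy (Units.ext e1), Units.ne_zero _, h.hb t ht s hs, fun μ v hv => ?_⟩
  rw [mem_eg] at hv ⊢
  have : t • s • v = ⁅t, s⁆ • s • t • v := by simp [commutatorElement_def, mul_smul]
  rw [this, h.hb t ht s hs, hv, h.lin (h.σM s hs), mul_smul]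

theorem rk_U [Module.Finite K V] (h : Str G V K σ U To E) {u : G} (hu : u ∈ U) (h1 : u ≠ 1)
    (hg : σ u = 1) : finrank K (eg h u hg 1) = 0 := by
  rw [Submodule.finrank_eq_zero, eq_bot_iff]
  intro v hv
  rw [mem_eg, one_smul] at hv
  by_contra h0
  exact h1 (h.U_fix hu h0 hv)

variable [Module.Finite K V] [Nontrivial V]

theorem rk_half (h : Pk G V K W σ U To E M π b e) {t : G} (ht : t ∈ M) (h1 : t ≠ 1) :
    2 * finrank K (eg h.toStr t (h.σM t ht) 1) ≤ finrank K V := by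
  by_cases hU : t ∈ U
  · rw [rk_U _ hU h1]; omega
  obtain ⟨s, hs, ζ, z1, -, -, hm⟩ := exists_partner h ht hU
  have i1 := rk_mv h.toStr (h.σM s hs) (hm 1)
  have i2 := rk_two (eg_disj h.toStr t (h.σM t ht) (μ := 1) (ν := ζ * 1) (by simpa using z1.symm)).le
  rw [finrank_bot] at i2
  omega

theorem rk_third [Finite G] (hodd : Odd (Nat.card G)) (h : Pk G V K W σ U To E M π b e) {t : G}
    (ht : t ∈ M) (h1 : t ≠ 1) : 3 * finrank K (eg h.toStr t (h.σM t ht) 1) ≤ finrank K V := by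
  by_cases hU : t ∈ U
  · rw [rk_U _ hU h1]; omega
  obtain ⟨s, hs, ζ, z1, z0, hz, hm⟩ := exists_partner h ht hU
  have i1 := rk_mv h.toStr (h.σM s hs) (hm 1)
  have i2 := rk_mv h.toStr (h.σM s hs) (hm (ζ * 1))
  have z2 : ζ * ζ ≠ 1 := fun e2 => by
    obtain ⟨v, hv⟩ := exists_ne (0 : V)
    have : ⁅t, s⁆ • v = v := smul_eq_of_pow (n := 2) (Nat.coprime_two_left.2 hodd) (by
      rw [sq, mul_smul, hz, hz, ← mul_smul, e2, one_smul])
    rw [hz] at this
    exact z1 (smul_left_injective K hv (this.trans (one_smul K v).symm))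
  have i3 := eg_three h.toStr t (h.σM t ht) (a := 1) (c := ζ * 1) (d := ζ * (ζ * 1))
    (by simpa using z1.symm) (by simpa using z2.symm) (by simpa [z0] using z1)
  omega

/-- the fixed space of a linear element outside `M` -/
theorem rk_out (h : Pk G V K W σ U To E M π b e) {g : G} (hg : σ g = 1) (hM : g ∉ M) :
    ∃ (t : G) (ht : t ∈ M), t ≠ 1 ∧ 2 * finrank K (eg h.toStr g hg 1) ≤
      finrank K V + finrank K (eg h.toStr t (h.σM t ht) 1) := by
  obtain ⟨w, hw⟩ := not_forall.1 (mt (h.kerW g hg) hM)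
  obtain ⟨t, ht, rfl⟩ := h.sec.surj w
  have h1 := h.Mn.conj_mem t ht g
  refine ⟨g * t * g⁻¹ * t⁻¹, M.mul_mem h1 (M.inv_mem ht), fun e1 => hw ?_, ?_⟩
  · rw [← h.sec.conj g t ht, mul_inv_eq_one.1 e1]
  have hti : σ t⁻¹ = 1 := h.σM _ (M.inv_mem ht)
  have i1 := rk_mv h.toStr (h.σM t ht) (A := eg h.toStr g hg 1)
    (B := (eg h.toStr g hg 1).comap (h.toStr.toEnd t⁻¹ hti)) fun v hv => by
      change t⁻¹ • t • v ∈ eg h.toStr g hg 1
      rwa [inv_smul_smul]
  have i2 := rk_two (A := eg h.toStr g hg 1)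
    (B := (eg h.toStr g hg 1).comap (h.toStr.toEnd t⁻¹ hti))
    (C := eg h.toStr _ (h.σM _ (M.mul_mem h1 (M.inv_mem ht))) 1) (by
      rintro v ⟨a1, a2⟩
      have a3 : g • v = v := by simpa using mem_eg.1 a1
      have a4 : g • t⁻¹ • v = t⁻¹ • v := (mem_eg.1 a2).trans (one_smul K _)
      rw [mem_eg, one_smul, mul_smul, mul_smul, mul_smul, inv_smul_eq_iff.2 a4.symm, smul_inv_smul,
        a3])
  omega

theorem rk_34 (h : Pk G V K W σ U To E M π b e) {g : G} (hg : σ g = 1) (h1 : g ≠ 1) :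
    4 * finrank K (eg h.toStr g hg 1) ≤ 3 * finrank K V := by
  by_cases hM : g ∈ M
  · have := rk_half h hM h1
    omega
  obtain ⟨t, ht, t1, i1⟩ := rk_out h hg hM
  have := rk_half h ht t1
  omega

theorem rk_23 [Finite G] (hodd : Odd (Nat.card G)) (h : Pk G V K W σ U To E M π b e) {g : G}
    (hg : σ g = 1) (h1 : g ≠ 1) : 3 * finrank K (eg h.toStr g hg 1) ≤ 2 * finrank K V := by
  by_cases hM : g ∈ M
  · have := rk_half h hM h1
    omega
  obtain ⟨t, ht, t1, i1⟩ := rk_out h hg hM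
  have := rk_third hodd h ht t1
  omega

omit [Nontrivial V] in
theorem rk_pair (h : Str G V K σ U To E) {g g' : G} (hg : σ g = 1) (hg' : σ g' = 1)
    (hU : g' * g⁻¹ ∈ U) (hne : g' ≠ g) :
    finrank K (eg h g hg 1) + finrank K (eg h g' hg' 1) ≤ finrank K V := by
  have := rk_two (A := eg h g hg 1) (B := eg h g' hg' 1) (C := ⊥) (by
    rintro v ⟨a1, a2⟩
    have a3 : g • v = v := by simpa using mem_eg.1 a1
    have a4 : g' • v = v := by simpa using mem_eg.1 a2
    by_contra h0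
    exact hne (mul_inv_eq_one.1 (h.U_fix hU h0 (by
      rw [mul_smul, inv_smul_eq_iff.2 a3.symm, a4]))))
  simpa using this

omit [Module.Finite K V] [Nontrivial V] in
/-- covering a set by fixed spaces -/
theorem cover_le [Finite V] [Finite G] (X : Set V) (S : Set G) (c : ℕ)
    (hX : ∀ v ∈ X, v ≠ 0 ∧ ∃ g ∈ S, g • v = v) (hS : ∀ g ∈ S, {v : V | g • v = v}.ncard ≤ c) :
    X.ncard ≤ S.ncard * (c - 1) := by
  classical
  have := Fintype.ofFinite V
  have := Fintype.ofFinite G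
  rw [Set.ncard_eq_toFinset_card' X, Set.ncard_eq_toFinset_card' S]
  refine (Finset.card_le_card (t := S.toFinset.biUnion fun g => ({v : V | g • v = v}.toFinset.erase 0))
    fun v hv => ?_).trans (Finset.card_biUnion_le_card_mul _ _ _ fun g hg => ?_)
  · obtain ⟨h0, g, hg, e1⟩ := hX v (by simpa using hv)
    simp only [Finset.mem_biUnion, Set.mem_toFinset, Finset.mem_erase]
    exact ⟨g, hg, h0, e1⟩
  · rw [Finset.card_erase_of_mem (by simp), ← Set.ncard_eq_toFinset_card']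
    exact Nat.sub_le_sub_right (hS g (by simpa using hg)) 1

end Cfsg.Agent.H4.Mw
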