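import Cfsg.Agent.H4.MwFix

/-!
Vectors with trivial stabilizer in the normal subgroup of symplectic type.
-/

set_option autoImplicit false

namespace Cfsg.Agent.H4.Mw

open MulAction Module Cfsg.Agent.H12.RO Cfsg.Agent.H53.MW
open scoped commutatorElement

universe u

variable {G V K W : Type*} [Group G] [Finite G] [AddCommGroup V] [DistribMulAction G V] [Field K]
  [Module K V] [AddCommGroup W] [Finite W] [DistribMulAction G W] {σ : G →* RingAut K}
  {U To E M : Subgroup G} {π : G → W} {b : W → W → Kˣ} {e : ℕ}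

/-- the non-scalar elements of prime order of `M` -/
def Pr (U M : Subgroup G) : Set G := {t | t ∈ M ∧ t ∉ U ∧ (orderOf t).Prime}

omit [Finite G] in
theorem pr_ord (h : Pk G V K W σ U To E M π b e) {t : G} (ht : t ∈ Pr U M) :
    addOrderOf (π t) = orderOf t ∧ orderOf t ∣ e := by
  obtain ⟨h1, h2, h3⟩ := ht
  have := Fact.mk h3
  have h4 : addOrderOf (π t) = orderOf t := addOrderOf_eq_prime
    (by rw [← h.sec.pow h1, pow_orderOf_eq_one, h.sec.one]) fun e0 => h2 ((h.sec.ker t h1).1 e0)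
  refine ⟨h4, h3.dvd_of_dvd_pow (n := 2) ?_⟩
  rw [← h.card, ← h4]
  exact addOrderOf_dvd_natCard _

theorem ncard_pr (h : Pk G V K W σ U To E M π b e) {R : ℕ}
    (hR : ∀ r : ℕ, r.Prime → r ∣ e → r ≤ R) : (Pr U M).ncard ≤ (e ^ 2 - 1) * R := by
  classical
  have := Fintype.ofFinite G
  have := Fintype.ofFinite W
  have := h.cyc
  rw [Set.ncard_eq_toFinset_card', mul_comm, ← h.card, Nat.card_eq_fintype_card,
    ← Finset.card_univ, ← Finset.card_erase_of_mem (Finset.mem_univ (0 : W))]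
  refine Finset.card_le_mul_card_image_of_maps_to (f := π) (fun t ht => ?_) R fun x _ => ?_
  · rw [Set.mem_toFinset] at ht
    exact Finset.mem_erase.2 ⟨fun e0 => ht.2.1 ((h.sec.ker t ht.1).1 e0), Finset.mem_univ _⟩
  rcases Finset.eq_empty_or_nonempty {t ∈ (Pr U M).toFinset | π t = x} with h0 | ⟨t₀, h0⟩
  · rw [h0]; simp
  simp only [Finset.mem_filter, Set.mem_toFinset] at h0
  obtain ⟨o1, o2⟩ := pr_ord h h0.1
  refine le_trans ?_ ((IsCyclic.card_pow_eq_one_le (α := U) h0.1.2.2.pos).trans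
    (hR _ h0.1.2.2 o2))
  refine Finset.card_le_card_of_injOn
    (fun t => if ht : t₀⁻¹ * t ∈ U then ⟨t₀⁻¹ * t, ht⟩ else 1) (fun t ht => ?_) fun s hs t ht e1 => ?_
  · simp only [Finset.coe_filter, Set.mem_toFinset, Set.mem_setOf_eq] at ht
    have hu := (h.sec.eq_iff h0.1.1 ht.1.1).1 (h0.2.trans ht.2.symm)
    simp only [dif_pos hu, Finset.coe_filter, Finset.mem_univ, true_and, Set.mem_setOf_eq]
    refine Subtype.ext ?_
    have c1 : Commute (t₀⁻¹ * t) t₀ := h.comm_U (h.σM _ h0.1.1) hu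
    have c2 : t = t₀ * (t₀⁻¹ * t) := by group
    have c3 : t ^ orderOf t₀ = 1 := by
      rw [← o1, h0.2, ← ht.2, (pr_ord h ht.1).1, pow_orderOf_eq_one]
    rw [c2, c1.symm.mul_pow, pow_orderOf_eq_one, one_mul] at c3
    exact c3
  · simp only [Finset.coe_filter, Set.mem_toFinset, Set.mem_setOf_eq] at hs ht
    have hu := (h.sec.eq_iff h0.1.1 ht.1.1).1 (h0.2.trans ht.2.symm)
    have hu' := (h.sec.eq_iff h0.1.1 hs.1.1).1 (h0.2.trans hs.2.symm)
    simp only [dif_pos hu, dif_pos hu', Subtype.mk.injEq] at e1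
    exact mul_left_cancel e1

variable [Finite K] [Finite V] [Nontrivial V]

omit [Finite W] in
theorem reg_core (h : Pk G V K W σ U To E M π b e)
    (hS : (Pr U M).ncard * (Nat.card K ^ (finrank K V / 2) - 1) < Nat.card K ^ finrank K V - 1) :
    ∃ v : V, v ≠ 0 ∧ ∀ t ∈ M, t • v = v → t = 1 := by
  by_contra hh
  push Not at hh
  have : Module.Finite K V := Module.Finite.of_finite
  have := cover_le {v : V | v ≠ 0} (Pr U M) (Nat.card K ^ (finrank K V / 2)) (fun v hv => by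
    obtain ⟨t, ht, e1, t1⟩ := hh v hv
    obtain ⟨r, n, hr, ho⟩ := exists_prime_pow t1
    have f1 : t ^ n • v = v := (stabilizer G v).pow_mem e1 n
    refine ⟨hv, t ^ n, ⟨M.pow_mem ht n, fun hu => ?_, ho ▸ hr⟩, f1⟩
    rw [h.U_fix hu hv f1, orderOf_one] at ho
    exact hr.one_lt.ne ho) fun g hg => by
      rw [ncard_fix h.toStr g (h.σM g hg.1)]
      have := rk_half h hg.1 fun e1 => hg.2.1 (e1 ▸ U.one_mem)
      exact Nat.pow_le_pow_right Nat.card_pos (by omega)
  have h2 : {v : V | v ≠ 0}.ncard = Nat.card K ^ finrank K V - 1 := by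
    rw [← Module.natCard_eq_pow_finrank, ← Set.ncard_univ, ← Set.ncard_diff_singleton_of_mem
      (Set.mem_univ (0 : V))]
    congr 1
    ext; simp
  omega

theorem reg_of (h : Pk G V K W σ U To E M π b e) {R : ℕ} (hR : ∀ r : ℕ, r.Prime → r ∣ e → r ≤ R)
    (hn : (e ^ 2 - 1) * R < Nat.card K ^ (finrank K V - finrank K V / 2)) :
    ∃ v : V, v ≠ 0 ∧ ∀ t ∈ M, t • v = v → t = 1 := by
  refine reg_core h ?_
  have h1 := ncard_pr h hR
  have h2 : 1 < Nat.card K := Finite.one_lt_card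
  have h3 := h.pos.trans_le h.le
  obtain ⟨a, ha⟩ : ∃ a, Nat.card K ^ (finrank K V / 2) = a + 1 :=
    ⟨_, (Nat.succ_pred_eq_of_pos (by positivity)).symm⟩
  have h4 : Nat.card K ^ finrank K V =
      Nat.card K ^ (finrank K V - finrank K V / 2) * Nat.card K ^ (finrank K V / 2) := by
    rw [← pow_add]; congr 1; omega
  have h5 : 1 < Nat.card K ^ (finrank K V - finrank K V / 2) := Nat.one_lt_pow (by omega) h2
  rw [h4, ha]
  generalize Nat.card K ^ (finrank K V - finrank K V / 2) = c at *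
  have : (Pr U M).ncard * a ≤ c * a := Nat.mul_le_mul_right _ (by omega)
  rw [Nat.add_sub_cancel, Nat.mul_succ]
  omega

omit [Finite G] [Finite W] [Finite V] [Nontrivial V] in
theorem lt_card (h : Pk G V K W σ U To E M π b e) {r : ℕ} (hr : r.Prime) (he : r ∣ e) :
    r ∣ Nat.card K - 1 ∧ r < Nat.card K := by
  have h1 := (h.dvd r hr he).trans h.U_dvd
  have h2 : 1 < Nat.card K := Finite.one_lt_card
  have := Nat.le_of_dvd (by omega) h1
  exact ⟨h1, by omega⟩

omit [Finite G] [Finite K] [Finite V] [Nontrivial V] in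
theorem To_le (h : Pk G V K W σ U To E M π b e) (he : ∀ r : ℕ, r.Prime → r ∣ e → r = 2) :
    To ≤ U := by
  intro t ht
  have hM : t ∈ M := h.M_eq ▸ Subgroup.mem_sup_right (Subgroup.mem_sup_left ht)
  obtain ⟨n, hn, -, h1⟩ := h.expo
  rw [← h.sec.ker t hM, ← AddMonoid.addOrderOf_eq_one_iff]
  by_contra h0
  obtain ⟨r, hr, hd⟩ := Nat.exists_prime_and_dvd h0
  have h2 : r ∣ n := hd.trans (addOrderOf_dvd_of_nsmul_eq_zero (by
    rw [← h.sec.pow hM, h1 t ht, h.sec.one]))
  have h3 : r ∣ e := hr.dvd_of_dvd_pow (n := 2) (h.card ▸ hd.trans (addOrderOf_dvd_natCard _))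
  rw [he r hr h3] at h2
  exact (Nat.not_even_iff_odd.2 hn) (even_iff_two_dvd.2 h2)

omit [Finite W] [Finite K] [Finite V] in
/-- the number of solutions of `x² = 1` in the extraspecial part -/
theorem card_invol (h : Str G V K σ U To E) (hUE : U ≤ E) (hE : Nat.card E = 128)
    (hU : Nat.card U = 2) : {t : G | t ∈ E ∧ t ^ 2 = 1}.ncard ≤ 72 := by
  classical
  have := Fintype.ofFinite G
  let f : E → ℤ := fun a => if (a : G) ^ 2 = 1 then 1 else -1
  let β : E → E → ℤ := fun a c => if Commute (a : G) c then 1 else -1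
  have h1 : ∀ a c : E, f a * f (a * c) = f c * β a c := fun a c => by
    have := h.sq_mul_iff a.2 c.2
    simp only [f, β, Subgroup.coe_mul, this]
    by_cases x : (a : G) ^ 2 = 1 <;> by_cases y : (c : G) ^ 2 = 1 <;>
      by_cases z : Commute (a : G) c <;> simp [x, y, z]
  have h2 : ∀ c : E, (c : G) ∉ U → ∑ a, β a c = 0 := fun c hc => by
    obtain ⟨s, hs⟩ := not_forall.1 (mt (h.Z_E c c.2) hc)
    obtain ⟨hs, hs'⟩ := Classical.not_imp.1 hs
    have i1 := Equiv.sum_comp (Equiv.mulRight (⟨s, hs⟩ : E)) fun a => β a c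
    have i2 : ∀ a : E, β (Equiv.mulRight (⟨s, hs⟩ : E) a) c = -β a c := fun a => by
      have := h.comm_mul_iff a.2 hs c.2
      have y : ¬ Commute s (c : G) := fun x => hs' x.symm
      simp only [β, Equiv.coe_mulRight, Subgroup.coe_mul, this]
      by_cases z : Commute (a : G) c <;> simp [y, z]
    simp only [i2, Finset.sum_neg_distrib] at i1
    omega
  have h3 : ∀ c : E, (c : G) ∈ U → f c * ∑ a, β a c = 128 := fun c hc => by
    have : ∀ a : E, β a c = 1 := fun a => if_pos (h.comm_U (h.σE _ a.2) hc).symm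
    simp only [this, f, if_pos (h.EU _ c.2 hc), Finset.sum_const, Finset.card_univ,
      ← Nat.card_eq_fintype_card, hE]
    rfl
  have h4 : (∑ a, f a) ^ 2 = 256 := by
    rw [sq, Finset.sum_mul]
    have : ∀ a : E, f a * ∑ c, f c = ∑ c, f c * β a c := fun a => by
      rw [← Equiv.sum_comp (Equiv.mulLeft a) f, Finset.mul_sum]
      exact Finset.sum_congr rfl fun c _ => h1 a c
    simp only [this]
    rw [Finset.sum_comm]
    simp only [← Finset.mul_sum]
    rw [← Finset.sum_filter_add_sum_filter_not Finset.univ (fun c : E => (c : G) ∈ U),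
      Finset.sum_congr rfl (fun c hc => h3 c (Finset.mem_filter.1 hc).2),
      Finset.sum_eq_zero (s := Finset.univ.filter fun c : E => ¬ (c : G) ∈ U)
        (fun c hc => by rw [h2 c (Finset.mem_filter.1 hc).2, mul_zero])]
    have : (Finset.univ.filter fun c : E => (c : G) ∈ U).card = 2 := by
      rw [← hU, ← Nat.card_congr (Subgroup.subgroupOfEquivOfLe hUE).toEquiv, ← Fintype.card_subtype,
        Nat.card_eq_fintype_card]
      rfl
    simp [this]
  have h5 : ∑ a, f a ≤ 16 := by nlinarith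
  have h6 : {t : G | t ∈ E ∧ t ^ 2 = 1}.ncard = (Finset.univ.filter fun a : E => (a : G) ^ 2 = 1).card := by
    rw [← Set.ncard_coe_finset, ← Set.ncard_image_of_injective _ Subtype.val_injective]
    congr 1
    ext t
    simp [and_comm]
  have h7 := Finset.card_filter_add_card_filter_not (s := Finset.univ) fun a : E => (a : G) ^ 2 = 1
  rw [Finset.card_univ, ← Nat.card_eq_fintype_card, hE] at h7
  simp only [f, Finset.sum_ite, Finset.sum_const, nsmul_eq_mul] at h5
  omega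

omit [Finite K] [Finite V] [Nontrivial V] in
theorem card_M (h : Pk G V K W σ U To E M π b e) : Nat.card M = Nat.card U * e ^ 2 := by
  rw [h.sec.card, h.card, inf_eq_left.2 (U_le_M h), mul_comm]

theorem num_reg {q n e : ℕ} (h8 : 8 ≤ e) (h63 : e ≤ 63) (hn : e ≤ n)
    (hq : ∀ r : ℕ, r.Prime → r ∣ e → r < q) (hx : ¬ (e = 8 ∧ q = 3 ∧ n = 8)) :
    ∃ R, (∀ r : ℕ, r.Prime → r ∣ e → r ≤ R) ∧ (e ^ 2 - 1) * R < q ^ (n - n / 2) := by
  have h3 : 3 ≤ q := by
    obtain ⟨r, hr, hd⟩ := Nat.exists_prime_and_dvd (n := e) (by omega)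
    have := hq r hr hd
    have := hr.two_le
    omega
  have key : ∀ a k, a ≤ q → k ≤ n - n / 2 → a ^ k ≤ q ^ (n - n / 2) := fun a k h1 h2 =>
    (Nat.pow_le_pow_left h1 k).trans (Nat.pow_le_pow_right (by omega) h2)
  by_cases he : e = 8
  · subst he
    refine ⟨2, fun r hr hd => Nat.le_of_dvd two_pos (hr.dvd_of_dvd_pow (n := 3) hd), ?_⟩
    by_cases h9 : n = 8
    · exact lt_of_lt_of_le (by norm_num) (key 4 4 (by omega) (by omega))
    · exact lt_of_lt_of_le (by norm_num) (key 3 5 h3 (by omega))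
  refine ⟨q - 1, fun r hr hd => by have := hq r hr hd; omega, ?_⟩
  obtain ⟨k, hk⟩ : ∃ k, n - n / 2 = k + 1 := ⟨n - n / 2 - 1, by omega⟩
  rw [hk, pow_succ]
  refine Nat.mul_lt_mul_of_le_of_lt ?_ (by omega) (Nat.pow_pos (by omega))
  have key' : ∀ a j, a ≤ q → j ≤ k → a ^ j ≤ q ^ k := fun a j h1 h2 =>
    (Nat.pow_le_pow_left h1 j).trans (Nat.pow_le_pow_right (by omega) h2)
  by_cases h17 : 17 ≤ e
  · exact le_trans (by
      have := Nat.pow_le_pow_left h63 2
      exact (Nat.sub_le _ _).trans (this.trans (by norm_num))) (key' 3 8 h3 (by omega))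
  by_cases h13 : 13 ≤ e
  · exact le_trans (by
      have := Nat.pow_le_pow_left (show e ≤ 16 by omega) 2
      exact (Nat.sub_le _ _).trans (this.trans (by norm_num))) (key' 3 6 h3 (by omega))
  by_cases h11 : 11 ≤ e
  · exact le_trans (by
      have := Nat.pow_le_pow_left (show e ≤ 12 by omega) 2
      exact (Nat.sub_le _ _).trans (this.trans (by norm_num))) (key' 3 5 h3 (by omega))
  by_cases h10 : e = 10
  · subst h10
    exact le_trans (by norm_num) (key' 6 4 (hq 5 (by norm_num) (by norm_num)) (by omega))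
  obtain rfl : e = 9 := by omega
  exact le_trans (by norm_num) (key' 3 4 h3 (by omega))

theorem reg_mid (h : Pk G V K W σ U To E M π b e) (h8 : 8 ≤ e) (h63 : e ≤ 63) :
    ∃ v : V, v ≠ 0 ∧ ∀ t ∈ M, t • v = v → t = 1 := by
  by_cases hx : e = 8 ∧ Nat.card K = 3 ∧ finrank K V = 8
  swap
  · obtain ⟨R, h1, h2⟩ := num_reg h8 h63 h.le (fun r hr hd => (lt_card h hr hd).2) hx
    exact reg_of h h1 h2
  obtain ⟨rfl, hq, hn⟩ := hx
  have h2 : ∀ r : ℕ, r.Prime → r ∣ 8 → r = 2 := fun r hr hd =>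
    (Nat.prime_dvd_prime_iff_eq hr Nat.prime_two).1 (hr.dvd_of_dvd_pow (n := 3) hd)
  have hU : Nat.card U = 2 := Nat.dvd_antisymm (by simpa [hq] using h.U_dvd)
    (h.dvd 2 Nat.prime_two (by norm_num))
  have hM := card_M h
  have hT := To_le h h2
  have hE : ¬ E ≤ U := fun hE => by
    have : M = U := by rw [h.M_eq, sup_eq_left.2 (sup_le hT hE)]
    rw [this, hU] at hM
    omega
  obtain ⟨z, z1, z2, z3, -⟩ := h.exists_z hE
  have hUE : U ≤ E := fun u hu => by
    by_cases u1 : u = 1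
    · exact u1 ▸ E.one_mem
    obtain ⟨x, -, hx⟩ := (Nat.card_eq_two_iff' (1 : U)).1 hU
    have a1 := hx ⟨u, hu⟩ fun e1 => u1 (congrArg Subtype.val e1)
    have a2 := hx ⟨z, z2⟩ fun e1 => z3 (congrArg Subtype.val e1)
    have : u = z := congrArg Subtype.val (a1.trans a2.symm)
    exact this ▸ z1
  have hME : M = E := by rw [h.M_eq, sup_eq_right.2 (hT.trans hUE), sup_eq_right.2 hUE]
  have h72 := card_invol h.toStr hUE (by rw [← hME, hM, hU]; rfl) hU
  refine reg_core h ?_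
  have : (Pr U M).ncard ≤ 72 := le_trans (Set.ncard_le_ncard fun t ht => And.intro (hME ▸ ht.1) (by
    rw [← h2 _ ht.2.2 (pr_ord h ht).2, pow_orderOf_eq_one])) h72
  rw [hq, hn]
  omega

omit [Finite K] [Finite V] in
theorem exists_nonreg (h : Pk G V K W σ U To E M π b e) (h3 : 3 ≤ e) :
    ∃ v : V, v ≠ 0 ∧ ∃ t ∈ M, t ≠ (1 : G) ∧ t • v = v := by
  classical
  by_cases hT : To ≤ U
  swap
  · obtain ⟨t, ht, hu⟩ := SetLike.not_le_iff_exists.1 hT
    have hM : t ∈ M := h.M_eq ▸ Subgroup.mem_sup_right (Subgroup.mem_sup_left ht)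
    obtain ⟨n, -, hn, h1⟩ := h.expo
    obtain ⟨r, hr, hd⟩ := Nat.exists_prime_and_dvd (n := addOrderOf (π t)) fun e1 =>
      hu ((h.sec.ker t hM).1 (AddMonoid.addOrderOf_eq_one_iff.1 e1))
    have d1 : addOrderOf (π t) ∣ orderOf t := addOrderOf_dvd_of_nsmul_eq_zero (by
      rw [← h.sec.pow hM, pow_orderOf_eq_one, h.sec.one])
    have o1 := orderOf_pow_orderOf_div (orderOf_pos t).ne' (hd.trans d1)
    have hs : t ^ (orderOf t / r) ∈ Pr U M := ⟨M.pow_mem hM _, fun hu' => by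
      rw [← h.sec.ker _ (M.pow_mem hM _), h.sec.pow hM] at hu'
      have d2 := hd.trans (addOrderOf_dvd_of_nsmul_eq_zero hu')
      have d3 : r * r ∣ n := by
        refine Dvd.dvd.trans ?_ (orderOf_dvd_of_pow_eq_one (h1 t ht))
        rw [← Nat.mul_div_cancel' (hd.trans d1)]
        exact Nat.mul_dvd_mul_left r d2
      exact hr.one_lt.ne' (Nat.isUnit_iff.1 (hn r d3)), o1.symm ▸ hr⟩
    generalize t ^ (orderOf t / r) = s at o1 hs
    have := Fact.mk hr
    obtain ⟨⟨z, hz⟩, oz⟩ := exists_prime_orderOf_dvd_card' r (h.dvd r hr (o1 ▸ (pr_ord h hs).2))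
    rw [Subgroup.orderOf_mk] at oz
    obtain ⟨ζ, hζ⟩ := h.Usc z hz
    obtain ⟨v₀, hv₀⟩ := exists_ne (0 : V)
    have hp : ∀ (i : ℕ) (v : V), z ^ i • v = ζ ^ i • v := fun i v => by
      induction i with
      | zero => simp
      | succ i ih => rw [pow_succ', mul_smul, ih, hζ, ← mul_smul, pow_succ']
    have hprim : IsPrimitiveRoot ζ r := by
      refine (IsPrimitiveRoot.iff_orderOf).2 (orderOf_eq_prime ?_ fun e1 => ?_)
      · refine smul_left_injective K hv₀ ?_
        change ζ ^ r • v₀ = (1 : K) • v₀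
        rw [← hp, ← oz, pow_orderOf_eq_one, one_smul, one_smul]
      · rw [h.U_fix hz hv₀ (by rw [hζ, e1, one_smul]), orderOf_one] at oz
        exact hr.one_lt.ne oz
    obtain ⟨a, ha, v, -, hv, e1⟩ := exists_eig (h.toEnd s (h.σM s hs.1)) ⊤ (fun _ _ => trivial)
      (Polynomial.nthRoots r (1 : K)) v₀ trivial hv₀ (by
        rw [Polynomial.nthRoots, Polynomial.prod_multiset_X_sub_C_of_monic_of_roots_card_eq
          (Polynomial.monic_X_pow_sub_C _ hr.ne_zero) (by
            rw [Polynomial.natDegree_X_pow_sub_C]; exact hprim.card_nthRoots_one)]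
        simp [Str.toEnd_pow, ← o1])
    have := NeZero.mk hr.ne_zero
    obtain ⟨i, -, rfl⟩ := hprim.eq_pow_of_pow_eq_one ((Polynomial.mem_nthRoots hr.pos).1 ha)
    refine ⟨v, hv, (z ^ i)⁻¹ * s, M.mul_mem (M.inv_mem (U_le_M h (U.pow_mem hz i))) hs.1,
      fun e2 => hs.2.1 (inv_mul_eq_one.1 e2 ▸ U.pow_mem hz i), ?_⟩
    rw [mul_smul, inv_smul_eq_iff, hp]
    exact e1
  have hEM : E ≤ M := h.M_eq ▸ le_sup_of_le_right le_sup_right
  have hs : ∀ w : W, ∃ x ∈ E, π x = w := fun w => by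
    obtain ⟨t, ht, rfl⟩ := h.sec.surj w
    have := h.Un
    rw [h.M_eq, ← sup_assoc, sup_eq_left.2 hT, ← SetLike.mem_coe, Subgroup.normal_mul] at ht
    obtain ⟨a, ha, x, hx, rfl⟩ := ht
    refine ⟨x, hx, ?_⟩
    rw [h.sec.mul _ (U_le_M h ha) _ (hEM hx), (h.sec.ker _ (U_le_M h ha)).2 ha, zero_add]
  have h2 : ∀ w : W, w + w = 0 := fun w => by
    obtain ⟨x, hx, rfl⟩ := hs w
    rw [← h.sec.mul _ (hEM hx) _ (hEM hx), h.sec.ker _ (hEM (E.mul_mem hx hx)), ← sq]
    exact h.sqE x hx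
  obtain ⟨x, hx, x1, x2⟩ : ∃ x ∈ E, x ∉ U ∧ x ^ 2 = 1 := by
    by_contra hh
    push Not at hh
    have := Fintype.ofFinite W
    have av : ∀ s : Finset W, s.card ≤ 4 → ∃ x ∈ E, π x ∉ s := fun s hc => by
      obtain ⟨w, -, hw⟩ := Finset.exists_mem_notMem_of_card_lt_card (s := s) (t := Finset.univ) (by
        rw [Finset.card_univ, ← Nat.card_eq_fintype_card, h.card]; nlinarith)
      obtain ⟨x, hx, rfl⟩ := hs w
      exact ⟨x, hx, hw⟩
    have nc : ∀ x ∈ E, ∀ y ∈ E, π x ≠ 0 → π y ≠ 0 → π x ≠ π y → ¬ Commute x y :=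
      fun x hx y hy a1 a2 a3 hc => by
        have k : ∀ z ∈ E, π z ≠ 0 → z ^ 2 ≠ 1 := fun z hz a => hh z hz
          fun hu => a ((h.sec.ker _ (hEM hz)).2 hu)
        refine k _ (E.mul_mem hx hy) ?_ ((h.sq_mul_iff hx hy).2 (by simp [k x hx a1, k y hy a2, hc]))
        rw [h.sec.mul _ (hEM hx) _ (hEM hy)]
        exact fun e1 => a3 (add_right_cancel (e1.trans (h2 _).symm))
    obtain ⟨a, ha, a1⟩ := av {0} (by simp)
    obtain ⟨c, hc, c1⟩ := av {0, π a} (Finset.card_le_two.trans (by omega))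
    obtain ⟨d, hd, d1⟩ := av {0, π a, π c, π a + π c} Finset.card_le_four
    simp only [Finset.mem_insert, Finset.mem_singleton, not_or] at a1 c1 d1
    refine nc _ (E.mul_mem hc hd) a ha ?_ a1 ?_ ((h.comm_mul_iff hc hd ha).2 (by
      simp [nc c hc a ha c1.1 a1 c1.2, nc d hd a ha d1.1 a1 d1.2.1]))
    · rw [h.sec.mul _ (hEM hc) _ (hEM hd)]
      exact fun e1 => d1.2.2.1 (add_left_cancel (e1.trans (h2 _).symm))
    · rw [h.sec.mul _ (hEM hc) _ (hEM hd)]
      intro e1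
      refine d1.2.2.2 ?_
      rw [← e1, add_right_comm, h2, zero_add]
  obtain ⟨v, hv⟩ := not_forall.1 fun hv => x1 (h.scal x ⟨-1, hv⟩)
  refine ⟨x • v + v, fun e1 => hv (by rw [neg_one_smul]; exact eq_neg_of_add_eq_zero_left e1), x,
    hEM hx, fun e1 => x1 (e1 ▸ U.one_mem), ?_⟩
  rw [smul_add, ← mul_smul, ← sq, x2, one_smul, add_comm]

theorem reg : RegStmt.{u} := fun _ _ _ _ _ _ _ _ _ _ _ _ _ _ _ _ _ _ _ _ _ _ _ _ _ h =>
  ⟨fun h1 h2 => (reg_mid h h1 h2).imp fun _ h => h.2, exists_nonreg h⟩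

end Cfsg.Agent.H4.Mw
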