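import Cfsg.Agent.Lead.PcDefs

/-! The involutions of a normal `2`-subgroup commute when they are all conjugate. -/

set_option autoImplicit false

namespace Cfsg.Agent.H4.PcA2

open Subgroup Cfsg.Agent.Lead.Pc

universe u

theorem a2 : A2Stmt.{u} := by
  intro X _ _ P cp nP hP hin
  haveI : Fact (Nat.Prime 2) := ⟨Nat.prime_two⟩
  have key : ∀ x y : X, x * x = 1 → y * y = 1 → x * y = y * x := by
    intro x y hx hy
    by_cases x1 : x = 1
    · rw [x1, one_mul, mul_one]
    haveI : Nontrivial P := ⟨⟨⟨x, hin x hx⟩, 1, fun e => x1 (congrArg Subtype.val e)⟩⟩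
    haveI := hP.center_nontrivial
    obtain ⟨n, n0, hn⟩ := (hP.to_subgroup (center P)).nontrivial_iff_card.1 inferInstance
    obtain ⟨z, hz⟩ := exists_prime_orderOf_dvd_card' (G := center P) 2 (hn ▸ dvd_pow_self 2 n0.ne')
    have oz : orderOf ((z : P) : X) = 2 := by rw [orderOf_coe, orderOf_coe, hz]
    have ox : orderOf x = 2 := orderOf_eq_prime (by rw [sq, hx]) x1
    obtain ⟨g, k, hk⟩ := cp ((z : P) : X) x ⟨1, by rw [pow_one, ← oz, pow_orderOf_eq_one]⟩
      (ox.trans oz.symm)
    have c : Commute (g * y * g⁻¹) ((z : P) : X) :=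
      congrArg Subtype.val (mem_center_iff.1 z.2 ⟨_, nP.conj_mem y (hin y hy) g⟩)
    have c2 := (c.zpow_right k).eq
    change ((z : P) : X) ^ k = _ at hk
    rw [hk] at c2
    have : g * (x * y) * g⁻¹ = g * (y * x) * g⁻¹ := by
      rw [show g * (x * y) * g⁻¹ = g * x * g⁻¹ * (g * y * g⁻¹) by group, ← c2]; group
    exact mul_left_cancel (mul_right_cancel this)
  refine ⟨{ carrier := {x | x * x = 1}
            one_mem' := mul_one 1
            mul_mem' := fun {a b} ha hb => ?_
            inv_mem' := fun {a} ha => ?_ }, ⟨fun a ha g => ?_⟩, fun _ => Iff.rfl⟩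
  · change a * b * (a * b) = 1
    rw [show a * b * (a * b) = a * (b * a) * b by group, ← key a b ha hb,
      show a * (a * b) * b = a * a * (b * b) by group, ha, hb, mul_one]
  · change a⁻¹ * a⁻¹ = 1
    rw [← mul_inv_rev, ha, inv_one]
  · change g * a * g⁻¹ * (g * a * g⁻¹) = 1
    rw [show g * a * g⁻¹ * (g * a * g⁻¹) = g * (a * a) * g⁻¹ by group, ha, mul_one, mul_inv_cancel]

end Cfsg.Agent.H4.PcA2
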