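import Cfsg.Agent.H50.E83Defs

/-! Definitions and statements: `Sp₆(2)` in `E₈(3)` fixes a subspace of dimension at least four. -/

set_option autoImplicit false

namespace Cfsg.Agent.H4.SV

open H50.E83 Module

/-- A Sylow `2`-subgroup of `Sp₆(2)`: pairs `(A, S)`, `A` unitriangular, `S` symmetric. -/
@[ext] structure T9 where
  (p q r a b c d e f : ZMod 2)
  deriving DecidableEq

def T9.mul (g h : T9) : T9 :=
  ⟨g.p + h.p, g.q + h.q + g.p * h.r, g.r + h.r,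
    g.a + h.a + 2 * g.p * h.b + 2 * g.q * h.c + g.p * g.p * h.d + 2 * g.p * g.q * h.e + g.q * g.q * h.f,
    g.b + h.b + g.r * h.c + g.p * h.d + g.p * g.r * h.e + g.q * h.e + g.q * g.r * h.f,
    g.c + h.c + g.p * h.e + g.q * h.f, g.d + h.d + 2 * g.r * h.e + g.r * g.r * h.f,
    g.e + h.e + g.r * h.f, g.f + h.f⟩

instance : Mul T9 := ⟨T9.mul⟩
instance : One T9 := ⟨⟨0, 0, 0, 0, 0, 0, 0, 0, 0⟩⟩
instance : Inv T9 := ⟨fun g => T9.mul ⟨-g.p, g.p * g.r - g.q, -g.r, 0, 0, 0, 0, 0, 0⟩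
  ⟨0, 0, 0, -g.a, -g.b, -g.c, -g.d, -g.e, -g.f⟩⟩

theorem mul_def (g h : T9) : g * h = T9.mul g h := rfl
theorem one_def : (1 : T9) = ⟨0, 0, 0, 0, 0, 0, 0, 0, 0⟩ := rfl
theorem inv_def (g : T9) : g⁻¹ = T9.mul ⟨-g.p, g.p * g.r - g.q, -g.r, 0, 0, 0, 0, 0, 0⟩
  ⟨0, 0, 0, -g.a, -g.b, -g.c, -g.d, -g.e, -g.f⟩ := rfl

instance : Group T9 := Group.ofLeftAxioms
  (fun g h k => by ext <;> simp only [mul_def, T9.mul] <;> ring)
  (fun g => by ext <;> simp only [mul_def, one_def, T9.mul] <;> ring)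
  (fun g => by ext <;> simp only [mul_def, one_def, inv_def, T9.mul] <;> ring)

def bt (n i : ℕ) : ZMod 2 := if n.testBit i then 1 else 0
def ofN (n : ℕ) : T9 := ⟨bt n 0, bt n 1, bt n 2, bt n 3, bt n 4, bt n 5, bt n 6, bt n 7, bt n 8⟩
def vl (x : ZMod 2) : ℕ := if x = 0 then 0 else 1
def idx (g : T9) : ℕ := vl g.p + 2 * vl g.q + 4 * vl g.r + 8 * vl g.a + 16 * vl g.b + 32 * vl g.c +
  64 * vl g.d + 128 * vl g.e + 256 * vl g.f

theorem idx_lt (g : T9) : idx g < 512 := by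
  have h : ∀ x, vl x ≤ 1 := fun x => by unfold vl; split_ifs <;> omega
  have := h g.p; have := h g.q; have := h g.r; have := h g.a; have := h g.b; have := h g.c
  have := h g.d; have := h g.e; have := h g.f
  unfold idx; omega

theorem ofN_idx (g : T9) : ofN (idx g) = g := by
  obtain ⟨p, q, r, a, b, c, d, e, f⟩ := g
  revert p q r a b c d e f
  decide +kernel

theorem idx_ofN : ∀ n : Fin 512, idx (ofN n) = n := by decide +kernel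

def eqv : Fin 512 ≃ T9 :=
  ⟨fun n => ofN n, fun g => ⟨idx g, idx_lt g⟩, fun n => Fin.ext (idx_ofN n), ofN_idx⟩

instance : Fintype T9 := Fintype.ofEquiv _ eqv

theorem all_T9 {P : T9 → Prop} (h : ∀ n : Fin 512, P (ofN n)) (g : T9) : P g :=
  ofN_idx g ▸ h ⟨idx g, idx_lt g⟩

theorem sum_T9 (F : T9 → ℤ) : ∑ g, F g = ∑ n : Fin 512, F (ofN n) := (eqv.sum_comp F).symm

def tab : ℕ := 0xa6a64661a9a94773a6a64674a9a94764a9a94764a6a64674a9a94773a6a64661b9b79983b7b99954b9b79954b7b99983b7b99983b9b79954b7b99954b9b79983b9b75994b7b98993b9b78993b7b95994b7b98993b9b75994b7b95994b9b78993a6a67644a9a96744a6a66641a9a97743a9a96744a6a67644a9a97743a6a666418288989384889594828898938488959488849594888298938884959488829893949588849398888294958884939888829594888498938882959488849893888298957464959864749895647495987464939464619493747393947473949364618888322388882332888822338888332284842323828232328484333182822220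

/-- The class in `Sp₆(2)`: `0`: identity, `1`-`4`: involutions, `5`-`9`: order four, `10`, `11`: eight. -/
def cls (g : T9) : ℕ := (tab >>> (4 * idx g)) % 16

def sg (x : ZMod 2) : ℤˣ := if x = 0 then 1 else -1
def lin (k : ℕ) (g : T9) : ZMod 2 := bt k 0 * g.p + bt k 1 * g.r + bt k 2 * g.f + bt k 3 * (g.d + g.e)

theorem sg_add : ∀ x y, sg (x + y) = sg x * sg y := by decide

theorem lin_mul (k : ℕ) (g h : T9) : lin k (g * h) = lin k g + lin k h := by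
  have h2 : ∀ r e f : ZMod 2, 2 * r * e + r * r * f + r * f = 0 := by decide
  simp only [lin, mul_def, T9.mul]
  linear_combination bt k 3 * h2 g.r h.e h.f

/-- The sixteen linear characters, `k < 16`. -/
def chi (k : ℕ) : T9 →* ℤˣ := MonoidHom.mk' (fun g => sg (lin k g)) fun g h => by rw [lin_mul, sg_add]

def cnt (k : ℕ) : List ℤ := [[1, 7, 27, 41, 68, 20, 40, 40, 92, 112, 32, 32],
  [1, 7, 11, 25, 36, 4, 8, 8, -20, -16, -32, -32],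
  [1, 7, 11, 25, 36, 4, 8, 8, -20, -16, -32, -32],
  [1, 7, -5, 9, 4, -12, -24, -24, -4, -16, 32, 32],
  [1, -1, 27, 17, 4, 4, -24, -24, 76, -16, -32, -32],
  [1, -1, 11, 1, 36, 20, -24, -24, -4, -80, 32, 32],
  [1, -1, 11, 1, -28, -12, 8, 8, -36, -16, 32, 32],
  [1, -1, -5, -15, 4, 4, 8, 8, 12, 48, -32, -32],
  [1, 3, 19, 5, 4, -12, 24, -8, 12, -48, 32, -32],
  [1, 3, 3, -11, -28, 4, 24, -8, -4, 16, -32, 32],
  [1, 3, 3, 21, 4, 4, -8, 24, -68, 16, -32, 32],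
  [1, 3, -13, 5, -28, 20, -8, 24, 44, -48, 32, -32],
  [1, -5, 19, 13, -28, 4, -40, -8, 28, 16, -32, 32],
  [1, -5, 3, -3, 4, -12, -8, 24, -20, 16, 32, -32],
  [1, -5, 3, 29, -28, 20, -8, -40, -52, 80, 32, -32],
  [1, -5, -13, 13, 4, 4, 24, -8, 28, -48, -32, 32]].getD k []

def val (k : ℕ) (τ : ℕ → ℤ) : ℤ := ∑ j ∈ Finset.range 12, (cnt k).getD j 0 * τ j

/-- The coordinate of the `i`-th simple root. -/
def co (i : Fin 3) (g : T9) : ZMod 2 := ![g.p, g.r, g.f] i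

/-- Conjugation by the `i`-th simple reflection on the elements with `co i g = 0`. -/
def σ (i : Fin 3) (g : T9) : T9 :=
  ![⟨0, g.r, g.q, g.d, g.b, g.e, g.a, g.c, g.f⟩, ⟨g.q, g.p, 0, g.a, g.c, g.b, g.f, g.e, g.d⟩,
    ⟨g.p, g.c, g.e, g.a, g.b + g.r * g.c + g.q * g.e, g.q, g.d, g.r, 0⟩] i

def Cfg {Γ : Type} [Group Γ] (φ : T9 →* Γ) (s : Fin 3 → Γ) : Prop :=
  ∀ i g, co i g = 0 → s i * φ g * (s i)⁻¹ = φ (σ i g)

def CntStmt : Prop := (∀ k < 16, ∀ τ : ℕ → ℤ, ∑ g, ((chi k g : ℤˣ) : ℤ) * τ (cls g) = val k τ) ∧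
  (∀ g, cls g = 0 ↔ g = 1) ∧ IsPGroup 2 T9 ∧ Fintype.card T9 = 512 ∧
  (∀ j ∈ [1, 2, 3, 4], ∃ g, cls g = j ∧ g ^ 2 = 1) ∧
  (∀ j ∈ [5, 8], ∃ g, cls g = j ∧ g ^ 4 = 1 ∧ cls (g ^ 2) = 2) ∧
  ∀ j ∈ [6, 7, 9], ∃ g, cls g = j ∧ g ^ 4 = 1 ∧ cls (g ^ 2) = 3

def Opt (t u : ℤ) : Prop :=
  (t = -8 → u = 0 ∨ u = 8 ∨ u = 64) ∧ (t = 24 → u = -4 ∨ u = 4 ∨ u = 28 ∨ u = 132)

def NumStmt : Prop := ∀ τ : ℕ → ℤ, τ 0 = 248 → (∀ j ∈ [1, 2, 3, 4], τ j = -8 ∨ τ j = 24) →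
  (∀ j ∈ [5, 8], Opt (τ 2) (τ j)) → (∀ j ∈ [6, 7, 9], Opt (τ 3) (τ j)) →
  (∀ k < 16, ∃ m : ℕ, val k τ = 512 * m) →
  val 0 τ = 512 * 6 ∧ val 1 τ = 512 ∧ val 2 τ = 512 ∧ val 4 τ = 0

def FusStmt : Prop := ∀ (Γ : Type) [Group Γ] (φ : T9 →* Γ) (s : Fin 3 → Γ), Cfg φ s →
  ∀ g g', cls g = cls g' → IsConj (φ g) (φ g')

/-- The weight space of the character `chi k`. -/
noncomputable def E (φ : T9 →* GK) (k : ℕ) : Submodule K V :=
  ⨅ g, eig (φ g) (((chi k g : ℤˣ) : ℤ) : K)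

def TrStmt : Prop := ∀ (φ : T9 →* G0) (s : Fin 3 → G0), Function.Injective φ → Cfg φ s →
  finrank K (E (ι.comp φ) 0) = 6 ∧ finrank K (E (ι.comp φ) 1) = 1 ∧
  finrank K (E (ι.comp φ) 2) = 1 ∧ finrank K (E (ι.comp φ) 4) = 0

def Lin1Stmt : Prop := ∀ (φ : T9 →* GK) (i : Fin 3),
  finrank K (H50.E83.Fix (φ '' {g | co i g = 0})) ≤ finrank K (E φ 0) + finrank K (E φ (2 ^ (i : ℕ)))

def LinStmt : Prop := ∀ (φ : T9 →* GK) (s : Fin 3 → GK), Cfg φ s →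
  finrank K (E φ 0) ≤ finrank K (H50.E83.Fix (Set.range φ ∪ {x | ∃ i g, x = s i * φ g * (s i)⁻¹})) +
    finrank K (E φ 1) + finrank K (E φ 2) + finrank K (E φ 4)

abbrev M6 : Type := Matrix (Fin 3 ⊕ Fin 3) (Fin 3 ⊕ Fin 3) (ZMod 2)
abbrev X6 : Type := Matrix.symplecticGroup (Fin 3) (ZMod 2)

def mA (g : T9) : Matrix (Fin 3) (Fin 3) (ZMod 2) := !![1, g.p, g.q; 0, 1, g.r; 0, 0, 1]
def mS (g : T9) : Matrix (Fin 3) (Fin 3) (ZMod 2) := !![g.a, g.b, g.c; g.b, g.d, g.e; g.c, g.e, g.f]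
def mD (g : T9) : Matrix (Fin 3) (Fin 3) (ZMod 2) :=
  !![1, 0, 0; -g.p, 1, 0; g.p * g.r - g.q, -g.r, 1]
def mat (g : T9) : M6 := Matrix.fromBlocks (mA g) (mS g * mD g) 0 (mD g)
def sP (i : Fin 3) : Matrix (Fin 3) (Fin 3) (ZMod 2) :=
  ![!![0, 1, 0; 1, 0, 0; 0, 0, 1], !![1, 0, 0; 0, 0, 1; 0, 1, 0], !![1, 0, 0; 0, 1, 0; 0, 0, 0]] i
def sQ (i : Fin 3) : Matrix (Fin 3) (Fin 3) (ZMod 2) := ![0, 0, !![0, 0, 0; 0, 0, 0; 0, 0, 1]] i
def smat (i : Fin 3) : M6 := Matrix.fromBlocks (sP i) (sQ i) (sQ i) (sP i)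

def Emb1Stmt : Prop := (∀ g, mat g ∈ Matrix.symplecticGroup (Fin 3) (ZMod 2)) ∧
  (∀ g h, mat (g * h) = mat g * mat h) ∧ Function.Injective mat

def Emb2Stmt : Prop := (∀ i, smat i ∈ Matrix.symplecticGroup (Fin 3) (ZMod 2)) ∧
  ∀ i g, co i g = 0 → smat i * mat g = mat (σ i g) * smat i

def GenStmt : Prop := ∀ Y : Subgroup X6, (∀ (y : X6) g, y.1 = mat g → y ∈ Y) →
  (∀ (y : X6) i g, y.1 * smat i = smat i * mat g → y ∈ Y) → Y = ⊤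

def SpStmt : Prop := ∃ T : Subgroup X6, IsPGroup 2 T ∧ ∀ φ : X6 →* G0, Function.Injective φ →
  finrank K (H50.E83.Fix ((ι.comp φ) '' T)) = 6 ∧ 4 ≤ finrank K (H50.E83.Fix (Set.range (ι.comp φ)))

end Cfsg.Agent.H4.SV
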