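import Cfsg.Agent.Lead.T3Defs
import Cfsg.Agent.H25.FinField
import Cfsg.Agent.H79.QuadClass

/-! Project T3, piece QB2: uniqueness of finite pseudo-quadratic data. -/

set_option autoImplicit false

namespace Cfsg.Agent.H4.T3Q

open Cfsg.Agent.Lead.T3

universe u

variable {F : Type} [Field F] {Y Y' : Type u} [Group Y] [Group Y'] (d : QD F Y) (d' : QD F Y')

theorem Q_one : d.Q 1 = 0 := by simpa [d.sm_zero] using d.Q_sm 0 1

theorem z_zero : d.z 0 = 1 := by simpa using d.z_add 0 0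

theorem sm_one' (t : F) : d.sm t 1 = 1 := by simpa using d.sm_mul t 1 1

theorem Q_mul_z (y : Y) (t : F) : d.Q (y * d.z t) = d.Q y + d.Q (d.z t) := by
  rw [d.Q_mul, d.B_z, add_zero]

theorem mul_form (y : Y) (s t v w : F) :
    d.sm t y * d.z v * (d.sm s y * d.z w) = d.sm (s + t) y * d.z (v + w - d.σ s * t * d.Q y) := by
  rw [d.sm_add, mul_assoc _ (d.sm s y), ← d.z_comm _ (d.sm s y), ← d.z_comm _ (d.sm s y),
    mul_assoc (d.sm t y), mul_assoc (d.sm t y), ← mul_assoc (d.z _), ← mul_assoc (d.z _), ← d.z_add,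
    ← d.z_add]
  congr 3; ring

theorem eq_z {y : Y} {v : F} (h : y * d.z (-v) = 1) : y = d.z v := by
  rw [← mul_one y, ← z_zero d, ← neg_add_cancel v, d.z_add, ← mul_assoc, h, one_mul]

theorem eq_form {y y0 : Y} {t v : F} (h : y * d.sm t y0 = d.z v) : ∃ s w, y = d.sm s y0 * d.z w := by
  refine ⟨-t, v + d.σ t * -t * d.Q y0, mul_right_cancel (b := d.sm t y0) ?_⟩
  have := mul_form d y0 t (-t) (v + d.σ t * -t * d.Q y0) 0
  rw [z_zero, mul_one, add_neg_cancel, d.sm_zero, one_mul, add_zero, add_sub_cancel_right] at this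
  rw [h, this]

theorem sm_eq_z {y : Y} (hy : ∀ v, y ≠ d.z v) {t v : F} (h : d.sm t y = d.z v) : t = 0 := by
  by_contra ht
  have := congrArg (d.sm t⁻¹) h
  rw [d.sm_sm, inv_mul_cancel₀ ht, d.sm_one, d.sm_z] at this
  exact hy _ this

theorem sm_inj {y : Y} (hy : ∀ v, y ≠ d.z v) : Function.Injective fun t => d.sm t y := fun s t h => by
  have h1 := mul_form d y (-s) s 0 0
  have h2 := mul_form d y (-s) t 0 0
  rw [← show d.sm s y = d.sm t y from h, h1, neg_add_cancel, d.sm_zero, one_mul] at h2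
  have h3 := eq_mul_inv_of_mul_eq h2.symm
  rw [← eq_inv_of_mul_eq_one_left (by rw [← d.z_add, neg_add_cancel, z_zero]), ← d.z_add] at h3
  exact neg_add_eq_zero.1 (sm_eq_z d hy h3)

theorem lt_card [Finite Y] {y y2 : Y} (hy : ∀ v, y ≠ d.z v) (h : ∀ t, y2 ≠ d.sm t y) :
    Nat.card F < Nat.card Y := by
  haveI := Finite.of_injective _ (sm_inj d hy)
  refine (Nat.card_le_card_of_injective _ (sm_inj d hy)).lt_of_ne fun e => ?_
  obtain ⟨t, ht⟩ := ((Nat.bijective_iff_injective_and_card _).2 ⟨sm_inj d hy, e⟩).2 y2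
  exact h t ht.symm

/-- The conclusion for a given factor `c`. -/
def Con (c : F) : Prop :=
  ∃ f : Y ≃* Y', (∀ y, d'.Q (f y) = c * d.Q y) ∧ (∀ t y, f (d.sm t y) = d'.sm t (f y)) ∧
    (∀ y y', d'.Bf (f y) (f y') = c * d.Bf y y') ∧ ∀ t, d'.z (c * t) = f (d.z t)

theorem graph [Finite Y'] (hc : Nat.card Y = Nat.card Y') {c : F} (c0 : c ≠ 0) (R : Y → Y' → Prop)
    (hm : ∀ a a' b b', R a a' → R b b' → R (a * b) (a' * b'))
    (hQ : ∀ a a', R a a' → d'.Q a' = c * d.Q a) (hs : ∀ a, ∃ a', R a a')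
    (hsm : ∀ t a a', R a a' → R (d.sm t a) (d'.sm t a')) (hz : ∀ t, R (d.z t) (d'.z (c * t))) :
    Con d d' c := by
  choose f hf using hs
  have un : ∀ a a', R a a' → f a = a' := fun a a' h => by
    have k : ∀ b, R a b → f a⁻¹ * b = 1 := fun b hb => d'.Q_ne _ (by
      rw [hQ _ _ (hm _ _ _ _ (hf a⁻¹) hb), inv_mul_cancel, Q_one, mul_zero])
    exact mul_left_cancel ((k _ (hf a)).trans (k _ h).symm)
  let φ : Y →* Y' := MonoidHom.mk' f fun a b => un _ _ (hm _ _ _ _ (hf a) (hf b))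
  have hi : Function.Injective φ := (injective_iff_map_eq_one φ).2 fun a ha => d.Q_ne _ (by
    have := hQ _ _ (hf a)
    rw [show f a = 1 from ha, Q_one] at this
    exact (mul_eq_zero.1 this.symm).resolve_left c0)
  have hq : ∀ a, d'.Q (φ a) = c * d.Q a := fun a => hQ _ _ (hf a)
  refine ⟨MulEquiv.ofBijective φ ((Nat.bijective_iff_injective_and_card _).2 ⟨hi, hc⟩), hq,
    fun t y => un _ _ (hsm t _ _ (hf y)), fun y y' => ?_, fun t => (un _ _ (hz t)).symm⟩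
  have := hq (y * y')
  rw [map_mul, d'.Q_mul, d.Q_mul, hq, hq] at this
  change d'.Bf (φ y) (φ y') = _
  linear_combination this

theorem one_gen [Finite Y'] (hc : Nat.card Y = Nat.card Y') {c : F} (c0 : c ≠ 0) (hσ : d'.σ = d.σ)
    {y : Y} {y' : Y'} (hw : d'.Q y' = c * d.Q y) (hz : ∀ v, d'.Q (d'.z (c * v)) = c * d.Q (d.z v))
    (hs : ∀ a, ∃ t v, a = d.sm t y * d.z v) : Con d d' c := by
  refine graph d d' hc c0 (fun a a' => ∃ t v, a = d.sm t y * d.z v ∧ a' = d'.sm t y' * d'.z (c * v))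
    ?_ ?_ (fun a => (hs a).elim fun t ⟨v, e⟩ => ⟨_, t, v, e, rfl⟩) ?_ fun t =>
      ⟨0, t, by rw [d.sm_zero, one_mul], by rw [d'.sm_zero, one_mul]⟩
  · rintro _ _ _ _ ⟨t, v, rfl, rfl⟩ ⟨s, w, rfl, rfl⟩
    refine ⟨_, _, mul_form d y s t v w, ?_⟩
    rw [mul_form, hσ, hw]; congr 2; ring
  · rintro _ _ ⟨t, v, rfl, rfl⟩
    rw [Q_mul_z, Q_mul_z, d.Q_sm, d'.Q_sm, hσ, hw, hz]; ring
  · rintro s _ _ ⟨t, v, rfl, rfl⟩
    refine ⟨s * t, s * d.σ s * v, by rw [d.sm_mul, d.sm_sm, d.sm_z], ?_⟩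
    rw [d'.sm_mul, d'.sm_sm, d'.sm_z, hσ]; congr 2; ring

/-! ### The quadratic case -/

section quad

variable {d} (h : ∀ t, d.z t = 1)
include h

theorem add1 (s t : F) (y : Y) : d.sm (s + t) y = d.sm t y * d.sm s y := by
  rw [d.sm_add, h, mul_one]

theorem comm1 (a b : Y) : a * b = b * a := by
  have e : ∀ y, d.sm (-1) y = y⁻¹ := fun y => eq_inv_of_mul_eq_one_left (by
    have := add1 h 1 (-1) y
    rwa [add_neg_cancel, d.sm_zero, d.sm_one, eq_comm] at this)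
  have := d.sm_mul (-1) a b
  rw [e, e, e, ← mul_inv_rev] at this
  exact inv_injective this

theorem B_self (y : Y) : d.Bf y y = 2 * d.Q y := by
  have := d.Q_sm (1 + 1) y
  rw [add1 h, d.sm_one, d.Q_mul, map_add, map_one] at this
  linear_combination this

theorem sig1 [Nontrivial Y] : d.σ = RingEquiv.refl F := RingEquiv.ext fun s => by
  obtain ⟨y, hy⟩ := exists_ne (1 : Y)
  have := d.Q_sm (s + 1) y
  rw [add1 h, d.sm_one, d.Q_mul, d.Q_sm, d.B_smr, B_self h, map_add, map_one] at this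
  exact mul_right_cancel₀ (mt (d.Q_ne y) hy) (by rw [RingEquiv.refl_apply]; linear_combination -this)

theorem Q2 [Nontrivial Y] (s t : F) (a b : Y) :
    d.Q (d.sm s a * d.sm t b) = s ^ 2 * d.Q a + t ^ 2 * d.Q b + s * t * d.Bf a b := by
  rw [d.Q_mul, d.Q_sm, d.Q_sm, d.B_sml, d.B_smr, sig1 h]; simp only [RingEquiv.refl_apply]; ring

theorem ind [Nontrivial Y] {a b : Y} (ha : a ≠ 1) (hb : ∀ t, b ≠ d.sm t a) {s t : F}
    (e : d.sm s a * d.sm t b = 1) : s = 0 ∧ t = 0 := by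
  have ht : t = 0 := by
    by_contra ht
    have := congrArg (d.sm t⁻¹) e
    rw [d.sm_mul, d.sm_sm, d.sm_sm, inv_mul_cancel₀ ht, d.sm_one, sm_one', comm1 h, ← h 0] at this
    obtain ⟨r, w, k⟩ := eq_form d this
    exact hb r (by rw [k, h, mul_one])
  rw [ht, d.sm_zero, mul_one, ← h 0] at e
  exact ⟨sm_eq_z d (fun v => by rwa [h]) e, ht⟩

theorem aniso [Nontrivial Y] {a b : Y} (ha : a ≠ 1) (hb : ∀ t, b ≠ d.sm t a) :
    H79.Aniso (d.Bf a b / d.Q a) (d.Q b / d.Q a) := fun s t e => ind h ha hb (d.Q_ne _ (by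
  have := mt (d.Q_ne a) ha
  rw [Q2 h]; field_simp at e; linear_combination e))

theorem span2 [Finite F] [Nontrivial Y] {a b : Y} (ha : a ≠ 1) (hb : ∀ t, b ≠ d.sm t a) (y : Y) :
    ∃ s t, y = d.sm s a * d.sm t b := by
  obtain ⟨r, s, t, h0, e⟩ := H79.exists_ternary_zero (d.Q y) (d.Q a) (d.Q b) (d.Bf y a) (d.Bf y b)
    (d.Bf a b)
  have e1 : d.sm r y * (d.sm s a * d.sm t b) = 1 := d.Q_ne _ (by
    rw [d.Q_mul, Q2 h, d.Q_sm, d.B_sml, d.B_right, d.B_smr, d.B_smr, sig1 h]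
    simp only [RingEquiv.refl_apply]; linear_combination e)
  by_cases hr : r = 0
  · rw [hr, d.sm_zero, one_mul] at e1
    exact absurd ⟨hr, ind h ha hb e1⟩ h0
  · have := congrArg (d.sm r⁻¹) e1
    rw [d.sm_mul, d.sm_mul, d.sm_sm, d.sm_sm, d.sm_sm, inv_mul_cancel₀ hr, d.sm_one, sm_one'] at this
    refine ⟨-(r⁻¹ * s), -(r⁻¹ * t), eq_inv_of_mul_eq_one_left this ▸ inv_eq_of_mul_eq_one_right ?_⟩
    rw [comm1 h (d.sm (-(r⁻¹ * s)) a), mul_assoc, ← mul_assoc (d.sm _ b), ← add1 h, neg_add_cancel,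
      d.sm_zero, one_mul, ← add1 h, neg_add_cancel, d.sm_zero]

theorem mul2 (a b : Y) (s t s' t' : F) : d.sm s a * d.sm t b * (d.sm s' a * d.sm t' b) =
    d.sm (s' + s) a * d.sm (t' + t) b := by
  rw [add1 h, add1 h, mul_assoc, mul_assoc, ← mul_assoc (d.sm t b), comm1 h (d.sm t b), mul_assoc]

end quad

theorem pair [Finite F] {b c b' c' : F} (h : H79.Aniso b c) (h' : H79.Aniso b' c') :
    ∃ u v, 2 * u + v * b' = b ∧ u ^ 2 + v ^ 2 * c' + u * v * b' = c := by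
  by_cases h2 : (2 : F) = 0
  · have hb := h.ne_zero_of_two h2
    have hb' := h'.ne_zero_of_two h2
    have k : ∀ {b c : F}, H79.Aniso b c → b ≠ 0 → ∀ t : F, t ^ 2 + t + c / b ^ 2 ≠ 0 :=
      fun {b c} h hb t e => H79.aniso_iff.1 h (t * b) (by field_simp at e; linear_combination e)
    obtain ⟨t, ht⟩ := H79.artin_schreier h2 (k h hb) (k h' hb')
    refine ⟨t * b, b / b', by rw [h2]; field_simp; ring, ?_⟩
    field_simp at ht ⊢
    linear_combination ht - c * b' ^ 2 * h2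
  · obtain ⟨r, hr⟩ := H79.isSquare_mul_of_not (h.not_isSquare h2) (h'.not_isSquare h2)
    have hd := h'.disc_ne_zero
    obtain ⟨v, hv⟩ : ∃ v, v ^ 2 * (b' ^ 2 - 4 * c') = b ^ 2 - 4 * c :=
      ⟨r / (b' ^ 2 - 4 * c'), by field_simp; linear_combination -hr⟩
    refine ⟨(b - v * b') / 2, v, by field_simp; ring, ?_⟩
    field_simp
    linear_combination -hv

theorem quad [Finite F] [Finite Y] [Finite Y'] [Nontrivial Y] [Nontrivial Y']
    (hc : Nat.card Y = Nat.card Y') (h : ∀ t, d.z t = 1) (h' : ∀ t, d'.z t = 1) :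
    ∃ c, c ≠ 0 ∧ Con d d' c := by
  obtain ⟨a, ha⟩ := exists_ne (1 : Y)
  obtain ⟨a', ha'⟩ := exists_ne (1 : Y')
  have q := mt (d.Q_ne a) ha
  have q' := mt (d'.Q_ne a') ha'
  have c0 := div_ne_zero q' q
  refine ⟨_, c0, ?_⟩
  by_cases hs : ∀ y, ∃ t, y = d.sm t a
  · exact one_gen d d' hc c0 ((sig1 h').trans (sig1 h).symm) (div_mul_cancel₀ _ q).symm
      (fun v => by rw [h, h', Q_one, Q_one, mul_zero]) fun y =>
      (hs y).imp fun t e => ⟨0, by rw [h, mul_one, e]⟩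
  push Not at hs
  obtain ⟨b, hb⟩ := hs
  obtain ⟨b', hb'⟩ : ∃ b', ∀ t, b' ≠ d'.sm t a' := by
    by_contra! k
    exact (lt_card d (fun v => by rwa [h]) hb).not_ge
      (hc ▸ Nat.card_le_card_of_surjective (fun t => d'.sm t a') fun y => (k y).imp fun _ => Eq.symm)
  obtain ⟨u, v, e1, e2⟩ := pair (aniso h ha hb) (aniso h' ha' hb')
  refine graph d d' hc c0 (fun x x' => ∃ s t, x = d.sm s a * d.sm t b ∧
    x' = d'.sm s a' * d'.sm t (d'.sm u a' * d'.sm v b')) ?_ ?_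
    (fun x => (span2 h ha hb x).elim fun s ⟨t, e⟩ => ⟨_, s, t, e, rfl⟩) ?_ fun t =>
      ⟨0, 0, by rw [h, d.sm_zero, d.sm_zero, mul_one], by rw [h', d'.sm_zero, d'.sm_zero, mul_one]⟩
  · rintro _ _ _ _ ⟨s, t, rfl, rfl⟩ ⟨s', t', rfl, rfl⟩
    exact ⟨_, _, mul2 h _ _ _ _ _ _, mul2 h' _ _ _ _ _ _⟩
  · rintro _ _ ⟨s, t, rfl, rfl⟩
    rw [Q2 h, Q2 h', Q2 h', d'.B_right, d'.B_smr, d'.B_smr, B_self h']
    field_simp at e1 e2 ⊢
    linear_combination s * t * e1 + t ^ 2 * e2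
  · rintro r _ _ ⟨s, t, rfl, rfl⟩
    exact ⟨r * s, r * t, by rw [d.sm_mul, d.sm_sm, d.sm_sm], by rw [d'.sm_mul, d'.sm_sm, d'.sm_sm]⟩

/-! ### The symplectic and unitary cases -/

theorem Qz2 (u s t : F) :
    d.Q (d.z (d.σ s * t * d.Q (d.z u))) = (s * d.σ t + t * d.σ s) * d.Q (d.z u) := by
  have := d.Q_sm (s + t) (d.z u)
  rw [d.sm_add, d.Q_mul, Q_mul_z, d.Q_sm, d.Q_sm, d.sm_z s, d.B_z, map_add] at this
  linear_combination this

theorem Qz (u t : F) : d.Q (d.z (t * d.Q (d.z u))) = (t + d.σ t) * d.Q (d.z u) := by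
  simpa [add_comm] using Qz2 d u 1 t

section uni

variable {d} {u : F} (hu : d.z u ≠ 1)
include hu

theorem c0 : d.Q (d.z u) ≠ 0 := mt (d.Q_ne _) hu

theorem invol (s : F) : d.σ (d.σ s) = s := by
  have := Qz2 d u s 1
  rw [mul_one, Qz, map_one] at this
  linear_combination mul_right_cancel₀ (c0 hu) this

theorem exQ {a : F} (ha : d.σ a = a) : ∃ v, d.Q (d.z v) = a * d.Q (d.z u) := by
  have h := c0 hu
  have e := Qz d u (u / d.Q (d.z u))
  rw [div_mul_cancel₀ _ h] at e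
  refine ⟨a * (u / d.Q (d.z u)) * d.Q (d.z u), ?_⟩
  rw [Qz, map_mul, ha]
  linear_combination -a * e

theorem mem_z {y : Y} (hy : d.σ (d.Q y / d.Q (d.z u)) = d.Q y / d.Q (d.z u)) : ∃ v, y = d.z v := by
  obtain ⟨v, hv⟩ := exQ hu (a := -(d.Q y / d.Q (d.z u))) (by rw [map_neg, hy])
  refine ⟨-v, eq_z d (d.Q_ne _ ?_)⟩
  rw [neg_neg, Q_mul_z, hv, neg_mul, div_mul_cancel₀ _ (c0 hu), add_neg_cancel]

theorem lt_card' [Finite Y] {y : Y} (hy : ∀ v, y ≠ d.z v) : Nat.card F < Nat.card Y :=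
  lt_card d (y2 := d.z u) hy fun t e => hu (by rw [e, sm_eq_z d hy e.symm, d.sm_zero])

theorem sig_iff [Finite F] [Finite Y] : d.σ = RingEquiv.refl F ↔ Nat.card F = Nat.card Y := by
  have h0 := c0 hu
  have hz : Function.Injective d.z ↔ ∀ v, d.z v = 1 → v = 0 :=
    injective_iff_map_eq_zero (AddMonoidHom.mk' (fun v => Additive.ofMul (d.z v)) d.z_add)
  refine ⟨fun h => Nat.card_eq_of_bijective d.z ⟨hz.2 fun v hv => ?_, fun y =>
    (mem_z hu (by rw [h]; rfl)).imp fun _ => Eq.symm⟩, fun h => RingEquiv.ext fun s => ?_⟩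
  · have e := Qz d u (u / d.Q (d.z u))
    have e' := Qz d u (v / d.Q (d.z u))
    rw [div_mul_cancel₀ _ h0, h, RingEquiv.refl_apply] at e e'
    rw [hv, Q_one] at e'
    field_simp at e e'
    exact mul_right_cancel₀ h0 (by linear_combination v * e - u * e')
  · have hs : Function.Surjective d.z := fun y => by
      by_contra! k
      exact (lt_card' hu fun v => (k v).symm).ne h
    have := hz.1 ((Nat.bijective_iff_surjective_and_card _).2 ⟨hs, h⟩).1 _ (d.Q_ne _ (by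
      rw [Qz d u (d.σ s - s), map_sub, invol hu]; ring))
    exact sub_eq_zero.1 ((mul_eq_zero.1 this).resolve_right h0)

theorem span1 [Finite F] (hσ : d.σ ≠ RingEquiv.refl F) {y0 : Y} (hy : ∀ v, y0 ≠ d.z v) (y : Y) :
    ∃ t v, y = d.sm t y0 * d.z v := by
  haveI := Fintype.ofFinite F
  have h0 := c0 hu
  have hi := invol hu
  obtain ⟨a0, ha0⟩ : ∃ a, d.Q y0 = a * d.Q (d.z u) := ⟨_, (div_mul_cancel₀ _ h0).symm⟩
  obtain ⟨a, ha⟩ : ∃ a, d.Q y = a * d.Q (d.z u) := ⟨_, (div_mul_cancel₀ _ h0).symm⟩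
  obtain ⟨b, hb⟩ : ∃ a, d.Bf y y0 = a * d.Q (d.z u) := ⟨_, (div_mul_cancel₀ _ h0).symm⟩
  have hg : a0 - d.σ a0 ≠ 0 := fun e => (mem_z hu (y := y0) (by
    rw [ha0, mul_div_cancel_right₀ _ h0]; exact (sub_eq_zero.1 e).symm)).elim hy
  obtain ⟨β, rfl⟩ : ∃ β, b = β * (a0 - d.σ a0) := ⟨_, (div_mul_cancel₀ _ hg).symm⟩
  obtain ⟨m, hm⟩ : ∃ m, a - d.σ a = m * (a0 - d.σ a0) := ⟨_, (div_mul_cancel₀ _ hg).symm⟩
  obtain ⟨e, he⟩ := H25.exists_norm_eq hσ hi (c := β * d.σ β - m) (by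
    have := congrArg d.σ hm
    simp only [map_sub, map_mul, hi] at this ⊢
    exact mul_right_cancel₀ hg (by linear_combination -hm - this))
  obtain ⟨v, hv⟩ := mem_z hu (y := y * d.sm (e - d.σ β) y0) (by
    rw [d.Q_mul, d.Q_sm, d.B_smr, ha0, ha, hb, ← mul_assoc, ← mul_assoc, ← add_mul, ← add_mul,
      mul_div_cancel_right₀ _ h0]
    simp only [map_sub, map_add, map_mul, hi]
    linear_combination -hm - (a0 - d.σ a0) * he)
  exact eq_form d hv

end uni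

theorem uni [Finite F] [Finite Y] [Finite Y'] (hc : Nat.card Y = Nat.card Y') {u u' : F}
    (hu : d.z u ≠ 1) (hu' : d'.z u' ≠ 1) : ∃ c, c ≠ 0 ∧ d'.σ = d.σ ∧ Con d d' c := by
  haveI := Fintype.ofFinite F
  have h0 := c0 hu
  have h0' := c0 hu'
  have hi := invol hu
  have hσ : d'.σ = d.σ := by
    have k : d'.σ = RingEquiv.refl F ↔ d.σ = RingEquiv.refl F := by rw [sig_iff hu, sig_iff hu', hc]
    by_cases h : d.σ = RingEquiv.refl F
    · exact (k.2 h).trans h.symm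
    · exact RingEquiv.ext fun s => (H25.invol_eq_pow' (mt k.1 h) (invol hu')
        (H25.card_fixedSub h hi) s).trans (H25.invol_eq_pow h hi s).symm
  have c0 := div_ne_zero h0' h0
  have hz : ∀ v, d'.Q (d'.z (d'.Q (d'.z u') / d.Q (d.z u) * v)) =
      d'.Q (d'.z u') / d.Q (d.z u) * d.Q (d.z v) := fun v => by
    have := Qz d u (v / d.Q (d.z u))
    rw [div_mul_cancel₀ _ h0] at this
    rw [this, div_mul_comm, Qz, hσ]; field_simp
  refine ⟨_, c0, hσ, ?_⟩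
  by_cases hs : ∀ y, ∃ v, y = d.z v
  · exact one_gen d d' hc c0 hσ (y := 1) (y' := 1) (by rw [Q_one, Q_one, mul_zero]) hz fun y =>
      ⟨0, (hs y).imp fun v e => by rw [d.sm_zero, one_mul, e]⟩
  push Not at hs
  obtain ⟨y, hy⟩ := hs
  have hl := lt_card' hu hy
  have hn : d.σ ≠ RingEquiv.refl F := fun e => hl.ne ((sig_iff hu).1 e)
  obtain ⟨y', hy'⟩ : ∃ y', ∀ v, y' ≠ d'.z v := by
    by_contra! k
    exact hl.not_ge (hc ▸ Nat.card_le_card_of_surjective d'.z fun y => (k y).imp fun _ => Eq.symm)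
  obtain ⟨a, ha⟩ : ∃ a, d.Q y = a * d.Q (d.z u) := ⟨_, (div_mul_cancel₀ _ h0).symm⟩
  obtain ⟨a', ha'⟩ : ∃ a, d'.Q y' = a * d'.Q (d'.z u') := ⟨_, (div_mul_cancel₀ _ h0').symm⟩
  have hg : a' - d.σ a' ≠ 0 := fun e => (mem_z hu' (y := y') (by
    rw [ha', mul_div_cancel_right₀ _ h0', hσ]; exact (sub_eq_zero.1 e).symm)).elim hy'
  have hg' : d.σ a' - a' ≠ 0 := fun e => hg (by linear_combination -e)
  obtain ⟨t, ht⟩ := H25.exists_norm_eq hn hi (c := (a - d.σ a) / (a' - d.σ a')) (by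
    simp only [map_sub, map_div₀, hi]; field_simp; ring)
  obtain ⟨v, hv⟩ := exQ hu' (a := a - t * d.σ t * a') (by
    rw [hσ, map_sub, map_mul, map_mul, hi]
    field_simp at ht
    linear_combination ht)
  refine one_gen d d' hc c0 hσ (y := y) (y' := d'.sm t y' * d'.z v) ?_ hz (span1 hu hn hy)
  rw [Q_mul_z, d'.Q_sm, hv, ha, ha', hσ]; field_simp; ring

theorem qb2Stmt : Qb2Stmt.{u} := by
  intro F Y Y' _ _ _ _ _ _ _ d d' hc hz
  by_cases h : ∀ t, d.z t = 1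
  · haveI : Nontrivial Y' := Finite.one_lt_card_iff_nontrivial.1 (hc ▸ Finite.one_lt_card)
    obtain ⟨c, c0, f, hf⟩ := quad d d' hc h (hz.1 h)
    exact ⟨f, c, c0, (sig1 (hz.1 h)).trans (sig1 h).symm, hf⟩
  · obtain ⟨u', hu'⟩ := not_forall.1 (mt hz.2 h)
    obtain ⟨u, hu⟩ := not_forall.1 h
    obtain ⟨c, c0, hσ, f, hf⟩ := uni d d' hc hu hu'
    exact ⟨f, c, c0, hσ, hf⟩

end Cfsg.Agent.H4.T3Q
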