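import Cfsg.Agent.H97.U5Defs

/-! Project U5F, piece CHS: characteristic subgroups of `U T`. -/

set_option autoImplicit false

namespace Cfsg.Agent.H4.U5

open Cfsg.Agent.H97.U5 Subgroup
open scoped commutatorElement

universe u

variable {K : Type u} [Field K] {T : Hm K} {g : U T}

theorem skew_aux {t e : K} (h : ∀ w, ∃ n, n + T.σ n = 0 ∧ t * n = w * e) : e = 0 := by
  by_contra he
  by_cases ht : t = 0
  · obtain ⟨n, -, k⟩ := h 1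
    exact he (by simpa [ht] using k.symm)
  · obtain ⟨n, hn, k⟩ := h (t * T.hf / e)
    rw [div_mul_cancel₀ _ he] at k
    rw [mul_left_cancel₀ ht k, T.hf_add] at hn
    exact one_ne_zero hn

theorem skew_d (h : g.v2 = 0) : g.d + T.σ g.d = 0 := by simpa [h] using g.hd

theorem Z3_of (h : ∀ k, ⁅g, k⁆ ∈ Z2 T) : g ∈ Z3 T :=
  ⟨by simpa [cm_v1] using (h (rv T 0 1)).2.1, by simpa [cm_v1] using (h (xt T 1)).2.1⟩

theorem Z2_of (h : ∀ k, ⁅g, k⁆ ∈ Z T) : g ∈ Z2 T := by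
  obtain ⟨h1, h2⟩ := Z3_of fun k => Z_le_Z2 (h k)
  exact ⟨h1, by simpa [cm_m, h1, h2, rv_d] using (h (rv T 0 1)).2.2.2.1, h2,
    by simpa [cm_m, h1, h2] using (h (xt T 1)).2.2.2.1⟩

theorem Z_of (h : ∀ k : U T, ⁅g, k⁆ = 1) : g ∈ Z T := by
  have h2 := Z2_of fun k => h k ▸ one_mem _
  refine ⟨h2.1, h2.2.1, h2.2.2.1, T.eq_zero_of_skew fun w => ?_, h2.2.2.2⟩
  have := cm_a2 (g := xt T (T.σ w)) h2
  rw [← commutatorElement_inv, h, inv_one] at this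
  simp only [U.one_a, xt_t, Hm.inv] at this
  linear_combination -this

theorem V_of (hg : g ∈ R T) (h : ∀ k ∈ R T, ⁅g, k⁆ = 1) : g ∈ V T := by
  have h1 := (cm_RR hg (show rv T 0 1 ∈ R T from rfl)).2.2
  have h2 := (cm_RR hg (show rv T 1 0 ∈ R T from rfl)).2.2
  rw [h _ rfl] at h1 h2
  exact ⟨hg, by simpa using h1, by simpa using h2.symm⟩

theorem QV_iff : g ∈ QV T ↔ ∀ x ∈ Z3 T, ∃ y ∈ V T, ⁅g, x * y⁆ ∈ Z T := by
  refine ⟨fun h x hx => ?_, fun h => T.σ_eq_zero.1 (skew_aux (T := T) (t := g.t) fun w => ?_)⟩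
  · refine ⟨xd T (-x.d) (by rw [map_neg]; linear_combination -skew_d hx.2), ⟨rfl, rfl, rfl⟩,
      (cm_QVR h ⟨?_, ?_, ?_⟩).1⟩ <;> simp [hx.1, hx.2]
  · obtain ⟨y, hy, e⟩ := h (rv T (-w) 0) ⟨rfl, rfl⟩
    have := e.2.2.2.1
    rw [cm_m3 (mul_mem ⟨rfl, rfl⟩ (V_le_Z3 hy))] at this
    refine ⟨y.d, skew_d hy.2.2, ?_⟩
    simp [hy.2.1] at this
    linear_combination this

theorem Q_iff : g ∈ Q T ↔ g ∈ QV T ∧ ∀ x ∈ QV T, ∃ y ∈ V T, ⁅g, x * y⁆ ∈ Z T := by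
  refine ⟨fun h => ⟨h.1, fun x hx => ?_⟩, fun ⟨hg, h⟩ => ⟨hg, skew_aux (T := T) (t := g.t) fun w => ?_⟩⟩
  · have hx' : x.v2 = 0 := hx
    refine ⟨xd T (-x.d) (by rw [map_neg]; linear_combination -skew_d hx'), ⟨rfl, rfl, rfl⟩,
      (cm_QQ h ⟨?_, ?_⟩).1⟩ <;> simp [hx']
  · obtain ⟨y, hy, e⟩ := h (xt T w) rfl
    have := e.2.2.2.1
    rw [(cm_QV hg (mul_mem rfl (Z3_le_QV (V_le_Z3 hy)))).2] at this
    refine ⟨y.d, skew_d hy.2.2, ?_⟩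
    simp [hy.1] at this
    linear_combination this

theorem cm_aut (β : MulAut (U T)) (g k : U T) : ⁅β g, k⁆ = β ⁅g, β⁻¹ k⁆ := by
  rw [map_commutatorElement, MulAut.apply_inv_self]

theorem chZ (β : MulAut (U T)) (h : g ∈ Z T) : β g ∈ Z T := Z_of fun k => by
  rw [cm_aut, commutatorElement_eq_one_iff_mul_comm.2 (comm_Z h _), map_one]

theorem chZ2 (β : MulAut (U T)) (h : g ∈ Z2 T) : β g ∈ Z2 T := Z2_of fun k => by
  rw [cm_aut]; exact chZ β (cm_Z' h)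

theorem chZ3 (β : MulAut (U T)) (h : g ∈ Z3 T) : β g ∈ Z3 T := Z3_of fun k => by
  rw [cm_aut]; exact chZ2 β (cm_Z2' h)

theorem chR (β : MulAut (U T)) (h : g ∈ R T) : β g ∈ R T := cR.le fun k hk => by
  rw [← MulAut.apply_inv_self _ β k, ← map_mul, ← map_mul, comm_VR (Z2_le_V (chZ2 β⁻¹ hk)) h]

theorem chV (β : MulAut (U T)) (h : g ∈ V T) : β g ∈ V T := V_of (chR β h.1) fun k hk => by
  rw [cm_aut, commutatorElement_eq_one_iff_mul_comm.2 (comm_VR h (chR β⁻¹ hk)), map_one]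

theorem ch_step (β : MulAut (U T)) {x : U T} (h : ∃ y ∈ V T, ⁅g, β⁻¹ x * y⁆ ∈ Z T) :
    ∃ y ∈ V T, ⁅β g, x * y⁆ ∈ Z T := by
  obtain ⟨y, hy, e⟩ := h
  exact ⟨β y, chV β hy, by rw [cm_aut, map_mul, MulAut.inv_apply_self]; exact chZ β e⟩

theorem chQV (β : MulAut (U T)) (h : g ∈ QV T) : β g ∈ QV T :=
  QV_iff.2 fun _ hx => ch_step β (QV_iff.1 h _ (chZ3 β⁻¹ hx))

theorem chQ (β : MulAut (U T)) (h : g ∈ Q T) : β g ∈ Q T :=
  Q_iff.2 ⟨chQV β h.1, fun _ hx => ch_step β ((Q_iff.1 h).2 _ (chQV β⁻¹ hx))⟩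

theorem chs : ChSStmt T := fun β =>
  ⟨fun _ => chQ β, fun _ => chR β, fun _ => chZ3 β, fun _ => chV β, fun _ => chZ2 β, fun _ => chZ β⟩

end Cfsg.Agent.H4.U5
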